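import Mathlib
import Cfsg.Agent.Lib.Involution.Basic
import Cfsg.Agent.Lib.Elem69.RealOdd
import Cfsg.Agent.Lib.RealPrimeDeg.Kernel

/-!
# Real elements of odd order, and their action on elementary abelian 2-groups

Tools for the theorem on disconnected real class size graphs.
-/

set_option autoImplicit false

namespace Cfsg.Agent.Lib.RealGraph

universe u

/-- A real element of odd order. -/
def RealOdd {X : Type*} [Group X] (z : X) : Prop := Odd (orderOf z) ∧ ∃ g : X, g * z * g⁻¹ = z⁻¹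

/-- A `2`-element. -/
def TwoEl {X : Type*} [Group X] (x : X) : Prop := ∃ k : ℕ, x ^ 2 ^ k = 1

section Group

variable {X : Type*} [Group X]

theorem TwoEl.map {Y : Type*} [Group Y] (f : X →* Y) {x : X} (h : TwoEl x) : TwoEl (f x) := by
  obtain ⟨k, hk⟩ := h
  exact ⟨k, by rw [← map_pow, hk, map_one]⟩

theorem twoEl_of_mul_self {x : X} (h : x * x = 1) : TwoEl x :=
  ⟨1, by rw [pow_one, pow_two, h]⟩

theorem twoEl_of_mem {T : Subgroup X} (hT : IsPGroup 2 T) {x : X} (hx : x ∈ T) : TwoEl x := by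
  obtain ⟨k, hk⟩ := hT ⟨x, hx⟩
  exact ⟨k, by simpa using congrArg (Subgroup.subtype T) hk⟩

theorem TwoEl.isPGroup_zpowers {x : X} (h : TwoEl x) : IsPGroup 2 (Subgroup.zpowers x) := by
  obtain ⟨k, hk⟩ := h
  intro ⟨y, hy⟩
  obtain ⟨i, rfl⟩ := Subgroup.mem_zpowers_iff.mp hy
  refine ⟨k, Subtype.ext ?_⟩
  rw [Subgroup.coe_pow, Subgroup.coe_one, ← zpow_natCast, ← zpow_mul, mul_comm, zpow_mul,
    zpow_natCast, hk, one_zpow]

/-- A 2-element of odd order is trivial. -/
theorem eq_one_of_twoEl_odd {x : X} (h : TwoEl x) (ho : Odd (orderOf x)) : x = 1 := by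
  obtain ⟨k, hk⟩ := h
  obtain ⟨j, -, hj⟩ := (Nat.dvd_prime_pow Nat.prime_two).mp (orderOf_dvd_of_pow_eq_one hk)
  rcases j with _ | j
  · exact orderOf_eq_one_iff.mp (by simpa using hj)
  · exfalso
    rw [hj, Nat.odd_pow_iff (Nat.succ_ne_zero j)] at ho
    exact absurd ho (by decide)

/-- Every nontrivial 2-element has a power which is an involution. -/
theorem TwoEl.exists_involution {x : X} (h : TwoEl x) (hne : x ≠ 1) :
    ∃ i : ℕ, (x ^ i) * (x ^ i) = 1 ∧ x ^ i ≠ 1 := by
  classical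
  set k := Nat.find h with hk
  have hk1 : x ^ 2 ^ k = 1 := Nat.find_spec h
  rcases hkk : k with _ | j
  · rw [hkk, pow_zero, pow_one] at hk1
    exact absurd hk1 hne
  · refine ⟨2 ^ j, ?_, Nat.find_min h (by omega)⟩
    rw [← pow_add, ← two_mul, ← pow_succ', ← hkk, hk1]

theorem sq_pow_eq_one_of_odd {x : X} (ho : Odd (orderOf x)) (h : x * x = 1) : x = 1 :=
  eq_one_of_twoEl_odd (twoEl_of_mul_self h) ho

theorem conj_inv_zpow {z g : X} (h : g * z * g⁻¹ = z⁻¹) (i : ℤ) :
    g * z ^ i * g⁻¹ = (z ^ i)⁻¹ := by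
  rw [← MulAut.conj_apply g (z ^ i), map_zpow, MulAut.conj_apply, h, inv_zpow]

theorem conj_inv_pow {z g : X} (h : g * z * g⁻¹ = z⁻¹) (i : ℕ) :
    g * z ^ i * g⁻¹ = (z ^ i)⁻¹ := by
  rw [← conj_pow, h, inv_pow]

theorem RealOdd.pow {z : X} (h : RealOdd z) (i : ℕ) : RealOdd (z ^ i) := by
  obtain ⟨ho, g, hg⟩ := h
  exact ⟨ho.of_dvd_nat (orderOf_pow_dvd i), g, conj_inv_pow hg i⟩

theorem RealOdd.map {Y : Type*} [Group Y] (f : X →* Y) {z : X} (h : RealOdd z) : RealOdd (f z) := by
  obtain ⟨ho, g, hg⟩ := h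
  exact ⟨ho.of_dvd_nat (orderOf_map_dvd f z), f g,
    by rw [← map_inv, ← map_mul, ← map_mul, hg, map_inv]⟩

theorem RealOdd.conj {z : X} (h : RealOdd z) (x : X) : RealOdd (x * z * x⁻¹) :=
  h.map (MulAut.conj x).toMonoidHom

/-- Split a natural number into a power of 2 and an odd part. -/
theorem two_pow_mul_odd {n : ℕ} (hn : n ≠ 0) : ∃ a o, Odd o ∧ n = 2 ^ a * o := by
  obtain ⟨a, o, ho, h⟩ := Nat.exists_eq_pow_mul_and_not_dvd hn 2 (by norm_num)
  exact ⟨a, o, Nat.not_even_iff_odd.mp fun he => ho he.two_dvd, h⟩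

/-- An inverting element may be taken to be a 2-element of the group it generates. -/
theorem exists_two_inverter [Finite X] {z g : X} (h : g * z * g⁻¹ = z⁻¹) :
    ∃ o : ℕ, TwoEl (g ^ o) ∧ g ^ o * z * (g ^ o)⁻¹ = z⁻¹ := by
  obtain ⟨a, o, ho, hn⟩ := two_pow_mul_odd (orderOf_pos g).ne'
  refine ⟨o, ⟨a, by rw [← pow_mul, mul_comm, ← hn, pow_orderOf_eq_one]⟩, ?_⟩
  have h2 : Commute (g ^ 2) z := by
    have h1 : g * z⁻¹ * g⁻¹ = z := by
      have := congrArg (·⁻¹) h
      simpa [mul_assoc] using this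
    show g ^ 2 * z = z * g ^ 2
    calc g ^ 2 * z = g * (g * z * g⁻¹) * g⁻¹ * g ^ 2 := by rw [pow_two]; group
      _ = g * z⁻¹ * g⁻¹ * g ^ 2 := by rw [h]
      _ = _ := by rw [h1]
  obtain ⟨j, rfl⟩ := ho
  have h3 : Commute ((g ^ 2) ^ j) z⁻¹ := (h2.pow_left j).inv_right
  calc g ^ (2 * j + 1) * z * (g ^ (2 * j + 1))⁻¹
      = (g ^ 2) ^ j * (g * z * g⁻¹) * ((g ^ 2) ^ j)⁻¹ := by rw [pow_succ, pow_mul]; group
    _ = _ := by rw [h, h3.eq, mul_inv_cancel_right]

/-- The dihedral alternative: two involutions generate a 2-group, or some nontrivial element of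
odd order, a power of their product, is inverted by both; in that case, unless the product has
odd order, some involution commutes with both and with that element. -/
theorem dihedral_split [Finite X] {u v : X} (hu : u * u = 1) (hv : v * v = 1) :
    ∃ i : ℕ, Odd (orderOf ((u * v) ^ i)) ∧ u * (u * v) ^ i * u⁻¹ = ((u * v) ^ i)⁻¹ ∧
      ((u * v) ^ i = 1 → IsPGroup 2 (Subgroup.closure ({u, v} : Set X))) ∧
      (Odd (orderOf (u * v)) ∨ ∃ c : X, c * c = 1 ∧ c ≠ 1 ∧ Commute c u ∧ Commute c v ∧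
        Commute c ((u * v) ^ i)) := by
  obtain ⟨a, o, ho, hn⟩ := two_pow_mul_odd (orderOf_pos (u * v)).ne'
  refine ⟨2 ^ a, ?_, ?_, ?_, ?_⟩
  · rw [orderOf_pow, hn, Nat.gcd_mul_right_left, Nat.mul_div_cancel_left _ (by positivity)]
    exact ho
  · rw [← zpow_natCast]
    exact Involution.conj_zpow_pair hu hv _
  · intro h d
    obtain ⟨d, hd⟩ := d
    obtain ⟨j, rfl | rfl⟩ := (Involution.mem_closure_pair_iff hu hv d).mp hd
    · refine ⟨a, Subtype.ext ?_⟩
      rw [Subgroup.coe_pow, Subgroup.coe_one]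
      show ((u * v) ^ j) ^ 2 ^ a = 1
      rw [← zpow_natCast, ← zpow_mul, mul_comm, zpow_mul, zpow_natCast, h, one_zpow]
    · refine ⟨1, Subtype.ext ?_⟩
      rw [Subgroup.coe_pow, Subgroup.coe_one, pow_one, pow_two]
      exact Involution.zpow_mul_mul_self hu hv j
  · rcases a with _ | a
    · left
      rw [hn, pow_zero, one_mul]
      exact ho
    right
    have he : Even (orderOf (u * v)) := by
      rw [hn, pow_succ]
      exact (Even.mul_left even_two _).mul_right _
    have hm : (u * v) ^ (orderOf (u * v) / 2) * (u * v) ^ (orderOf (u * v) / 2) = 1 := by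
      rw [← pow_add, ← two_mul, Nat.two_mul_div_two_of_even he, pow_orderOf_eq_one]
    refine ⟨(u * v) ^ (orderOf (u * v) / 2), hm, ?_, ?_, ?_, (Commute.refl _).pow_pow _ _⟩
    · refine pow_ne_one_of_lt_orderOf ?_ (Nat.div_lt_self (orderOf_pos _) one_lt_two)
      obtain ⟨m, hm'⟩ := he
      have := orderOf_pos (u * v)
      omega
    · exact Involution.commute_half_pow_left hu hv he
    · exact Involution.commute_half_pow_right hu hv he

/-- A real element of odd order of an image lifts to a real element of odd order. -/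
theorem exists_realOdd_lift {K L : Type u} [Group K] [Finite K] [Group L] (f : K →* L)
    (hf : Function.Surjective f) {z : L} (hz : RealOdd z) : ∃ y : K, RealOdd y ∧ f y = z := by
  have : Fact (Nat.Prime 2) := ⟨Nat.prime_two⟩
  obtain ⟨P⟩ : Nonempty (Sylow 2 f.ker) := inferInstance
  set M : Subgroup K := Subgroup.normalizer (((P : Subgroup f.ker).map f.ker.subtype : Subgroup K) : Set K)
    with hM
  have hMN : M ⊔ f.ker = ⊤ := Sylow.normalizer_sup_eq_top P
  have hg : Function.Surjective (f.comp M.subtype) := by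
    intro l
    obtain ⟨k, rfl⟩ := hf l
    obtain ⟨m, hm, n, hn, rfl⟩ := Subgroup.mem_sup_of_normal_right.mp
      (show k ∈ M ⊔ f.ker from hMN ▸ Subgroup.mem_top k)
    exact ⟨⟨m, hm⟩, by simp [MonoidHom.mem_ker.mp hn]⟩
  set P0 : Subgroup K := (P : Subgroup f.ker).map f.ker.subtype with hP0
  have hP0M : P0 ≤ M := Subgroup.le_normalizer
  have hPn : (P0.subgroupOf M).Normal := Subgroup.normal_subgroupOf_iff_le_normalizer hP0M |>.mpr le_rfl
  set g : M →* L := f.comp M.subtype with hgdef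
  have hPker : P0.subgroupOf M ≤ g.ker := by
    intro x hx
    obtain ⟨y, -, hy⟩ := Subgroup.mem_map.mp (Subgroup.mem_subgroupOf.mp hx)
    rw [MonoidHom.mem_ker, hgdef, MonoidHom.comp_apply, Subgroup.coe_subtype, ← hy]
    exact MonoidHom.mem_ker.mp y.2
  let g' : M ⧸ P0.subgroupOf M →* L := QuotientGroup.lift _ g hPker
  have hg' : Function.Surjective g' := QuotientGroup.lift_surjective_of_surjective _ _ hg _
  -- the kernel of `g'` has odd order
  have hodd : Odd (Nat.card g'.ker) := by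
    rw [← Nat.not_even_iff_odd, even_iff_two_dvd]
    intro hd
    obtain ⟨y, hy⟩ := exists_prime_orderOf_dvd_card' 2 hd
    rw [← Subgroup.orderOf_coe] at hy
    obtain ⟨x, hx⟩ := QuotientGroup.mk_surjective (y : M ⧸ P0.subgroupOf M)
    rw [← hx] at hy
    have hxk : (x : K) ∈ f.ker := by
      have h1 := MonoidHom.mem_ker.mp y.2
      rw [← hx] at h1
      exact MonoidHom.mem_ker.mpr h1
    have hx2 : (x : K) * x ∈ P0 := by
      have h1 : ((x * x : M) : M ⧸ P0.subgroupOf M) = 1 := by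
        rw [QuotientGroup.mk_mul, ← pow_two, ← hy, pow_orderOf_eq_one]
      exact Subgroup.mem_subgroupOf.mp ((QuotientGroup.eq_one_iff _).mp h1)
    -- `P` together with `x` is a 2-subgroup of the kernel
    let x' : f.ker := ⟨x, hxk⟩
    have hx'2 : x' * x' ∈ (P : Subgroup f.ker) := by
      obtain ⟨w, hw, hw'⟩ := Subgroup.mem_map.mp hx2
      rwa [show x' * x' = w from Subtype.ext hw'.symm]
    have hx'n : x' ∈ Subgroup.normalizer ((P : Subgroup f.ker) : Set f.ker) := by
      rw [Subgroup.mem_normalizer_iff]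
      intro w
      have := (Subgroup.mem_normalizer_iff.mp x.2) (w : K)
      simp only [Subgroup.mem_map] at this
      constructor
      · intro hw
        obtain ⟨w', hw', e⟩ := this.mp ⟨w, hw, rfl⟩
        rwa [show x' * w * x'⁻¹ = w' from Subtype.ext e.symm]
      · intro hw
        obtain ⟨w', hw', e⟩ := this.mpr ⟨_, hw, rfl⟩
        rwa [show w = w' from Subtype.ext e.symm]
    have hx'p : IsPGroup 2 (Subgroup.zpowers x') := by
      obtain ⟨k, hk⟩ := P.2 ⟨_, hx'2⟩
      refine TwoEl.isPGroup_zpowers ⟨k + 1, ?_⟩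
      rw [pow_succ', pow_mul, pow_two]
      simpa using congrArg (Subgroup.subtype (P : Subgroup f.ker)) hk
    have hsup := P.2.to_sup_of_normal_left' hx'p (Subgroup.zpowers_le.mpr hx'n)
    have heq := P.3 hsup le_sup_left
    have hxP : x' ∈ (P : Subgroup f.ker) := by
      rw [← heq]
      exact le_sup_right (a := (P : Subgroup f.ker)) (Subgroup.mem_zpowers x')
    have : (x : M ⧸ P0.subgroupOf M) = 1 :=
      (QuotientGroup.eq_one_iff _).mpr (Subgroup.mem_subgroupOf.mpr ⟨x', hxP, rfl⟩)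
    rw [this, orderOf_one] at hy
    omega
  obtain ⟨y₀, hy₀, hy₀r⟩ := RealPrimeDeg.exists_real_lift g' hg' hodd z (isConj_iff.mpr hz.2)
  obtain ⟨g₀, hg₀⟩ := isConj_iff.mp hy₀r
  -- the odd part of `y₀`
  obtain ⟨a, o, ho, hn⟩ := two_pow_mul_odd (orderOf_pos y₀).ne'
  have hco : (orderOf z).Coprime (2 ^ a) := ((Nat.coprime_two_right).mpr hz.1).pow_right a
  obtain ⟨e, he1, he2⟩ := Nat.chineseRemainder hco 1 0
  set y := y₀ ^ e with hydef
  have hyo : Odd (orderOf y) := by
    refine ho.of_dvd_nat (orderOf_dvd_of_pow_eq_one ?_)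
    rw [hydef, ← pow_mul]
    refine orderOf_dvd_iff_pow_eq_one.mp ?_
    rw [hn]
    exact mul_dvd_mul ((Nat.modEq_zero_iff_dvd).mp he2) dvd_rfl
  have hyz : g' y = z := by
    rw [hydef, map_pow, hy₀]
    exact (pow_eq_pow_iff_modEq.mpr he1).trans (pow_one z)
  have hyi : g₀ * y * g₀⁻¹ = y⁻¹ := conj_inv_pow hg₀ e
  -- lift through the 2-group `P0`
  have hP0p : IsPGroup 2 (P0.subgroupOf M) := (P.2.map f.ker.subtype).comap_subtype
  obtain ⟨m, hm⟩ := hP0p.exists_card_eq
  have hcop : (orderOf y).Coprime (Nat.card (P0.subgroupOf M)) := by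
    rw [hm]; exact ((Nat.coprime_two_right).mpr hyo).pow_right m
  obtain ⟨x₀, hx₀, hx₀o⟩ := Elem69.exists_lift_same_order (P0.subgroupOf M) y hcop
  obtain ⟨a₀, rfl⟩ := QuotientGroup.mk_surjective g₀
  obtain ⟨b, -, hb⟩ := Elem69.exists_conj_lift (P0.subgroupOf M) (u := x₀) (a := a₀) (-1)
    (by rwa [hx₀o]) (by
      rw [← QuotientGroup.eq_one_iff, QuotientGroup.mk_mul, QuotientGroup.mk_mul,
        QuotientGroup.mk_mul, QuotientGroup.mk_inv, QuotientGroup.mk_inv, hx₀, hyi, zpow_neg_one,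
        QuotientGroup.mk_inv, hx₀]
      group)
  rw [zpow_neg_one] at hb
  have hr : RealOdd x₀ := ⟨hx₀o ▸ hyo, b * a₀, hb⟩
  refine ⟨(x₀ : K), hr.map M.subtype, ?_⟩
  rw [← hyz, ← hx₀]
  rfl

end Group

section Module

variable {X : Type*} [Group X] {V : Type*} [AddCommGroup V] [DistribMulAction X V]

/-- The fixed points of an element, as an additive subgroup. -/
def fixSub (V : Type*) [AddCommGroup V] [DistribMulAction X V] (x : X) : AddSubgroup V where
  carrier := {v | x • v = v}
  zero_mem' := smul_zero x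
  add_mem' ha hb := by
    show x • _ = _
    rw [smul_add, ha, hb]
  neg_mem' ha := by
    show x • _ = _
    rw [smul_neg, ha]

theorem mem_fixSub {x : X} {v : V} : v ∈ fixSub V x ↔ x • v = v := Iff.rfl

theorem mem_fixSub_conj {g x : X} {v : V} :
    g • v ∈ fixSub V (g * x * g⁻¹) ↔ v ∈ fixSub V x := by
  rw [mem_fixSub, mem_fixSub, mul_smul, mul_smul, inv_smul_smul]
  exact (MulAction.injective g).eq_iff

theorem card_fixSub_conj (g x : X) :
    Nat.card (fixSub V (g * x * g⁻¹)) = Nat.card (fixSub V x) :=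
  (Nat.card_congr
    { toFun := fun v => ⟨g • (v : V), mem_fixSub_conj.mpr v.2⟩
      invFun := fun v => ⟨g⁻¹ • (v : V), by
        rw [← mem_fixSub_conj (g := g), smul_inv_smul]; exact v.2⟩
      left_inv := fun v => Subtype.ext (inv_smul_smul g _)
      right_inv := fun v => Subtype.ext (smul_inv_smul g _) }).symm

/-- `x` maps `U` to itself. -/
def Stab (x : X) (U : AddSubgroup V) : Prop := ∀ v ∈ U, x • v ∈ U

theorem Stab.mul {x y : X} {U : AddSubgroup V} (hx : Stab x U) (hy : Stab y U) : Stab (x * y) U :=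
  fun v hv => by rw [mul_smul]; exact hx _ (hy v hv)

theorem Stab.pow {x : X} {U : AddSubgroup V} (hx : Stab x U) (i : ℕ) : Stab (x ^ i) U := by
  induction i with
  | zero => exact fun v hv => by rw [pow_zero, one_smul]; exact hv
  | succ i ih => rw [pow_succ]; exact ih.mul hx

theorem stab_fixSub_of_commute {x y : X} (h : Commute x y) : Stab x (fixSub V y) := by
  intro v hv
  rw [mem_fixSub] at hv ⊢
  rw [← mul_smul, ← h.eq, mul_smul, hv]

/-- All nontrivial powers act without nonzero fixed points. -/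
def SemiReg (V : Type*) [AddCommGroup V] [DistribMulAction X V] (x : X) : Prop :=
  ∀ i : ℕ, ∀ v : V, x ^ i • v = v → v ≠ 0 → x ^ i = 1

theorem SemiReg.pow {x : X} (h : SemiReg V x) (j : ℕ) : SemiReg V (x ^ j) := by
  intro i v hv hv0
  rw [← pow_mul] at hv ⊢
  exact h _ v hv hv0

theorem semiReg_of_realOdd (hL1 : ∀ z : X, RealOdd z → ∀ v : V, z • v = v → v ≠ 0 → z = 1) {z : X}
    (hz : RealOdd z) : SemiReg V z :=
  fun i v hv hv0 => hL1 _ (hz.pow i) v hv hv0

variable [Finite X] [Finite V]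

/-- Semiregularity follows from the elements of prime order. -/
theorem semiReg_of_prime {x : X}
    (h : ∀ y : X, y ∈ Subgroup.zpowers x → (orderOf y).Prime → ∀ v : V, y • v = v → v = 0) :
    SemiReg V x := by
  intro i v hv hv0
  by_contra hne
  obtain ⟨p, hp, hd⟩ := Nat.exists_prime_and_dvd (mt orderOf_eq_one_iff.mp hne)
  have := Fact.mk hp
  refine hv0 (h ((x ^ i) ^ (orderOf (x ^ i) / p))
    (pow_mem (pow_mem (Subgroup.mem_zpowers x) i) _)
    (by rwa [orderOf_pow_orderOf_div (orderOf_pos _).ne' hd]) v ?_)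
  have : x ^ i ∈ MulAction.stabilizer X v := MulAction.mem_stabilizer_iff.mpr hv
  exact MulAction.mem_stabilizer_iff.mp (pow_mem this _)

/-- An element acting freely on the nonzero vectors of an invariant subgroup. -/
theorem orderOf_dvd_of_free_on {x : X} {U : AddSubgroup V}
    (hx : ∀ i : ℕ, ∀ v ∈ U, x ^ i • v = v → v ≠ 0 → x ^ i = 1) (hU : Stab x U) :
    orderOf x ∣ Nat.card U - 1 := by
  classical
  rcases eq_or_ne (Nat.card U) 1 with h1 | h1
  · rw [h1]; exact dvd_zero _
  let α := {v : V // v ∈ U ∧ v ≠ 0}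
  have hmem : ∀ (y : Subgroup.zpowers x) (v : V), v ∈ U ∧ v ≠ 0 →
      (y : X) • v ∈ U ∧ (y : X) • v ≠ 0 := by
    intro y v hv
    obtain ⟨i, hi⟩ := (mem_powers_iff_mem_zpowers (x := x)).mpr y.2
    simp only at hi
    exact ⟨by rw [← hi]; exact hU.pow i v hv.1, fun h => hv.2 (smul_eq_zero_iff_eq _ |>.mp h)⟩
  letI : MulAction (Subgroup.zpowers x) α :=
    { smul := fun y v => ⟨(y : X) • v.1, hmem y v.1 v.2⟩
      one_smul := fun v => Subtype.ext (one_smul X v.1)
      mul_smul := fun y z v => Subtype.ext (mul_smul (y : X) (z : X) v.1) }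
  have hfree : ∀ v : α, MulAction.stabilizer (Subgroup.zpowers x) v = ⊥ := by
    intro v
    rw [Subgroup.eq_bot_iff_forall]
    intro y hy
    obtain ⟨i, hi⟩ := (mem_powers_iff_mem_zpowers (x := x)).mpr y.2
    simp only at hi
    apply Subtype.ext
    rw [Subgroup.coe_one, ← hi]
    refine hx i v.1 v.2.1 ?_ v.2.2
    rw [hi]
    exact congrArg Subtype.val (MulAction.mem_stabilizer_iff.mp hy)
  have hcard := Nat.card_congr (MulAction.selfEquivOrbitsQuotientProd hfree)
  rw [Nat.card_prod, Nat.card_zpowers] at hcard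
  have hα : Nat.card α = Nat.card U - 1 := by
    have e : α ≃ {v : U // v ≠ 0} :=
      { toFun := fun v => ⟨⟨v.1, v.2.1⟩, fun h => v.2.2 (congrArg Subtype.val h)⟩
        invFun := fun v => ⟨v.1.1, v.1.2, fun h => v.2 (Subtype.ext h)⟩
        left_inv := fun v => rfl
        right_inv := fun v => rfl }
    have := Nat.card_congr (Equiv.sumCompl (fun v : U => v = 0))
    have hun : Unique {v : U // v = 0} := ⟨⟨⟨0, rfl⟩⟩, fun a => Subtype.ext a.2⟩
    rw [Nat.card_sum, @Nat.card_unique _ ⟨hun.default⟩ _] at this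
    change 1 + Nat.card {v : U // v ≠ 0} = Nat.card U at this
    rw [Nat.card_congr e]
    omega
  exact ⟨_, hα ▸ hcard.trans (mul_comm _ _)⟩

/-- A semiregular element acts freely on the nonzero vectors of an invariant subgroup. -/
theorem orderOf_dvd_card_sub_one {x : X} (hx : SemiReg V x) {U : AddSubgroup V} (hU : Stab x U) :
    orderOf x ∣ Nat.card U - 1 :=
  orderOf_dvd_of_free_on (fun i v _ => hx i v) hU

theorem pow_card_eq_self {x : X} (hx : SemiReg V x) {U : AddSubgroup V} (hU : Stab x U) :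
    x ^ Nat.card U = x := by
  have h := orderOf_dvd_iff_pow_eq_one.mp (orderOf_dvd_card_sub_one hx hU)
  have hpos : 0 < Nat.card U := Nat.card_pos
  conv_lhs => rw [← Nat.sub_add_cancel hpos]
  rw [pow_succ, h, one_mul]

variable (hV : ∀ v : V, v + v = 0)
include hV

theorem exists_card_pow (U : AddSubgroup V) : ∃ m : ℕ, Nat.card U = 2 ^ m := by
  have h : IsPGroup 2 (Multiplicative U) := fun y => ⟨1, by
    rw [pow_one, pow_two]
    exact Multiplicative.toAdd.injective (Subtype.ext (hV (Multiplicative.toAdd y).1))⟩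
  have := Fact.mk Nat.prime_two
  obtain ⟨m, hm⟩ := h.exists_card_eq
  exact ⟨m, by rwa [Nat.card_congr Multiplicative.toAdd] at hm⟩

omit [Finite X] [Finite V] in
theorem eq_of_add {a b : V} (h : a + b = 0) : a = b := by
  rw [eq_neg_of_add_eq_zero_left h, neg_eq_iff_add_eq_zero]
  exact hV b

/-- A 2-group acting on a nonzero invariant subgroup fixes a nonzero vector of it. -/
theorem exists_fixed {T : Subgroup X} (hT : IsPGroup 2 T) {U : AddSubgroup V}
    (hU : ∀ x ∈ T, Stab x U) (hne : Nat.card U ≠ 1) :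
    ∃ v ∈ U, v ≠ 0 ∧ ∀ x ∈ T, x • v = v := by
  have := Fact.mk Nat.prime_two
  letI : MulAction T U :=
    { smul := fun x v => ⟨(x : X) • v.1, hU x x.2 v.1 v.2⟩
      one_smul := fun v => Subtype.ext (one_smul X v.1)
      mul_smul := fun x y v => Subtype.ext (mul_smul (x : X) (y : X) v.1) }
  have h0 : (0 : U) ∈ MulAction.fixedPoints T U := fun x => Subtype.ext (smul_zero (x : X))
  obtain ⟨m, hm⟩ := exists_card_pow hV U
  have h2 : 2 ∣ Nat.card U := by
    rw [hm] at hne ⊢
    exact dvd_pow_self 2 (fun h => hne (by rw [h, pow_zero]))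
  obtain ⟨b, hb, hb0⟩ := hT.exists_fixed_point_of_prime_dvd_card_of_fixed_point U h2 h0
  exact ⟨b.1, b.2, fun h => hb0 (Subtype.ext h.symm), fun x hx => congrArg Subtype.val (hb ⟨x, hx⟩)⟩

omit [Finite X] [Finite V] in
/-- An involution moves each vector inside its fixed space. -/
theorem smul_add_mem_fixSub {u : X} (hu : u * u = 1) (v : V) : u • v + v ∈ fixSub V u := by
  rw [mem_fixSub, smul_add, ← mul_smul, hu, one_smul, add_comm]

/-- The fixed space of an involution has at least square root order. -/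
theorem card_le_sq_fixSub {u : X} (hu : u * u = 1) :
    Nat.card V ≤ Nat.card (fixSub V u) * Nat.card (fixSub V u) := by
  let φ : V →+ fixSub V u :=
    { toFun := fun v => ⟨u • v + v, smul_add_mem_fixSub hV hu v⟩
      map_zero' := Subtype.ext (by simp)
      map_add' := fun a b => Subtype.ext (by simp [smul_add]; abel) }
  rw [← AddSubgroup.card_mul_index φ.ker, AddSubgroup.index_ker]
  refine Nat.mul_le_mul (le_of_eq (congrArg (fun U : AddSubgroup V => Nat.card U) ?_))
    (Nat.card_le_card_of_injective _ Subtype.val_injective)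
  ext v
  rw [AddMonoidHom.mem_ker, mem_fixSub]
  constructor
  · intro h
    exact eq_of_add hV (congrArg Subtype.val h)
  · intro h
    exact Subtype.ext (show u • v + v = 0 by rw [h, hV])

/-- An involution inverting a fixed-point-free element has fixed space of square root order. -/
theorem sq_fixSub_le {u z : X} (hzo : Odd (orderOf z)) (hz : SemiReg V z)
    (hz1 : z ≠ 1) (hi : u * z * u⁻¹ = z⁻¹) :
    Nat.card (fixSub V u) * Nat.card (fixSub V u) ≤ Nat.card V := by
  rw [← Nat.card_prod]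
  refine Nat.card_le_card_of_injective (fun p => (p.1 : V) + z • (p.2 : V)) ?_
  intro p q hpq
  have key : ∀ b : V, u • b = b → u • (z • b) = z • b → b = 0 := by
    intro b hb hzb
    by_contra hb0
    have h1 : u • z • b = z⁻¹ • b := by
      rw [← hi, mul_smul, mul_smul, show u⁻¹ • b = b from inv_smul_eq_iff.mpr hb.symm]
    rw [hzb] at h1
    have h2 : z ^ 2 • b = b := by
      rw [pow_two, mul_smul, h1, smul_inv_smul]
    exact hz1 (sq_pow_eq_one_of_odd hzo (by rw [← pow_two]; exact hz 2 b h2 hb0))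
  simp only at hpq
  have hsum : ((p.1 : V) + q.1) + z • ((p.2 : V) + q.2) = 0 := by
    rw [smul_add]
    have e : (p.1 : V) + z • (p.2 : V) + ((q.1 : V) + z • (q.2 : V)) = 0 := by rw [hpq]; exact hV _
    rw [← e]; abel
  have hm1 := (fixSub V u).add_mem p.1.2 q.1.2
  have hm2 := (fixSub V u).add_mem p.2.2 q.2.2
  have he := eq_of_add hV hsum
  have h0 := key _ hm2 (by rw [← he]; exact hm1)
  rw [h0, smul_zero] at he
  exact Prod.ext (Subtype.ext (eq_of_add hV he)) (Subtype.ext (eq_of_add hV h0))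

omit [Finite X] [Finite V] in
/-- An element commuting with an involution and fixing its fixed space has square one. -/
theorem mul_self_eq_one_of_fix [FaithfulSMul X V] {u x : X} (hu : u * u = 1) (hc : Commute x u)
    (hfix : ∀ v ∈ fixSub V u, x • v = v) : x * x = 1 := by
  refine eq_of_smul_eq_smul (α := V) fun v => ?_
  have h1 : u • (x • v) + x • v = u • v + v := by
    rw [← mul_smul, ← hc.eq, mul_smul, ← smul_add, hfix _ (smul_add_mem_fixSub hV hu v)]
  have h2 : x • v + v ∈ fixSub V u := by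
    rw [mem_fixSub, smul_add]
    apply eq_of_add hV
    calc u • x • v + u • v + (x • v + v) = (u • x • v + x • v) + (u • v + v) := by abel
      _ = 0 := by rw [h1]; exact hV _
  have h3 := hfix _ h2
  rw [smul_add, ← mul_smul] at h3
  rw [one_smul]
  exact add_right_cancel (h3.trans (add_comm _ _))

end Module

end Cfsg.Agent.Lib.RealGraph
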