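import Mathlib
import Cfsg.Agent.Lib.PPD.Zsigmondy
import Cfsg.Agent.Lib.RealGraph.Basic

/-!
# Arithmetic of `2 ^ n - 1` for the real class graph theorem
-/

set_option autoImplicit false

namespace Cfsg.Agent.Lib.RealGraph

theorem dvd_of_two_pow_sub_one_dvd {d n : ℕ} (h : 2 ^ d - 1 ∣ 2 ^ n - 1) : d ∣ n := by
  have h1 : Nat.gcd (2 ^ d - 1) (2 ^ n - 1) = 2 ^ d - 1 := Nat.gcd_eq_left h
  rw [Nat.pow_sub_one_gcd_pow_sub_one] at h1
  have h2 : Nat.gcd d n = d := by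
    have := Nat.one_le_two_pow (n := Nat.gcd d n)
    have := Nat.one_le_two_pow (n := d)
    exact Nat.pow_right_injective le_rfl (show 2 ^ Nat.gcd d n = 2 ^ d by omega)
  exact h2 ▸ Nat.gcd_dvd_right d n

theorem two_pow_sub_one_pos {d : ℕ} (hd : 0 < d) : 0 < 2 ^ d - 1 := by
  have := Nat.one_lt_two_pow (n := d) (by omega)
  omega

/-- The order of the cyclic group permuting the components. -/
theorem quot_mul {d N : ℕ} (hdN : d ∣ N) :
    (2 ^ N - 1) / (2 ^ d - 1) * (2 ^ d - 1) = 2 ^ N - 1 :=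
  Nat.div_mul_cancel (Nat.pow_sub_one_dvd_pow_sub_one 2 hdN)

/-- A group of order `(2 ^ N - 1) / (2 ^ d - 1)` acting semiregularly has no proper invariant
subspace. -/
theorem dim_eq_zero_or_eq {d N f : ℕ} (hd : 0 < d) (hdN : d ∣ N) (hlt : d < N) (hfN : f ≤ N)
    (hdvd : (2 ^ N - 1) / (2 ^ d - 1) ∣ 2 ^ f - 1) : f = 0 ∨ f = N := by
  by_contra hc
  rw [not_or] at hc
  set k := (2 ^ N - 1) / (2 ^ d - 1) with hk
  have hkm : k * (2 ^ d - 1) = 2 ^ N - 1 := quot_mul hdN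
  set g := Nat.gcd f N with hg
  have hgd : k ∣ 2 ^ g - 1 := by
    rw [hg, ← Nat.pow_sub_one_gcd_pow_sub_one]
    exact Nat.dvd_gcd hdvd ⟨_, hkm.symm⟩
  have hgpos : 0 < g := Nat.gcd_pos_of_pos_left _ (by omega)
  have hg2 : 2 * g ≤ N := by
    obtain ⟨a, ha⟩ := Nat.gcd_dvd_right f N
    rw [← hg] at ha
    have hgf : g ≤ f := Nat.le_of_dvd (by omega) (Nat.gcd_dvd_left f N)
    rcases a with _ | _ | a
    · omega
    · omega
    · nlinarith
  have hd2 : 2 * d ≤ N := by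
    obtain ⟨a, ha⟩ := hdN
    rcases a with _ | _ | a
    · omega
    · omega
    · nlinarith
  have hle : k ≤ 2 ^ g - 1 := Nat.le_of_dvd (two_pow_sub_one_pos hgpos) hgd
  have h1 : 2 ≤ 2 ^ g := Nat.le_self_pow (by omega) 2
  have h2 : 2 ≤ 2 ^ d := Nat.le_self_pow (by omega) 2
  have h3 : 2 ^ g * 2 ^ d ≤ 2 ^ N := by
    rw [← pow_add]; exact Nat.pow_le_pow_right (by norm_num) (by omega)
  have h4 : k * (2 ^ d - 1) ≤ (2 ^ g - 1) * (2 ^ d - 1) := Nat.mul_le_mul_right _ hle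
  have h5 : (2 ^ g - 1) * (2 ^ d - 1) + 2 ^ g + 2 ^ d = 2 ^ g * 2 ^ d + 1 := by
    obtain ⟨A, hA⟩ := Nat.exists_eq_add_of_le h1
    obtain ⟨B, hB⟩ := Nat.exists_eq_add_of_le h2
    rw [hA, hB, show 2 + A - 1 = A + 1 by omega, show 2 + B - 1 = B + 1 by omega]
    ring
  omega

/-- The order used to detect `F_{2^h}`: a prime power `r = s ^ (e + 1)` dividing
`(2 ^ h - 1) / (2 ^ d - 1)`, with `s` not dividing `2 ^ (h / 2) - 1`. -/
theorem exists_good {h d : ℕ} (hh : 2 ≤ h) (hd : 0 < d) (hdh : d ∣ h) (h2 : 2 * d ≤ h)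
    (h6 : h = 6 → Odd d) :
    ∃ s e : ℕ, s.Prime ∧ s ^ (e + 1) ∣ (2 ^ h - 1) / (2 ^ d - 1) ∧ ¬ s ∣ 2 ^ (h / 2) - 1 ∧
      (∀ f, s ^ (e + 1) ∣ 2 ^ f - 1 → h ∣ f) ∧ (h = 6 → s = 3 ∧ e = 1) ∧ (h ≠ 6 → e = 0) := by
  by_cases hs : h = 6
  · subst hs
    refine ⟨3, 1, Nat.prime_three, ?_, by norm_num, ?_, fun _ => ⟨rfl, rfl⟩, fun h6' => absurd rfl h6'⟩
    · have hd3 : d ≤ 3 := by omega
      interval_cases d
      · norm_num
      · exact absurd (h6 rfl) (by decide)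
      · norm_num
    · intro f hf
      have hm : 2 ^ f % 9 = 2 ^ (f % 6) % 9 := by
        conv_lhs => rw [← Nat.div_add_mod f 6, pow_add, pow_mul, Nat.mul_mod, Nat.pow_mod]
        norm_num
      have h1 : 2 ^ f % 9 = 1 := by
        have := Nat.one_le_two_pow (n := f)
        obtain ⟨c, hc⟩ := hf
        omega
      rw [h1] at hm
      have h6' : f % 6 < 6 := Nat.mod_lt _ (by norm_num)
      apply Nat.dvd_of_mod_eq_zero
      generalize f % 6 = x at hm h6' ⊢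
      interval_cases x <;> first | rfl | norm_num at hm
  · obtain ⟨s, hsp, hsd, hsn⟩ := PPD.exists_primitive_prime le_rfl hh (by omega)
      (by
        rintro ⟨-, m, hm⟩
        rcases m with _ | _ | m
        · norm_num at hm
        · norm_num at hm
        · rw [pow_succ] at hm; omega)
    refine ⟨s, 0, hsp, ?_, hsn _ (by omega) (by omega), ?_, fun h6' => absurd h6' hs, fun _ => rfl⟩
    · rw [pow_one]
      have := quot_mul hdh
      rw [← this] at hsd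
      exact (hsp.dvd_mul.mp hsd).resolve_right (hsn d hd (by omega))
    · intro f hf
      rw [pow_one] at hf
      have hg : s ∣ 2 ^ Nat.gcd f h - 1 := by
        rw [← Nat.pow_sub_one_gcd_pow_sub_one]
        exact Nat.dvd_gcd hf hsd
      by_contra hne
      have hgh : Nat.gcd f h ∣ h := Nat.gcd_dvd_right f h
      refine hsn _ (Nat.gcd_pos_of_pos_right _ (by omega))
        (lt_of_le_of_ne (Nat.le_of_dvd (by omega) hgh) fun e => hne ?_) hg
      exact e ▸ Nat.gcd_dvd_left f h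

section Group

variable {X : Type*} [Group X]

theorem pow_two_pow_eq_self_iff (z : X) (m : ℕ) :
    z ^ 2 ^ m = z ↔ orderOf z ∣ 2 ^ m - 1 := by
  rw [orderOf_dvd_iff_pow_eq_one]
  conv_lhs => rw [← Nat.sub_add_cancel (Nat.one_le_two_pow (n := m)), pow_succ]
  exact ⟨fun h => mul_eq_right.mp h, fun h => by rw [h, one_mul]⟩

theorem pow_two_pow_gcd {z : X} {a b : ℕ} (ha : z ^ 2 ^ a = z) (hb : z ^ 2 ^ b = z) :
    z ^ 2 ^ Nat.gcd a b = z := by
  rw [pow_two_pow_eq_self_iff] at ha hb ⊢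
  rw [← Nat.pow_sub_one_gcd_pow_sub_one]
  exact Nat.dvd_gcd ha hb

theorem pow_two_pow_of_dvd {z : X} {a b : ℕ} (ha : z ^ 2 ^ a = z) (hab : a ∣ b) :
    z ^ 2 ^ b = z := by
  rw [pow_two_pow_eq_self_iff] at ha ⊢
  exact ha.trans (Nat.pow_sub_one_dvd_pow_sub_one 2 hab)

/-- No nontrivial element of odd order of the field of order `2 ^ h` is inverted by an
automorphism fixing a `2`-primitive element. -/
theorem eq_one_of_frobenius {z : X} (ho : Odd (orderOf z)) {h i s : ℕ} (hh : Even h) (hh0 : 0 < h)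
    (hs : ¬ s ∣ 2 ^ (h / 2) - 1) (hsh : s ∣ 2 ^ h - 1) (hsi : s ∣ 2 ^ i - 1)
    (hzh : z ^ 2 ^ h = z) (hzi : z ^ 2 ^ i = z⁻¹) : z = 1 := by
  have hz2 : z ^ 2 ^ (2 * i) = z := by
    rw [two_mul, pow_add, pow_mul, hzi, inv_pow, hzi, inv_inv]
  by_cases hgi : Nat.gcd h (2 * i) ∣ i
  · have hz1 := pow_two_pow_of_dvd (pow_two_pow_gcd hzh hz2) hgi
    rw [hzi] at hz1
    exact sq_pow_eq_one_of_odd ho (inv_eq_iff_mul_eq_one.mp hz1)
  · exfalso
    set g := Nat.gcd h i with hg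
    have hgpos : 0 < g := Nat.gcd_pos_of_pos_left _ hh0
    obtain ⟨a, b, hco, ha, hb⟩ := Nat.exists_coprime h i
    rw [← hg] at ha hb
    have hda : 2 ∣ a := by
      by_contra hodd
      apply hgi
      have hco2 : Nat.Coprime a (2 * b) :=
        Nat.Coprime.mul_right (Nat.coprime_comm.mp ((Nat.Prime.coprime_iff_not_dvd Nat.prime_two).mpr hodd)) hco
      rw [ha, hb, mul_comm a g, show 2 * (b * g) = g * (2 * b) by ring, Nat.gcd_mul_left,
        hco2.gcd_eq_one, mul_one]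
      exact dvd_mul_left g b
    have hgh : g ∣ h / 2 := by
      obtain ⟨a', rfl⟩ := hda
      rw [ha, mul_assoc, Nat.mul_div_cancel_left _ two_pos]
      exact dvd_mul_left g a'
    apply hs
    have h1 : s ∣ 2 ^ g - 1 := by
      rw [hg, ← Nat.pow_sub_one_gcd_pow_sub_one]
      exact Nat.dvd_gcd hsh hsi
    exact h1.trans (Nat.pow_sub_one_dvd_pow_sub_one 2 hgh)

theorem conj_pow_iterate {σ c : X} {w : ℕ} (h : σ * c * σ⁻¹ = c ^ 2 ^ w) (m : ℕ) :
    σ ^ m * c * (σ ^ m)⁻¹ = c ^ 2 ^ (w * m) := by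
  induction m with
  | zero => simp
  | succ m ih =>
    calc σ ^ (m + 1) * c * (σ ^ (m + 1))⁻¹ = σ ^ m * (σ * c * σ⁻¹) * (σ ^ m)⁻¹ := by
          rw [pow_succ]; group
      _ = (σ ^ m * c * (σ ^ m)⁻¹) ^ 2 ^ w := by rw [h, conj_pow]
      _ = _ := by rw [ih, ← pow_mul, ← pow_add, mul_add, mul_one]

end Group

end Cfsg.Agent.Lib.RealGraph
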