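import Mathlib
import Cfsg.Agent.Lib.RealGraph.Basic
import Cfsg.Agent.Lib.RealGraph.Num

/-!
# The key lemma: an involution whose centraliser fixes its fixed space is isolated

`H` acts faithfully on `U` of order `2 ^ (2 * h)`, the involution `u0` inverts an element `b` of
order `2 ^ h + 1` acting semiregularly; nontrivial real elements of odd order fix no nonzero
vector and leave invariant no subgroup of order `2 ^ h` satisfying `P`.
-/

set_option autoImplicit false

namespace Cfsg.Agent.Lib.RealGraph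

open Involution

/-- In a semiregular cyclic group of order `2 ^ h + 1` the invariant subgroups are trivial. -/
theorem eq_top_or_bot_of_torus {H U : Type*} [Group H] [Finite H] [AddCommGroup U] [Finite U]
    [DistribMulAction H U] (hV : ∀ v : U, v + v = 0) {h : ℕ} (hU : Nat.card U = 2 ^ (2 * h))
    (hh : 0 < h) {b : H} (hb : orderOf b = 2 ^ h + 1) (hbs : SemiReg U b)
    {A : AddSubgroup U} (hA : Stab b A) : A = ⊥ ∨ A = ⊤ := by
  obtain ⟨f, hf⟩ := exists_card_pow hV A
  have hdvd := orderOf_dvd_card_sub_one hbs hA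
  rw [hb, hf] at hdvd
  have hfU : f ≤ 2 * h := by
    have := AddSubgroup.card_le_card_addGroup A
    rw [hU, hf] at this
    exact (Nat.pow_le_pow_iff_right (by norm_num)).mp this
  have hq : (2 ^ (2 * h) - 1) / (2 ^ h - 1) = 2 ^ h + 1 := by
    rw [two_mul, pow_add]
    have h1 := Nat.one_lt_two_pow (n := h) (by omega)
    rw [show 2 ^ h * 2 ^ h - 1 = (2 ^ h + 1) * (2 ^ h - 1) by
      rw [← Nat.sq_sub_sq, one_pow, pow_two], Nat.mul_div_cancel _ (by omega)]
  rcases dim_eq_zero_or_eq hh (Dvd.intro_left 2 rfl) (by omega) hfU (hq ▸ hdvd) with rfl | rfl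
  · exact Or.inl (AddSubgroup.card_eq_one.mp (by rw [hf, pow_zero]))
  · exact Or.inr (AddSubgroup.eq_top_of_card_eq _ (by rw [hf, hU]))

universe u

/-- The key lemma. -/
theorem key {H U : Type*} [Group H] [Finite H] [AddCommGroup U] [Finite U]
    [DistribMulAction H U] [FaithfulSMul H U] (hV : ∀ v : U, v + v = 0) {h : ℕ}
    (hU : Nat.card U = 2 ^ (2 * h)) (hh : 0 < h) {u0 b : H} (hu0 : u0 * u0 = 1)
    (hb : orderOf b = 2 ^ h + 1) (hbi : u0 * b * u0⁻¹ = b⁻¹)
    (hfpf : ∀ z : H, RealOdd z → ∀ v : U, z • v = v → v ≠ 0 → z = 1)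
    (P : AddSubgroup U → Prop) (hPfix : ∀ c : H, c * c = 1 → P (fixSub U c))
    (hno : ∀ z : H, RealOdd z → ∀ A : AddSubgroup U, P A → Nat.card A = 2 ^ h → Stab z A → z = 1)
    (hC : ∀ x : H, TwoEl x → Commute x u0 → ∀ v ∈ fixSub U u0, x • v = v)
    {x : H} (hxc : Commute x u0) (hxx : x * x = 1) (hx1 : x ≠ 1) : x = u0 := by
  classical
  have hbo : Odd (orderOf b) := by
    rw [hb]; exact Even.add_one ((Nat.even_pow).mpr ⟨even_two, by omega⟩)
  have hb1 : b ≠ 1 := by
    intro e
    rw [e, orderOf_one] at hb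
    have := Nat.two_pow_pos h
    omega
  have hbreal : RealOdd b := ⟨hbo, u0, hbi⟩
  have hbs : SemiReg U b := semiReg_of_realOdd hfpf hbreal
  set q := 2 ^ h with hq
  have hq0 : 0 < q := Nat.two_pow_pos h
  have hqq : Nat.card U = q * q := by rw [hU, hq, two_mul, pow_add]
  -- the fixed space of `u0`
  have hW : Nat.card (fixSub U u0) = q := by
    apply le_antisymm
    · have := sq_fixSub_le hV hbo hbs hb1 hbi
      rw [hqq] at this
      nlinarith
    · have := card_le_sq_fixSub hV hu0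
      rw [hqq] at this
      nlinarith
  -- the translates
  set T : H → H := fun e => e * u0 * e⁻¹ with hT
  have hT2 : ∀ e, T e * T e = 1 := fun e => by
    simp only [hT]
    calc e * u0 * e⁻¹ * (e * u0 * e⁻¹) = e * (u0 * u0) * e⁻¹ := by group
      _ = 1 := by rw [hu0]; group
  have hTe : ∀ e ∈ Subgroup.zpowers b, T e = e * e * u0 ∧ u0 * e = e⁻¹ * u0 := by
    intro e he
    obtain ⟨i, rfl⟩ := Subgroup.mem_zpowers_iff.mp he
    have h1 := conj_inv_zpow hbi i
    have h2 : u0 * b ^ i = (b ^ i)⁻¹ * u0 := by rw [← h1]; group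
    refine ⟨?_, h2⟩
    simp only [hT]
    have h3 : u0 * (b ^ i)⁻¹ = b ^ i * u0 := by
      have h4 := conj_inv_zpow hbi (-i)
      rw [zpow_neg, inv_inv] at h4
      calc u0 * (b ^ i)⁻¹ = u0 * (b ^ i)⁻¹ * u0⁻¹ * u0 := by group
        _ = _ := by rw [h4]
    rw [mul_assoc, h3, ← mul_assoc]
  have hTcard : ∀ e, Nat.card (fixSub U (T e)) = q := fun e => by
    rw [hT, card_fixSub_conj, hW]
  -- two translates meet trivially
  have hdisj : ∀ e ∈ Subgroup.zpowers b, ∀ e' ∈ Subgroup.zpowers b, ∀ v : U, v ≠ 0 →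
      T e • v = v → T e' • v = v → e = e' := by
    intro e he e' he' v hv0 hv hv'
    have hcom : Commute e e' := by
      obtain ⟨i, rfl⟩ := Subgroup.mem_zpowers_iff.mp he
      obtain ⟨j, rfl⟩ := Subgroup.mem_zpowers_iff.mp he'
      exact Commute.zpow_zpow_self b i j
    have h1 : ((e * e'⁻¹) * (e * e'⁻¹)) • v = v := by
      have h2 : (T e * T e') • v = v := by rw [mul_smul, hv', hv]
      have h3 : T e * T e' = (e * e'⁻¹) * (e * e'⁻¹) := by
        rw [(hTe e he).1, (hTe e' he').1]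
        have h4 : u0 * (e' * e') = e'⁻¹ * e'⁻¹ * u0 := by
          rw [← mul_assoc, (hTe e' he').2, mul_assoc, (hTe e' he').2, ← mul_assoc]
        calc e * e * u0 * (e' * e' * u0) = e * e * (u0 * (e' * e')) * u0 := by group
          _ = e * e * (e'⁻¹ * e'⁻¹) * (u0 * u0) := by rw [h4]; group
          _ = e * (e * e'⁻¹) * e'⁻¹ := by rw [hu0]; group
          _ = e * (e'⁻¹ * e) * e'⁻¹ := by rw [hcom.inv_right.eq]
          _ = _ := by group
      rwa [h3] at h2
    have hmem := mul_mem he (inv_mem he')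
    obtain ⟨i, hi⟩ := (mem_powers_iff_mem_zpowers (x := b)).mpr hmem
    simp only at hi
    rw [← hi, ← pow_add] at h1
    have h5 := hbs _ v h1 hv0
    rw [pow_add] at h5
    have h6 := sq_pow_eq_one_of_odd (hbo.of_dvd_nat (orderOf_pow_dvd i)) h5
    rw [hi] at h6
    exact mul_inv_eq_one.mp h6
  -- the translates cover
  have hcover : ∀ v : U, v ≠ 0 → ∃ e ∈ Subgroup.zpowers b, T e • v = v := by
    let α := Σ e : Subgroup.zpowers b, {v : fixSub U (T (e : H)) // v ≠ 0}
    let F : α → {v : U // v ≠ 0} := fun a =>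
      ⟨(a.2.1 : U), fun e => a.2.2 (Subtype.ext e)⟩
    have hF : Function.Injective F := by
      rintro ⟨e, w, hw⟩ ⟨e', w', hw'⟩ heq
      have e1 : (w : U) = w' := congrArg Subtype.val heq
      have he : e = e' := Subtype.ext (hdisj e e.2 e' e'.2 w (fun hh => hw (Subtype.ext hh)) w.2
        (e1 ▸ w'.2))
      subst he
      exact Sigma.ext rfl (heq_of_eq (Subtype.ext (Subtype.ext e1)))
    have hcne : ∀ (β : Type _) [Zero β] [Finite β], Nat.card {v : β // v ≠ 0} = Nat.card β - 1 := by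
      intro β _ _
      have := Fintype.ofFinite β
      rw [Nat.card_eq_fintype_card, Nat.card_eq_fintype_card, Fintype.card_subtype_compl,
        Fintype.card_subtype_eq]
    have hcard : Nat.card α = Nat.card {v : U // v ≠ 0} := by
      have := Fintype.ofFinite (Subgroup.zpowers b)
      rw [Nat.card_sigma, hcne U, hqq]
      simp only [hcne, hTcard, Finset.sum_const, Finset.card_univ, smul_eq_mul]
      rw [← Nat.card_eq_fintype_card, Nat.card_zpowers, hb]
      rw [show q * q - 1 = (q + 1) * (q - 1) by rw [← Nat.sq_sub_sq, one_pow, pow_two]]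
    have hbij := (Nat.bijective_iff_injective_and_card F).mpr ⟨hF, hcard⟩
    intro v hv
    obtain ⟨⟨e, w, hw⟩, hwv⟩ := hbij.2 ⟨v, hv⟩
    refine ⟨e, e.2, ?_⟩
    rw [← show (w : U) = v from congrArg Subtype.val hwv]
    exact w.2
  -- every involution has fixed space of order `q`
  have hinv : ∀ u : H, u * u = 1 → u ≠ 1 → Nat.card (fixSub U u) = q := by
    intro u hu hu1
    have hle : q * q ≤ Nat.card (fixSub U u) * Nat.card (fixSub U u) :=
      hqq ▸ card_le_sq_fixSub hV hu
    by_cases hz : ∃ z : H, RealOdd z ∧ z ≠ 1 ∧ u * z * u⁻¹ = z⁻¹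
    · obtain ⟨z, hzr, hz1, hzi⟩ := hz
      have := sq_fixSub_le hV hzr.1 (semiReg_of_realOdd hfpf hzr) hz1 hzi
      rw [hqq] at this
      nlinarith
    exfalso
    push Not at hz
    have : Fact (Nat.Prime 2) := ⟨Nat.prime_two⟩
    obtain ⟨N, hN, hN2, huN⟩ : ∃ N : Subgroup H, N.Normal ∧ IsPGroup 2 N ∧ u ∈ N := by
      refine Involution.baer_suzuki_element u fun g => ?_
      have hu' : (g * u * g⁻¹) * (g * u * g⁻¹) = 1 := by
        calc g * u * g⁻¹ * (g * u * g⁻¹) = g * (u * u) * g⁻¹ := by group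
          _ = 1 := by rw [hu]; group
      obtain ⟨i, ho, hi, h2, -⟩ := dihedral_split hu hu'
      exact h2 (by_contra fun hne => hz _ ⟨ho, u, hi⟩ hne hi)
    let A : AddSubgroup U :=
      { carrier := {v | ∀ n ∈ N, n • v = v}
        zero_mem' := fun n _ => smul_zero n
        add_mem' := fun ha hb' n hn => by rw [smul_add, ha n hn, hb' n hn]
        neg_mem' := fun ha n hn => by rw [smul_neg, ha n hn] }
    have hA : Stab b A := by
      intro v hv n hn
      have := hv (b⁻¹ * n * b) (by simpa using hN.conj_mem n hn b⁻¹)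
      rw [mul_smul, mul_smul, inv_smul_eq_iff] at this
      exact this
    obtain ⟨v, -, hv0, hvN⟩ := exists_fixed hV hN2 (U := ⊤) (fun _ _ v _ => trivial) (by
      rw [AddSubgroup.card_top, hU]
      exact (Nat.one_lt_two_pow (by omega)).ne')
    rcases eq_top_or_bot_of_torus hV hU hh hb hbs hA with h0 | h0
    · exact hv0 ((AddSubgroup.mem_bot).mp (h0 ▸ (show v ∈ A from hvN)))
    · refine hu1 (eq_of_smul_eq_smul (α := U) fun w => ?_)
      rw [one_smul]
      exact (h0 ▸ AddSubgroup.mem_top w : w ∈ A) u huN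
  -- all involutions are conjugate to `u0`
  have hu01 : u0 ≠ 1 := by
    intro e
    rw [e, one_mul, inv_one, mul_one] at hbi
    exact hb1 (sq_pow_eq_one_of_odd hbo ((inv_eq_iff_mul_eq_one).mp hbi.symm))
  have hconj : ∀ u : H, u * u = 1 → u ≠ 1 → IsConj u0 u := by
    intro u hu hu1
    by_contra hnc
    -- every translate meets the fixed space of `u`
    have hmeet : ∀ e : Subgroup.zpowers b, ∃ v : {v : fixSub U u // v ≠ 0},
        T (e : H) • (v.1 : U) = v.1 := by
      intro e
      obtain ⟨i, ho, hi, h2, h3⟩ := dihedral_split hu (hT2 e)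
      have hz : (u * T e) ^ i = 1 := by
        rcases h3 with hodd | ⟨c, hc, hc1, -, -, hcz⟩
        · exfalso
          apply hnc
          exact (isConj_iff.mpr ⟨(e : H), rfl⟩).trans
            (Involution.isConj_of_odd hu (hT2 e) hodd).symm
        · exact hno _ ⟨ho, u, hi⟩ _ (hPfix c hc) (hinv c hc hc1)
            (stab_fixSub_of_commute hcz.symm)
      obtain ⟨v, -, hv0, hv⟩ := exists_fixed hV (h2 hz) (U := ⊤) (fun _ _ v _ => trivial) (by
        rw [AddSubgroup.card_top, hU]
        exact (Nat.one_lt_two_pow (by omega)).ne')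
      exact ⟨⟨⟨v, hv u (Subgroup.subset_closure (by simp))⟩,
        fun e' => hv0 (congrArg Subtype.val e')⟩, hv _ (Subgroup.subset_closure (by simp))⟩
    choose f hf using hmeet
    have hinj : Function.Injective f := by
      intro e e' he
      refine Subtype.ext (hdisj e e.2 e' e'.2 ((f e).1 : U)
        (fun e0 => (f e).2 (Subtype.ext e0)) (hf e) ?_)
      rw [he]
      exact hf e'
    have := Nat.card_le_card_of_injective f hinj
    have hc : Nat.card {v : fixSub U u // v ≠ 0} ≤ Nat.card (fixSub U u) :=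
      Nat.card_le_card_of_injective _ Subtype.val_injective
    rw [Nat.card_zpowers, hb] at this
    rw [hinv u hu hu1] at hc
    omega
  -- a Sylow subgroup through `u0` fixes `fixSub U u0`
  have : Fact (Nat.Prime 2) := ⟨Nat.prime_two⟩
  obtain ⟨S, hS⟩ := (twoEl_of_mul_self hu0).isPGroup_zpowers.exists_le_sylow
  have hu0S : u0 ∈ (S : Subgroup H) := hS (Subgroup.mem_zpowers u0)
  have hSne : Nontrivial (S : Subgroup H) :=
    ⟨⟨u0, hu0S⟩, 1, fun e => hu01 (congrArg Subtype.val e)⟩
  obtain ⟨zc, hzc, hzc2, hzc1⟩ : ∃ zc : H, (∀ y ∈ (S : Subgroup H), Commute y zc) ∧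
      zc * zc = 1 ∧ zc ≠ 1 := by
    have := S.2.center_nontrivial
    obtain ⟨z, hz⟩ := exists_ne (1 : Subgroup.center (S : Subgroup H))
    have hz2 : TwoEl ((z : (S : Subgroup H)) : H) := twoEl_of_mem S.2 z.1.2
    obtain ⟨i, hi, hi1⟩ := hz2.exists_involution
      (fun e => hz (Subtype.ext (Subtype.ext e)))
    exact ⟨_, fun y hy => (show Commute y ((z : (S : Subgroup H)) : H) from congrArg Subtype.val
      ((Subgroup.mem_center_iff.mp z.2) ⟨y, hy⟩)).pow_right i, hi, hi1⟩
  have hCu : ∀ g y : H, TwoEl y → Commute y (g * u0 * g⁻¹) → ∀ v ∈ fixSub U (g * u0 * g⁻¹),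
      y • v = v := by
    intro g y hy hc v hv
    have hy' : Commute (g⁻¹ * y * g) u0 := by
      show g⁻¹ * y * g * u0 = u0 * (g⁻¹ * y * g)
      calc g⁻¹ * y * g * u0 = g⁻¹ * (y * (g * u0 * g⁻¹)) * g := by group
        _ = g⁻¹ * (g * u0 * g⁻¹ * y) * g := by rw [hc.eq]
        _ = _ := by group
    have htwo : TwoEl (g⁻¹ * y * g) := by simpa using hy.map (MulAut.conj g⁻¹).toMonoidHom
    have hw : g⁻¹ • v ∈ fixSub U u0 := by
      rw [← mem_fixSub_conj (g := g), smul_inv_smul]; exact hv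
    have := hC _ htwo hy' _ hw
    rwa [mul_smul, mul_smul, smul_inv_smul, smul_left_cancel_iff] at this
  have hSW : ∀ y ∈ (S : Subgroup H), ∀ v ∈ fixSub U u0, y • v = v := by
    obtain ⟨g, hg⟩ := isConj_iff.mp (hconj zc hzc2 hzc1)
    have h1 : ∀ y ∈ (S : Subgroup H), ∀ v ∈ fixSub U zc, y • v = v := by
      intro y hy v hv
      rw [← hg] at hv
      exact hCu g y (twoEl_of_mem S.2 hy) (hg ▸ hzc y hy) v hv
    have h2 : fixSub U zc = fixSub U u0 := by
      apply AddSubgroup.eq_of_le_of_card_ge (fun v hv => h1 u0 hu0S v hv)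
      rw [hW, hinv zc hzc2 hzc1]
    exact fun y hy v hv => h1 y hy v (h2 ▸ hv)
  -- a 2-element fixing a nonzero vector of a translate fixes the translate
  have hQ : ∀ y : H, TwoEl y → ∀ v ∈ fixSub U u0, v ≠ 0 → y • v = v →
      ∀ w ∈ fixSub U u0, y • w = w := by
    intro y hy v hv hv0 hyv w hw
    set C := MulAction.stabilizer H v with hC'
    have hSC : (S : Subgroup H) ≤ C := fun s hs => hSW s hs v hv
    have hn : ((S.subtype hSC : Sylow 2 C) : Subgroup C).Normal := by
      refine Elem69.sylow_two_normal_of_no_real_odd (fun z g ho hg => ?_) _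
      apply Subtype.ext
      exact hfpf z ⟨by rwa [Subgroup.orderOf_coe], g, congrArg Subtype.val hg⟩ v
        (MulAction.mem_stabilizer_iff.mp z.2) hv0
    have hyC : y ∈ C := hyv
    have hy' : TwoEl (⟨y, hyC⟩ : C) := by
      obtain ⟨k, hk⟩ := hy
      exact ⟨k, Subtype.ext (by simpa using hk)⟩
    have hle : Subgroup.zpowers (⟨y, hyC⟩ : C) ≤ ((S.subtype hSC : Sylow 2 C) : Subgroup C) := by
      have := (hy'.isPGroup_zpowers).to_sup_of_normal_right (S.subtype hSC).2
      rw [← (S.subtype hSC).3 this le_sup_right]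
      exact le_sup_left
    have hyS := hle (Subgroup.mem_zpowers _)
    rw [Sylow.coe_subtype, Subgroup.mem_subgroupOf] at hyS
    exact hSW y hyS w hw
  have hQe : ∀ e y : H, TwoEl y → ∀ v ∈ fixSub U (T e), v ≠ 0 → y • v = v →
      ∀ w ∈ fixSub U (T e), y • w = w := by
    intro e y hy v hv hv0 hyv w hw
    have hm : ∀ a ∈ fixSub U (T e), e⁻¹ • a ∈ fixSub U u0 := fun a ha => by
      rw [← mem_fixSub_conj (g := e), smul_inv_smul]; exact ha
    have := hQ (e⁻¹ * y * e) (by simpa using hy.map (MulAut.conj e⁻¹).toMonoidHom) _ (hm v hv)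
      ((smul_ne_zero_iff_ne _).mpr hv0) (by rw [mul_smul, mul_smul, smul_inv_smul, hyv]) _ (hm w hw)
    rwa [mul_smul, mul_smul, smul_inv_smul, smul_left_cancel_iff] at this
  -- the final argument
  have hxW : ∀ v ∈ fixSub U u0, x • v = v := hC x (twoEl_of_mul_self hxx) hxc
  have hxfix : fixSub U x = fixSub U u0 :=
    (AddSubgroup.eq_of_le_of_card_ge hxW (by rw [hW, hinv x hxx hx1])).symm
  have h1mem : (1 : H) ∈ Subgroup.zpowers b := one_mem _
  have hbmem : b ∈ Subgroup.zpowers b := Subgroup.mem_zpowers b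
  have hT1 : T 1 = u0 := by simp [hT]
  obtain ⟨v, hvW', hv0⟩ : ∃ v ∈ fixSub U (T b), v ≠ 0 := by
    refine (AddSubgroup.bot_or_exists_ne_zero _).resolve_left fun e => ?_
    have := hTcard b
    rw [e, AddSubgroup.card_bot] at this
    have := Nat.one_lt_two_pow (n := h) (by omega)
    omega
  obtain ⟨c, hc, hcv⟩ := hcover (x • v) ((smul_ne_zero_iff_ne _).mpr hv0)
  set v' := x * T b * x⁻¹ with hv'
  have hv'2 : v' * v' = 1 := by
    calc x * T b * x⁻¹ * (x * T b * x⁻¹) = x * (T b * T b) * x⁻¹ := by group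
      _ = 1 := by rw [hT2]; group
  have hv'fix : x • v ∈ fixSub U v' := mem_fixSub_conj.mpr hvW'
  have hc1 : c ≠ 1 := by
    rintro rfl
    rw [hT1] at hcv
    have h1 : x • v = v := by
      have := hxW _ hcv
      rwa [← mul_smul, hxx, one_smul, eq_comm] at this
    rw [h1] at hcv
    exact hb1 (hdisj b hbmem 1 h1mem v hv0 hvW' (by rw [hT1]; exact hcv))
  -- `x` carries the translate to the translate `c`
  have hxW' : ∀ w ∈ fixSub U (T b), x • w ∈ fixSub U (T c) := by
    have h1 : fixSub U (T c) ≤ fixSub U v' := fun w hw =>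
      hQe c v' (twoEl_of_mul_self hv'2) (x • v) hcv ((smul_ne_zero_iff_ne _).mpr hv0) hv'fix w hw
    have hv'1 : v' ≠ 1 := by
      intro e
      rw [hv', mul_inv_eq_one, mul_eq_left] at e
      simp only [hT, conj_eq_one_iff] at e
      exact hu01 e
    have h2 := AddSubgroup.eq_of_le_of_card_ge h1 (by rw [hTcard, hinv v' hv'2 hv'1])
    intro w hw
    rw [h2]
    exact mem_fixSub_conj.mpr hw
  -- a translate doing the same
  obtain ⟨e, he, hee⟩ : ∃ e ∈ Subgroup.zpowers b, e * e = c * b := by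
    obtain ⟨j, hj⟩ := hbo
    have hcb := mul_mem hc hbmem
    refine ⟨(c * b) ^ (j + 1), pow_mem hcb _, ?_⟩
    obtain ⟨i, hi⟩ := (mem_powers_iff_mem_zpowers (x := b)).mpr hcb
    simp only at hi
    rw [← hi, ← pow_mul, ← pow_add, show i * (j + 1) + i * (j + 1) = (2 * j + 1) * i + i by ring,
      pow_add, pow_mul, ← hj, pow_orderOf_eq_one, one_pow, one_mul]
  have hTeW : ∀ w ∈ fixSub U (T c), T e • w ∈ fixSub U (T b) := by
    intro w hw
    have hw' : c⁻¹ • w ∈ fixSub U u0 := by
      rw [← mem_fixSub_conj (g := c), smul_inv_smul]; exact hw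
    have h1 : T e * c = b * u0 := by
      rw [(hTe e he).1, mul_assoc, (hTe c hc).2, hee]
      have hcom : Commute c b := by
        obtain ⟨i, rfl⟩ := Subgroup.mem_zpowers_iff.mp hc
        exact (Commute.refl b).zpow_left i
      rw [hcom.eq]
      group
    have h2 : T e • w = b • (c⁻¹ • w) := by
      conv_lhs => rw [← smul_inv_smul c w, ← mul_smul, h1, mul_smul, hw']
    rw [h2]
    exact mem_fixSub_conj.mpr hw'
  obtain ⟨i, ho, hi, h2, -⟩ := dihedral_split (hT2 e) hxx
  have hz : (T e * x) ^ i = 1 :=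
    hno _ ⟨ho, T e, hi⟩ _ (hPfix (T b) (hT2 b)) (hTcard b)
      (Stab.pow (fun w hw => by rw [mul_smul]; exact hTeW _ (hxW' w hw)) i)
  have h2' := h2 hz
  obtain ⟨v1, -, hv10, hv1⟩ := exists_fixed hV h2' (U := ⊤) (fun _ _ v _ => trivial) (by
    rw [AddSubgroup.card_top, hU]
    exact (Nat.one_lt_two_pow (by omega)).ne')
  have he1 : e = 1 := by
    refine hdisj e he 1 h1mem v1 hv10 (hv1 _ (Subgroup.subset_closure (by simp))) ?_
    rw [hT1]
    have : v1 ∈ fixSub U x := hv1 _ (Subgroup.subset_closure (by simp))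
    rwa [hxfix] at this
  -- so `u0 * x` preserves the translate
  have hstab : Stab (u0 * x) (fixSub U (T b)) := by
    intro w hw
    have := hTeW _ (hxW' w hw)
    rwa [he1, hT1, ← mul_smul] at this
  by_contra hne
  have hy2 : (u0 * x) * (u0 * x) = 1 := by
    rw [mul_assoc, ← mul_assoc x u0, hxc.eq, mul_assoc u0 x, hxx, mul_one, hu0]
  have hy1 : u0 * x ≠ 1 := fun e' => hne (by
    rw [eq_inv_of_mul_eq_one_right e', inv_eq_of_mul_eq_one_right hu0])
  obtain ⟨v2, hv2, hv20, hv2f⟩ := exists_fixed hV (twoEl_of_mul_self hy2).isPGroup_zpowers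
    (U := fixSub U (T b)) (fun y hy => by
      obtain ⟨k, hk⟩ := (mem_powers_iff_mem_zpowers (x := u0 * x)).mpr hy
      simp only at hk
      exact hk ▸ hstab.pow k) (by
      rw [hTcard]; exact (Nat.one_lt_two_pow (by omega)).ne')
  have hfy : fixSub U u0 = fixSub U (u0 * x) := by
    refine AddSubgroup.eq_of_le_of_card_ge (fun w hw => ?_) (by rw [hW, hinv _ hy2 hy1])
    show (u0 * x) • w = w
    rw [mul_smul, hxW w hw, hw]
  have hv2' : v2 ∈ fixSub U u0 := hfy ▸ hv2f _ (Subgroup.mem_zpowers _)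
  exact hb1 (hdisj b hbmem 1 h1mem v2 hv20 hv2 (by rw [hT1]; exact hv2'))

end Cfsg.Agent.Lib.RealGraph
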