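import Mathlib
import Cfsg.Agent.Lib.RealGraph.Key

/-!
# The Galois levels: a Sylow 2-subgroup is cyclic

`σ` acts on the cyclic group generated by `c` as the Frobenius map of order `2 ^ B` over the
field of order `2 ^ w`. By induction on `B`, passing to the fixed space of the involution in
`⟨σ⟩`, every 2-group containing `σ` lies in `⟨σ⟩`.
-/

set_option autoImplicit false

namespace Cfsg.Agent.Lib.RealGraph

universe u

/-- The data at one Galois level. -/
structure Level {X V : Type u} [Group X] [AddCommGroup V] [DistribMulAction X V] (σ c : X)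
    (d w B : ℕ) : Prop where
  d_pos : 0 < d
  w_pos : 0 < w
  d_dvd : d ∣ w
  two : ∀ v : V, v + v = 0
  card_V : Nat.card V = 2 ^ (w * 2 ^ B)
  orderOf_sigma : orderOf σ = 2 ^ B
  orderOf_c : orderOf c = (2 ^ (w * 2 ^ B) - 1) / (2 ^ d - 1)
  conj : σ * c * σ⁻¹ = c ^ 2 ^ w
  fpf : ∀ z : X, RealOdd z → ∀ v : V, z • v = v → v ≠ 0 → z = 1
  notFix : ∀ z : X, RealOdd z → z ^ 2 ^ w = z → z = 1
  frob : ∀ z ω g : X, Odd (orderOf z) → ω ∈ Subgroup.zpowers c → (orderOf ω).Prime →
    Commute z ω → g * z * g⁻¹ = z⁻¹ → Commute g ω →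
    ∃ i : ℕ, z ^ 2 ^ i = z⁻¹ ∧ ω ^ 2 ^ i = ω
  fpf_prime : ∀ x : X, (orderOf x).Prime → orderOf x ∣ orderOf c → ∀ v : V, x • v = v → v = 0
  comp : ∀ v : V, v ≠ 0 → ∃ D : AddSubgroup V, v ∈ D ∧ Nat.card D = 2 ^ d ∧
    ∀ x : X, TwoEl x → x • v = v → ∀ u ∈ D, x • u = u

namespace Level

variable {X V : Type u} [Group X] [Finite X] [AddCommGroup V] [Finite V] [DistribMulAction X V]
  {σ c : X} {d w B : ℕ}

theorem semiReg_c (L : Level (V := V) σ c d w B) : SemiReg V c :=
  semiReg_of_prime fun y hy hp v hv => L.fpf_prime y hp (orderOf_dvd_of_mem_zpowers hy) v hv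

theorem dim_pos (L : Level (V := V) σ c d w B) : 0 < w * 2 ^ B :=
  Nat.mul_pos L.w_pos (Nat.two_pow_pos B)

theorem d_le (L : Level (V := V) σ c d w B) : d ≤ w := Nat.le_of_dvd L.w_pos L.d_dvd

theorem stable_trivial (L : Level (V := V) σ c d w B) (hlt : d < w * 2 ^ B) {A : AddSubgroup V}
    (hA : Stab c A) : A = ⊥ ∨ A = ⊤ := by
  obtain ⟨f, hf⟩ := exists_card_pow L.two A
  have hfU : f ≤ w * 2 ^ B := by
    have := AddSubgroup.card_le_card_addGroup A
    rw [L.card_V, hf] at this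
    exact (Nat.pow_le_pow_iff_right (by norm_num)).mp this
  have hdvd := orderOf_dvd_card_sub_one L.semiReg_c hA
  rw [L.orderOf_c, hf] at hdvd
  rcases dim_eq_zero_or_eq L.d_pos (L.d_dvd.mul_right _) hlt hfU hdvd with rfl | rfl
  · exact Or.inl (AddSubgroup.card_eq_one.mp (by rw [hf, pow_zero]))
  · exact Or.inr (AddSubgroup.eq_top_of_card_eq _ (by rw [hf, L.card_V]))

theorem card_ne_one (L : Level (V := V) σ c d w B) : Nat.card (⊤ : AddSubgroup V) ≠ 1 := by
  rw [AddSubgroup.card_top, L.card_V]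
  exact (Nat.one_lt_two_pow L.dim_pos.ne').ne'

/-- Every involution inverts a nontrivial real element of odd order. -/
theorem exists_inverted [FaithfulSMul X V] (L : Level (V := V) σ c d w B) (hlt : d < w * 2 ^ B)
    {u : X} (hu : u * u = 1) (hu1 : u ≠ 1) :
    ∃ z : X, RealOdd z ∧ z ≠ 1 ∧ u * z * u⁻¹ = z⁻¹ := by
  by_contra hz
  push Not at hz
  have : Fact (Nat.Prime 2) := ⟨Nat.prime_two⟩
  obtain ⟨N, hN, hN2, huN⟩ : ∃ N : Subgroup X, N.Normal ∧ IsPGroup 2 N ∧ u ∈ N := by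
    refine Involution.baer_suzuki_element u fun g => ?_
    have hu' : (g * u * g⁻¹) * (g * u * g⁻¹) = 1 := by
      calc g * u * g⁻¹ * (g * u * g⁻¹) = g * (u * u) * g⁻¹ := by group
        _ = 1 := by rw [hu]; group
    obtain ⟨i, ho, hi, h2, -⟩ := dihedral_split hu hu'
    exact h2 (by_contra fun hne => hz _ ⟨ho, u, hi⟩ hne hi)
  let A : AddSubgroup V :=
    { carrier := {v | ∀ n ∈ N, n • v = v}
      zero_mem' := fun n _ => smul_zero n
      add_mem' := fun ha hb' n hn => by rw [smul_add, ha n hn, hb' n hn]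
      neg_mem' := fun ha n hn => by rw [smul_neg, ha n hn] }
  have hA : Stab c A := by
    intro v hv n hn
    have := hv (c⁻¹ * n * c) (by simpa using hN.conj_mem n hn c⁻¹)
    rw [mul_smul, mul_smul, inv_smul_eq_iff] at this
    exact this
  obtain ⟨v, -, hv0, hvN⟩ := exists_fixed L.two hN2 (U := ⊤) (fun _ _ v _ => trivial) L.card_ne_one
  rcases L.stable_trivial hlt hA with h0 | h0
  · exact hv0 ((AddSubgroup.mem_bot).mp (h0 ▸ (show v ∈ A from hvN)))
  · refine hu1 (eq_of_smul_eq_smul (α := V) fun v => ?_)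
    rw [one_smul]
    exact (h0 ▸ AddSubgroup.mem_top v : v ∈ A) u huN

theorem sq_card_fix [FaithfulSMul X V] (L : Level (V := V) σ c d w B) (hlt : d < w * 2 ^ B)
    {u : X} (hu : u * u = 1) (hu1 : u ≠ 1) :
    Nat.card (fixSub V u) * Nat.card (fixSub V u) = 2 ^ (w * 2 ^ B) := by
  obtain ⟨z, hz, hz1, hzi⟩ := L.exists_inverted hlt hu hu1
  rw [← L.card_V]
  exact le_antisymm (sq_fixSub_le L.two hz.1 (semiReg_of_realOdd L.fpf hz) hz1 hzi)
    (card_le_sq_fixSub L.two hu)

/-- At the bottom level there are no involutions. -/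
theorem twoEl_eq_one [FaithfulSMul X V] (L : Level (V := V) σ c d w 0) {x : X} (hx : TwoEl x) :
    x = 1 := by
  rcases L.d_le.eq_or_lt with hdw | hdw
  · refine eq_of_smul_eq_smul (α := V) fun u => ?_
    obtain ⟨v, -, hv0, hv⟩ :=
      exists_fixed L.two hx.isPGroup_zpowers (U := ⊤) (fun _ _ v _ => trivial) L.card_ne_one
    obtain ⟨D, -, hD, hfix⟩ := L.comp v hv0
    have hDt : D = ⊤ := AddSubgroup.eq_top_of_card_eq D (by
      rw [hD, L.card_V, pow_zero, mul_one, hdw])
    rw [one_smul]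
    exact hfix x hx (hv x (Subgroup.mem_zpowers x)) u (hDt ▸ AddSubgroup.mem_top u)
  · by_contra hne
    obtain ⟨i, hi, hi1⟩ := hx.exists_involution hne
    obtain ⟨z, hz, hz1, -⟩ := L.exists_inverted (by rw [pow_zero, mul_one]; exact hdw) hi hi1
    have := pow_card_eq_self (semiReg_of_realOdd L.fpf hz) (U := (⊤ : AddSubgroup V))
      (fun _ _ => trivial)
    rw [AddSubgroup.card_top, L.card_V, pow_zero, mul_one] at this
    exact hz1 (L.notFix z hz this)

/-- The involution of `⟨σ⟩` inverts an element of order `2 ^ h + 1`. -/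
theorem half (L : Level (V := V) σ c d w (B + 1)) :
    let h := w * 2 ^ B
    let u0 := σ ^ 2 ^ B
    u0 * u0 = 1 ∧ u0 ≠ 1 ∧
      orderOf (c ^ ((2 ^ h - 1) / (2 ^ d - 1))) = 2 ^ h + 1 ∧
      u0 * c ^ ((2 ^ h - 1) / (2 ^ d - 1)) * u0⁻¹ = (c ^ ((2 ^ h - 1) / (2 ^ d - 1)))⁻¹ ∧
      orderOf (c ^ (2 ^ h + 1)) = (2 ^ h - 1) / (2 ^ d - 1) ∧
      Commute (c ^ (2 ^ h + 1)) u0 ∧ Nat.card (fixSub V u0) = 2 ^ h := by
  intro h u0
  have hu : u0 * u0 = 1 := by
    rw [← pow_add, ← two_mul, ← pow_succ', ← L.orderOf_sigma, pow_orderOf_eq_one]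
  have hu1 : u0 ≠ 1 := pow_ne_one_of_lt_orderOf (Nat.two_pow_pos B).ne'
    (by rw [L.orderOf_sigma]; exact Nat.pow_lt_pow_right one_lt_two (Nat.lt_succ_self B))
  set k' := (2 ^ h - 1) / (2 ^ d - 1) with hk'
  have hdh : d ∣ h := L.d_dvd.mul_right _
  have hh : 0 < h := Nat.mul_pos L.w_pos (Nat.two_pow_pos B)
  have hk'm : k' * (2 ^ d - 1) = 2 ^ h - 1 := quot_mul hdh
  have h1h := Nat.one_lt_two_pow hh.ne'
  have hord : orderOf c = (2 ^ h + 1) * k' := by
    rw [L.orderOf_c, show w * 2 ^ (B + 1) = h * 2 by ring, pow_mul,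
      show (2 ^ h) ^ 2 - 1 = (2 ^ h + 1) * (2 ^ h - 1) by rw [← Nat.sq_sub_sq, one_pow],
      Nat.mul_div_assoc _ (Nat.pow_sub_one_dvd_pow_sub_one 2 hdh)]
  have hk'pos : 0 < k' := by
    rcases Nat.eq_zero_or_pos k' with e | e
    · rw [e, zero_mul] at hk'm; omega
    · exact e
  have hb : orderOf (c ^ k') = 2 ^ h + 1 := by
    rw [orderOf_pow' c hk'pos.ne', hord, Nat.gcd_mul_left_left, Nat.mul_div_cancel _ hk'pos]
  have hcc : orderOf (c ^ (2 ^ h + 1)) = k' := by
    rw [orderOf_pow' c (Nat.succ_ne_zero _), hord, Nat.gcd_mul_right_left,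
      Nat.mul_div_cancel_left _ (Nat.succ_pos _)]
  have hconj : ∀ j : ℕ, u0 * c ^ j * u0⁻¹ = (c ^ j) ^ 2 ^ h := by
    intro j
    rw [← conj_pow, conj_pow_iterate L.conj, ← pow_mul, ← pow_mul, mul_comm]
  have hbi : u0 * c ^ k' * u0⁻¹ = (c ^ k')⁻¹ := by
    rw [hconj, eq_inv_iff_mul_eq_one, ← pow_succ, ← hb, pow_orderOf_eq_one]
  refine ⟨hu, hu1, hb, hbi, hcc, ?_, ?_⟩
  · have h1 : (c ^ (2 ^ h + 1)) ^ 2 ^ h = c ^ (2 ^ h + 1) := by
      rw [pow_two_pow_eq_self_iff, hcc]
      exact Dvd.intro _ hk'm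
    have h2 := hconj (2 ^ h + 1)
    rw [h1, mul_inv_eq_iff_eq_mul] at h2
    exact h2.symm
  · have hbo : Odd (orderOf (c ^ k')) := by
      rw [hb]; exact Even.add_one ((Nat.even_pow).mpr ⟨even_two, hh.ne'⟩)
    have hb1 : c ^ k' ≠ 1 := by
      intro e
      rw [e, orderOf_one] at hb
      omega
    have h1 := sq_fixSub_le L.two hbo (semiReg_of_realOdd L.fpf ⟨hbo, u0, hbi⟩) hb1 hbi
    have h2 := card_le_sq_fixSub L.two hu
    rw [L.card_V, show w * 2 ^ (B + 1) = h + h by ring, pow_add] at h1 h2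
    nlinarith

end Level

section Restrict

variable {X V : Type u} [Group X] [AddCommGroup V] [DistribMulAction X V]

/-- The stabiliser of a subgroup of `V`. -/
def stabZ (W : AddSubgroup V) : Subgroup X where
  carrier := {x | ∀ v, x • v ∈ W ↔ v ∈ W}
  one_mem' v := by rw [one_smul]
  mul_mem' hx hy v := by rw [mul_smul, hx, hy]
  inv_mem' {x} hx v := by
    have := hx (x⁻¹ • v)
    rwa [smul_inv_smul, Iff.comm] at this

/-- The restriction to a subgroup of `V`. -/
def restr (W : AddSubgroup V) : stabZ (X := X) W →* (W ≃ₗ[ℕ] W) where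
  toFun x :=
    { toFun := fun v => ⟨(x : X) • (v : V), (x.2 v).mpr v.2⟩
      invFun := fun v => ⟨(x : X)⁻¹ • (v : V), (x⁻¹.2 v).mpr v.2⟩
      left_inv := fun v => Subtype.ext (inv_smul_smul (x : X) (v : V))
      right_inv := fun v => Subtype.ext (smul_inv_smul (x : X) (v : V))
      map_add' := fun a b => Subtype.ext (smul_add (x : X) (a : V) (b : V))
      map_smul' := fun n a => Subtype.ext (smul_comm (x : X) n (a : V)) }
  map_one' := LinearEquiv.ext fun v => Subtype.ext (one_smul X (v : V))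
  map_mul' x y := LinearEquiv.ext fun v => Subtype.ext (mul_smul (x : X) (y : X) (v : V))

theorem mem_stabZ_of_commute {u x : X} (h : Commute x u) : x ∈ stabZ (fixSub V u) := by
  intro v
  constructor
  · intro hv
    have := stab_fixSub_of_commute (V := V) h.inv_left _ hv
    rwa [inv_smul_smul] at this
  · exact fun hv => stab_fixSub_of_commute h v hv

theorem restr_eq_one_iff (W : AddSubgroup V) (x : stabZ (X := X) W) :
    restr W x = 1 ↔ ∀ v ∈ W, (x : X) • v = v := by
  constructor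
  · intro h v hv
    exact congrArg Subtype.val (DFunLike.congr_fun h ⟨v, hv⟩)
  · intro h
    exact LinearEquiv.ext fun v => Subtype.ext (h v v.2)

end Restrict

section Cyclic

variable {X V : Type u} [Group X] [Finite X] [AddCommGroup V] [Finite V] [DistribMulAction X V]
  {σ c : X} {d w B : ℕ}

/-- The data at the next level. -/
theorem Level.restrict [FaithfulSMul X V] (L : Level (V := V) σ c d w (B + 1)) :
    ∃ (hσ : σ ∈ stabZ (fixSub V (σ ^ 2 ^ B)))
      (hc : c ^ (2 ^ (w * 2 ^ B) + 1) ∈ stabZ (fixSub V (σ ^ 2 ^ B))),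
      Level (V := fixSub V (σ ^ 2 ^ B))
        (⟨restr _ ⟨σ, hσ⟩, ⟨_, rfl⟩⟩ : (restr (X := X) (fixSub V (σ ^ 2 ^ B))).range)
        ⟨restr _ ⟨_, hc⟩, ⟨_, rfl⟩⟩ d w B := by
  obtain ⟨hu, hu1, hb, hbi, hcc, hccom, hW⟩ := L.half
  set h := w * 2 ^ B with hh
  set u0 := σ ^ 2 ^ B with hu0
  set W := fixSub V u0 with hWdef
  have hh0 : 0 < h := Nat.mul_pos L.w_pos (Nat.two_pow_pos B)
  have hσ : σ ∈ stabZ W := mem_stabZ_of_commute ((Commute.refl σ).pow_right _)
  have hc : c ^ (2 ^ h + 1) ∈ stabZ W := mem_stabZ_of_commute hccom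
  refine ⟨hσ, hc, ?_⟩
  set φ := restr (X := X) W with hφ
  have : Finite φ.range := Finite.of_surjective _ φ.rangeRestrict_surjective
  obtain ⟨v1, hv1, hv10⟩ : ∃ v ∈ W, v ≠ 0 := by
    refine (AddSubgroup.bot_or_exists_ne_zero _).resolve_left fun e => ?_
    rw [e, AddSubgroup.card_bot] at hW
    exact (Nat.one_lt_two_pow hh0.ne').ne hW
  have hlift : ∀ z : φ.range, RealOdd z → ∃ y : stabZ W, RealOdd (y : X) ∧ φ.rangeRestrict y = z :=
    fun z hz => by
      obtain ⟨y, hy, e⟩ := exists_realOdd_lift φ.rangeRestrict φ.rangeRestrict_surjective hz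
      exact ⟨y, hy.map (stabZ W).subtype, e⟩
  -- semiregular elements act faithfully on `W`
  have hinj : ∀ x : X, SemiReg V x → ∀ hx : x ∈ stabZ W, φ ⟨x, hx⟩ = 1 → x = 1 := by
    intro x hx hxm h1
    have := hx 1 v1 (by rw [pow_one]; exact (restr_eq_one_iff W _).mp h1 v1 hv1) hv10
    rwa [pow_one] at this
  have hk' : orderOf (⟨φ ⟨_, hc⟩, ⟨_, rfl⟩⟩ : φ.range) = (2 ^ h - 1) / (2 ^ d - 1) := by
    rw [← hcc, ← Subgroup.orderOf_coe, orderOf_eq_orderOf_iff]
    intro m
    constructor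
    · intro hm
      refine hinj _ (L.semiReg_c.pow _ |>.pow m) (pow_mem hc m) ?_
      rw [← hm]
      exact map_pow φ ⟨_, hc⟩ m
    · intro hm
      show φ ⟨_, hc⟩ ^ m = 1
      rw [← map_pow, show (⟨_, hc⟩ : stabZ W) ^ m = 1 from Subtype.ext hm, map_one]
  refine
    { d_pos := L.d_pos
      w_pos := L.w_pos
      d_dvd := L.d_dvd
      two := fun v => Subtype.ext (L.two _)
      card_V := hW
      orderOf_sigma := ?_
      orderOf_c := hk'
      conj := ?_
      fpf := ?_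
      notFix := ?_
      frob := ?_
      fpf_prime := ?_
      comp := ?_ }
  · rw [← Subgroup.orderOf_coe]
    show orderOf (φ ⟨σ, hσ⟩) = 2 ^ B
    have h1 : φ ⟨σ, hσ⟩ ^ 2 ^ B = 1 := by
      rw [← map_pow, restr_eq_one_iff]
      exact fun v hv => hv
    rcases B with _ | B'
    · rw [pow_zero] at h1 ⊢
      rw [orderOf_eq_one_iff, ← h1, pow_one]
    refine orderOf_eq_prime_pow (fun hlt => ?_) h1
    rw [← map_pow, restr_eq_one_iff] at hlt
    -- otherwise `c ^ (q + 1)` is fixed by `x ↦ x ^ √q`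
    set y := σ ^ 2 ^ B' with hy
    set c' := c ^ (2 ^ h + 1) with hc'
    have h2 : y * c' * y⁻¹ = c' ^ 2 ^ (w * 2 ^ B') := by
      rw [hc', ← conj_pow, conj_pow_iterate L.conj, ← pow_mul, ← pow_mul, mul_comm]
    have h3 : c' ^ 2 ^ (w * 2 ^ B') = c' := by
      have hfix : ((c'⁻¹) * c' ^ 2 ^ (w * 2 ^ B')) • v1 = v1 := by
        rw [← h2, mul_smul, mul_smul, mul_smul]
        replace hlt : ∀ v ∈ W, y • v = v := fun v hv => by simpa using hlt v hv
        have e1 : y⁻¹ • v1 = v1 := inv_smul_eq_iff.mpr (hlt v1 hv1).symm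
        rw [e1, hlt _ ((hc v1).mpr hv1), inv_smul_smul]
      have hpos := Nat.one_le_two_pow (n := w * 2 ^ B')
      obtain ⟨p, hp⟩ := Nat.exists_eq_add_of_le hpos
      rw [hp, pow_add, pow_one, inv_mul_cancel_left] at hfix
      rw [hp, pow_add, pow_one]
      rw [(L.semiReg_c.pow _) p v1 hfix hv10, mul_one]
    rw [pow_two_pow_eq_self_iff, hcc] at h3
    rcases dim_eq_zero_or_eq L.d_pos (L.d_dvd.mul_right _)
      (show d < w * 2 ^ (B' + 1) by
        have := L.d_le; have := Nat.two_pow_pos B'; have := L.w_pos; rw [pow_succ]; nlinarith)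
      (Nat.mul_le_mul_left w (Nat.pow_le_pow_right two_pos (Nat.le_succ B'))) h3 with e | e
    · have := Nat.mul_pos L.w_pos (Nat.two_pow_pos B')
      omega
    · have := Nat.eq_of_mul_eq_mul_left L.w_pos e
      have := Nat.pow_right_injective le_rfl this
      omega
  · apply Subtype.ext
    show φ ⟨σ, hσ⟩ * φ ⟨_, hc⟩ * (φ ⟨σ, hσ⟩)⁻¹ = φ ⟨_, hc⟩ ^ 2 ^ w
    rw [← map_inv, ← map_mul, ← map_mul, ← map_pow]
    congr 1
    apply Subtype.ext
    show σ * c ^ (2 ^ h + 1) * σ⁻¹ = (c ^ (2 ^ h + 1)) ^ 2 ^ w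
    rw [← conj_pow, L.conj, ← pow_mul, ← pow_mul, mul_comm]
  · intro z hz v hv hv0
    obtain ⟨y, hy, rfl⟩ := hlift z hz
    have : (y : X) = 1 :=
      L.fpf _ hy v.1 (congrArg Subtype.val hv) (fun e => hv0 (Subtype.ext e))
    rw [show y = 1 from Subtype.ext this, map_one]
  · intro z hz hzw
    obtain ⟨y, hy, rfl⟩ := hlift z hz
    rw [← map_pow] at hzw
    have hpos := Nat.one_le_two_pow (n := w)
    obtain ⟨p, hp⟩ := Nat.exists_eq_add_of_le hpos
    rw [hp, pow_add, pow_one, map_mul, mul_eq_left] at hzw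
    have h1 : (y : X) ^ p = 1 :=
      L.fpf _ (hy.pow p) v1
        ((restr_eq_one_iff W (y ^ p)).mp (congrArg Subtype.val hzw) v1 hv1) hv10
    have : (y : X) = 1 := L.notFix _ hy (by rw [hp, pow_add, pow_one, h1, mul_one])
    rw [show y = 1 from Subtype.ext this, map_one]
  · -- the Frobenius property
    intro z ω g hz hω hωp hzω hgz hgω
    obtain ⟨i, hi⟩ := (mem_powers_iff_mem_zpowers).mpr hω
    simp only at hi
    set ω' : stabZ W := ⟨c ^ (2 ^ h + 1), hc⟩ ^ i with hω'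
    have hωφ : φ.rangeRestrict ω' = ω := by
      rw [← hi, hω', map_pow]; rfl
    have hω'o : orderOf ω' = orderOf ω := by
      rw [← Subgroup.orderOf_coe, ← hωφ, ← Subgroup.orderOf_coe (φ.rangeRestrict ω'),
        orderOf_eq_orderOf_iff]
      intro m
      constructor
      · intro hm
        show φ ω' ^ m = 1
        rw [← map_pow, show ω' ^ m = 1 from Subtype.ext hm, map_one]
      · intro hm
        refine hinj _ ?_ (ω' ^ m).2 (by rw [← hm]; exact map_pow φ ω' m)
        simp only [hω', Subgroup.coe_pow, ← pow_mul]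
        exact L.semiReg_c.pow _
    set s := orderOf ω with hs
    have := Fact.mk hωp
    have hsdvd : s ∣ orderOf c := by
      rw [← hω'o, ← Subgroup.orderOf_coe, hω']
      show orderOf ((c ^ (2 ^ h + 1)) ^ i) ∣ _
      exact (orderOf_pow_dvd i).trans (orderOf_pow_dvd _)
    have hker : (orderOf ω').Coprime (Nat.card φ.rangeRestrict.ker) := by
      rw [hω'o]
      refine (Nat.Prime.coprime_iff_not_dvd hωp).mpr fun hd => ?_
      obtain ⟨k, hk⟩ := exists_prime_orderOf_dvd_card' s hd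
      rw [← Subgroup.orderOf_coe, ← Subgroup.orderOf_coe] at hk
      have h1 : φ (k : stabZ W) = 1 := congrArg Subtype.val (MonoidHom.mem_ker.mp k.2)
      exact hv10 (L.fpf_prime _ (hk.symm ▸ hωp) (hk.symm ▸ hsdvd) v1
        ((restr_eq_one_iff W _).mp h1 v1 hv1))
    -- centralisers map onto centralisers
    let C := Subgroup.centralizer ({ω'} : Set (stabZ W))
    let f : C →* Subgroup.centralizer ({ω} : Set φ.range) :=
      (φ.rangeRestrict.comp C.subtype).codRestrict _ (fun x => by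
        rw [Subgroup.mem_centralizer_singleton_iff]
        show φ.rangeRestrict (x : stabZ W) * ω = ω * φ.rangeRestrict (x : stabZ W)
        rw [← hωφ, ← map_mul, ← map_mul, Subgroup.mem_centralizer_singleton_iff.mp x.2])
    have hf : Function.Surjective f := by
      rintro ⟨x, hx⟩
      obtain ⟨a, rfl⟩ := φ.rangeRestrict_surjective x
      obtain ⟨b, hb, hb'⟩ := Elem69.exists_conj_lift φ.rangeRestrict.ker (u := ω') (a := a) 1 hker
        (by
          rw [MonoidHom.mem_ker, zpow_one, map_mul, map_mul, map_mul, map_inv, map_inv, hωφ,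
            Subgroup.mem_centralizer_singleton_iff.mp hx]
          group)
      rw [zpow_one] at hb'
      refine ⟨⟨b * a, Subgroup.mem_centralizer_singleton_iff.mpr (mul_inv_eq_iff_eq_mul.mp hb')⟩,
        Subtype.ext ?_⟩
      show φ.rangeRestrict (b * a) = φ.rangeRestrict a
      rw [map_mul, MonoidHom.mem_ker.mp hb, one_mul]
    have hzC : z ∈ Subgroup.centralizer ({ω} : Set φ.range) :=
      Subgroup.mem_centralizer_singleton_iff.mpr hzω.eq
    have hgC : g ∈ Subgroup.centralizer ({ω} : Set φ.range) :=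
      Subgroup.mem_centralizer_singleton_iff.mpr hgω.eq
    obtain ⟨y, ⟨hyo, g', hg'⟩, hy⟩ := exists_realOdd_lift f hf (z := ⟨z, hzC⟩)
      ⟨by rwa [← Subgroup.orderOf_coe], ⟨g, hgC⟩, Subtype.ext hgz⟩
    have hcom : ∀ x : C, Commute (x.1.1 : X) (ω' : X) := fun x =>
      congrArg Subtype.val (Subgroup.mem_centralizer_singleton_iff.mp x.2)
    have hyo' : Odd (orderOf (y.1.1 : X)) := by rwa [Subgroup.orderOf_coe, Subgroup.orderOf_coe]
    obtain ⟨j, hj1, hj2⟩ := L.frob (y.1.1 : X) (ω' : X) (g'.1.1 : X) hyo'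
      (by rw [hω']; exact pow_mem (pow_mem (Subgroup.mem_zpowers c) _) _)
      (by rwa [Subgroup.orderOf_coe, hω'o]) (hcom y)
      (congrArg (fun x : C => (x.1.1 : X)) hg') (hcom g')
    have hyz : φ.rangeRestrict (y : stabZ W) = z := congrArg Subtype.val hy
    refine ⟨j, ?_, ?_⟩
    · rw [← hyz, ← map_pow, ← map_inv]
      exact congrArg _ (Subtype.ext hj1)
    · rw [← hωφ, ← map_pow]
      exact congrArg _ (Subtype.ext hj2)
  · intro x hxp hxd v hv
    obtain ⟨y, hy⟩ := φ.rangeRestrict_surjective x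
    set s := orderOf x with hs
    have := Fact.mk hxp
    have hsdvd : s ∣ orderOf c := by
      rw [hk', ← hcc] at hxd
      exact hxd.trans (orderOf_pow_dvd _)
    obtain ⟨a, o, ho, hn⟩ :=
      Nat.exists_eq_pow_mul_and_not_dvd (orderOf_pos (y : X)).ne' s hxp.ne_one
    set z := y ^ o with hzdef
    have hza : orderOf (z : X) = s ^ a := by
      rw [hzdef, Subgroup.coe_pow, orderOf_pow, hn, Nat.gcd_mul_left_left,
        Nat.mul_div_cancel _ (Nat.pos_of_ne_zero fun e => ho (by rw [e]; exact dvd_zero s))]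
    have hφz : φ.rangeRestrict z = x ^ o := by rw [hzdef, map_pow, hy]
    have hxo : x ^ o ≠ 1 := fun e => ho (orderOf_dvd_iff_pow_eq_one.mpr e)
    rcases a with _ | _ | a
    · rw [pow_zero, orderOf_eq_one_iff] at hza
      exact absurd (by rw [← hφz, show z = 1 from Subtype.ext hza, map_one]) hxo
    · rw [pow_one] at hza
      have h1 : x ^ o • v = v :=
        MulAction.mem_stabilizer_iff.mp (pow_mem (MulAction.mem_stabilizer_iff.mpr hv) o)
      rw [← hφz] at h1
      exact Subtype.ext (L.fpf_prime _ (hza.symm ▸ hxp) (hza.symm ▸ hsdvd) v.1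
        (congrArg Subtype.val h1))
    · exfalso
      set z' := z ^ s ^ (a + 1) with hz'
      have hz'o : orderOf (z' : X) = s := by
        rw [hz', Subgroup.coe_pow, orderOf_pow, hza, pow_succ s (a + 1),
          Nat.gcd_mul_right_left, Nat.mul_div_cancel_left _ (pow_pos hxp.pos _)]
      have h1 : φ.rangeRestrict z' = 1 := by
        rw [hz', map_pow, hφz, ← pow_mul, mul_comm, pow_mul, pow_succ', pow_mul, hs,
          pow_orderOf_eq_one, one_pow, one_pow]
      exact hv10 (L.fpf_prime _ (hz'o.symm ▸ hxp) (hz'o.symm ▸ hsdvd) v1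
        ((restr_eq_one_iff W _).mp (congrArg Subtype.val h1) v1 hv1))
  · intro v hv0
    obtain ⟨D, hvD, hD, hfix⟩ := L.comp v.1 (fun e => hv0 (Subtype.ext e))
    have hDW : D ≤ W := fun a ha => hfix u0 (twoEl_of_mul_self hu) v.2 a ha
    refine ⟨D.addSubgroupOf W, hvD, ?_, ?_⟩
    · rw [Nat.card_congr (AddSubgroup.addSubgroupOfEquivOfLe hDW).toEquiv, hD]
    · intro x hx hxv a ha
      obtain ⟨y, hy⟩ := φ.rangeRestrict_surjective x
      obtain ⟨e, o, ho, hn⟩ := two_pow_mul_odd (orderOf_pos y).ne'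
      obtain ⟨k, hk⟩ := hx
      have hco : o.Coprime (2 ^ k) := ((Nat.coprime_two_right).mpr ho).pow_right k
      obtain ⟨m, hm1, hm2⟩ := Nat.chineseRemainder hco 0 1
      have hyt : TwoEl ((y ^ m : stabZ W) : X) := by
        refine ⟨e, ?_⟩
        rw [← Subgroup.coe_pow, ← pow_mul]
        refine congrArg Subtype.val (orderOf_dvd_iff_pow_eq_one.mp ?_ : _ = (1 : stabZ W))
        rw [hn, mul_comm (2 ^ e) o]
        exact Nat.mul_dvd_mul_right (Nat.modEq_zero_iff_dvd.mp hm1) _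
      have hym : φ.rangeRestrict (y ^ m) = x := by
        rw [map_pow, hy]
        exact (pow_eq_pow_iff_modEq.mpr
          (Nat.ModEq.of_dvd (orderOf_dvd_of_pow_eq_one hk) hm2)).trans (pow_one x)
      rw [← hym] at hxv ⊢
      exact Subtype.ext (hfix _ hyt (congrArg Subtype.val hxv) a.1 ha)

end Cyclic

end Cfsg.Agent.Lib.RealGraph
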