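import Mathlib
import Cfsg.Agent.Lib.RealGraph.Level

/-!
# Every 2-group through `σ` lies in `⟨σ⟩`
-/

set_option autoImplicit false

namespace Cfsg.Agent.Lib.RealGraph

universe u

section General

variable {X : Type*} [Group X]

/-- A cyclic group of prime power order acting by conjugation on a normalised 2-group `K`: if
no nontrivial element of `K` is fixed by its subgroup of prime order, the order divides
`|K| - 1`. -/
theorem dvd_card_sub_one_of_conj [Finite X] {a : X} {s e : ℕ} (hs : s.Prime)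
    (ha : orderOf a = s ^ (e + 1)) (K : Subgroup X) (hn : ∀ x ∈ K, a * x * a⁻¹ ∈ K)
    (hfix : ∀ x ∈ K, Commute (a ^ s ^ e) x → x = 1) : s ^ (e + 1) ∣ Nat.card K - 1 := by
  classical
  rcases eq_or_ne (Nat.card K) 1 with h1 | h1
  · rw [h1]; exact dvd_zero _
  have hn' : ∀ (i : ℕ) (x : X), x ∈ K → a ^ i * x * (a ^ i)⁻¹ ∈ K := by
    intro i
    induction i with
    | zero => intro x hx; simpa using hx
    | succ i ih =>
      intro x hx
      have := hn _ (ih x hx)
      rw [pow_succ']
      simpa [mul_assoc] using this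
  let α := {x : X // x ∈ K ∧ x ≠ 1}
  have hmem : ∀ (y : Subgroup.zpowers a) (x : X), x ∈ K ∧ x ≠ 1 →
      (y : X) * x * (y : X)⁻¹ ∈ K ∧ (y : X) * x * (y : X)⁻¹ ≠ 1 := by
    intro y x hx
    obtain ⟨i, hi⟩ := (mem_powers_iff_mem_zpowers (x := a)).mpr y.2
    simp only at hi
    refine ⟨hi ▸ hn' i x hx.1, fun h => hx.2 (conj_eq_one_iff.mp h)⟩
  letI : MulAction (Subgroup.zpowers a) α :=
    { smul := fun y x => ⟨(y : X) * x.1 * (y : X)⁻¹, hmem y x.1 x.2⟩
      one_smul := fun x => Subtype.ext (by show (1 : X) * x.1 * (1 : X)⁻¹ = x.1; group)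
      mul_smul := fun y z x => Subtype.ext (by
        show ((y : X) * z) * x.1 * ((y : X) * z)⁻¹ = (y : X) * ((z : X) * x.1 * (z : X)⁻¹) * (y : X)⁻¹
        group) }
  have hfree : ∀ x : α, MulAction.stabilizer (Subgroup.zpowers a) x = ⊥ := by
    intro x
    rw [Subgroup.eq_bot_iff_forall]
    intro y hy
    obtain ⟨i, hi⟩ := (mem_powers_iff_mem_zpowers (x := a)).mpr y.2
    simp only at hi
    have hc : Commute (a ^ i) x.1 := by
      have := congrArg Subtype.val (MulAction.mem_stabilizer_iff.mp hy)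
      rw [hi]
      exact mul_inv_eq_iff_eq_mul.mp this
    apply Subtype.ext
    rw [Subgroup.coe_one, ← hi]
    by_contra hne
    refine x.2.2 (hfix _ x.2.1 ?_)
    obtain ⟨j, hje, hj⟩ := (Nat.dvd_prime_pow hs).mp (Nat.gcd_dvd_right i (s ^ (e + 1)))
    have hje' : j ≤ e := by
      by_contra hlt
      have hj' : j = e + 1 := by omega
      rw [hj'] at hj
      exact hne (orderOf_dvd_iff_pow_eq_one.mp (ha ▸ hj ▸ Nat.gcd_dvd_left _ _))
    have hg : a ^ s ^ j = (a ^ i) ^ Nat.gcdA i (s ^ (e + 1)) := by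
      rw [← zpow_natCast, ← hj, Nat.gcd_eq_gcd_ab, zpow_add, zpow_mul, zpow_mul, zpow_natCast,
        zpow_natCast, ← ha, pow_orderOf_eq_one, one_zpow, mul_one]
    have := (hc.zpow_left (Nat.gcdA i (s ^ (e + 1)))).pow_left (s ^ (e - j))
    rwa [← hg, ← pow_mul, ← pow_add, Nat.add_sub_cancel' hje'] at this
  have hcard := Nat.card_congr (MulAction.selfEquivOrbitsQuotientProd hfree)
  rw [Nat.card_prod, Nat.card_zpowers, ha] at hcard
  have hα : Nat.card α = Nat.card K - 1 := by
    have e' : α ≃ {x : K // x ≠ 1} :=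
      { toFun := fun x => ⟨⟨x.1, x.2.1⟩, fun h => x.2.2 (congrArg Subtype.val h)⟩
        invFun := fun x => ⟨x.1.1, x.1.2, fun h => x.2 (Subtype.ext h)⟩
        left_inv := fun _ => rfl
        right_inv := fun _ => rfl }
    have := Nat.card_congr (Equiv.sumCompl (fun x : K => x = 1))
    have hun : Unique {x : K // x = 1} := ⟨⟨⟨1, rfl⟩⟩, fun b => Subtype.ext b.2⟩
    rw [Nat.card_sum, @Nat.card_unique _ ⟨hun.default⟩ _] at this
    change 1 + Nat.card {x : K // x ≠ 1} = Nat.card K at this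
    rw [Nat.card_congr e']
    omega
  exact ⟨_, hα ▸ hcard.trans (mul_comm _ _)⟩

end General

namespace Level

variable {X V : Type u} [Group X] [Finite X] [AddCommGroup V] [Finite V] [DistribMulAction X V]
  {σ c : X} {d w B : ℕ}

theorem d_lt_half (L : Level (V := V) σ c d w (B + 1)) : d < w * 2 ^ (B + 1) := by
  have := L.d_le
  have := L.w_pos
  have := Nat.two_pow_pos B
  rw [pow_succ]
  nlinarith

theorem card_fix_eq [FaithfulSMul X V] (L : Level (V := V) σ c d w (B + 1))
    {u : X} (hu : u * u = 1) (hu1 : u ≠ 1) : Nat.card (fixSub V u) = 2 ^ (w * 2 ^ B) := by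
  have h := L.sq_card_fix L.d_lt_half hu hu1
  rw [show w * 2 ^ (B + 1) = w * 2 ^ B + w * 2 ^ B by ring, pow_add] at h
  exact Nat.mul_self_inj.mp h

/-- An element of prime order in the torus of the next level centralises the kernel. -/
theorem commute_kernel [FaithfulSMul X V] (L : Level (V := V) σ c d w (B + 1)) {s e : ℕ}
    (hs : s.Prime) {a : X} (ha : a ∈ Subgroup.zpowers (c ^ (2 ^ (w * 2 ^ B) + 1)))
    (hao : orderOf a = s ^ (e + 1))
    (hr : ∀ f, s ^ (e + 1) ∣ 2 ^ f - 1 → w * 2 ^ B ∣ f) {x : X}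
    (hxc : Commute x (σ ^ 2 ^ B)) (hfix : ∀ v ∈ fixSub V (σ ^ 2 ^ B), x • v = v) :
    Commute (a ^ s ^ e) x := by
  classical
  obtain ⟨hu, hu1, -, -, -, hccom, hW⟩ := L.half
  set h := w * 2 ^ B with hh
  set u0 := σ ^ 2 ^ B with hu0
  have hh0 : 0 < h := Nat.mul_pos L.w_pos (Nat.two_pow_pos B)
  have hau : Commute a u0 := by
    obtain ⟨i, rfl⟩ := Subgroup.mem_zpowers_iff.mp ha
    exact hccom.zpow_left i
  let K : Subgroup X :=
    { carrier := {y | Commute y u0 ∧ ∀ v ∈ fixSub V u0, y • v = v}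
      one_mem' := ⟨Commute.one_left _, fun v _ => one_smul X v⟩
      mul_mem' := fun hy hz => ⟨hy.1.mul_left hz.1, fun v hv => by rw [mul_smul, hz.2 v hv, hy.2 v hv]⟩
      inv_mem' := fun hy => ⟨hy.1.inv_left, fun v hv => inv_smul_eq_iff.mpr (hy.2 v hv).symm⟩ }
  have hKK : ∀ y ∈ K, y * y = 1 := fun y hy => mul_self_eq_one_of_fix L.two hu hy.1 hy.2
  have hKc : ∀ y ∈ K, ∀ z ∈ K, Commute y z := by
    intro y hy z hz
    have h1 := hKK _ (mul_mem hy hz)
    show y * z = z * y
    rw [eq_inv_of_mul_eq_one_left h1, mul_inv_rev, inv_eq_of_mul_eq_one_right (hKK z hz),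
      inv_eq_of_mul_eq_one_right (hKK y hy)]
  have hu0K : u0 ∈ K := ⟨Commute.refl u0, fun v hv => hv⟩
  have hKn : ∀ g : X, Commute g u0 → ∀ y ∈ K, g * y * g⁻¹ ∈ K := fun g hg y hy =>
    ⟨(hg.mul_left hy.1).mul_left hg.inv_left, fun v hv => by
      have hm : g⁻¹ • v ∈ fixSub V u0 := stab_fixSub_of_commute hg.inv_left v hv
      rw [mul_smul, mul_smul, hy.2 _ hm, smul_inv_smul]⟩
  -- the kernel has order at most `2 ^ h`
  obtain ⟨v1, hv1⟩ : ∃ v : V, v ∉ fixSub V u0 := by
    by_contra hall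
    push Not at hall
    apply hu1
    refine eq_of_smul_eq_smul (α := V) fun v => ?_
    rw [one_smul]
    exact hall v
  have hcardK : Nat.card K ≤ 2 ^ h := by
    rw [← hW]
    refine Nat.card_le_card_of_injective (fun y : K => (⟨(y : X) • v1 + v1, ?_⟩ : fixSub V u0)) ?_
    · rw [mem_fixSub, smul_add]
      apply eq_of_add L.two
      have e1 : u0 • (y : X) • v1 + (y : X) • v1 = u0 • v1 + v1 := by
        rw [← mul_smul, ← y.2.1.eq, mul_smul, ← smul_add, y.2.2 _ (smul_add_mem_fixSub L.two hu v1)]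
      calc u0 • (y : X) • v1 + u0 • v1 + ((y : X) • v1 + v1)
          = (u0 • (y : X) • v1 + (y : X) • v1) + (u0 • v1 + v1) := by abel
        _ = 0 := by rw [e1]; exact L.two _
    · intro y z hyz
      have h1 : (y : X) • v1 = (z : X) • v1 :=
        add_right_cancel (congrArg Subtype.val hyz)
      have hm := mul_mem (inv_mem z.2) y.2
      have hv : ((z : X)⁻¹ * y) • v1 = v1 := by rw [mul_smul, h1, inv_smul_smul]
      by_contra hne
      have hne' : (z : X)⁻¹ * y ≠ 1 := fun e' => hne (Subtype.ext (inv_mul_eq_one.mp e').symm)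
      have h2 : fixSub V u0 = fixSub V ((z : X)⁻¹ * y) :=
        AddSubgroup.eq_of_le_of_card_ge (fun v hvv => hm.2 v hvv)
          (by rw [hW, L.card_fix_eq (hKK _ hm) hne'])
      exact hv1 (h2 ▸ hv)
  -- the commutator map
  set ω := a ^ s ^ e with hω
  have hωu : Commute ω u0 := hau.pow_left _
  let ψ : K →* X :=
    { toFun := fun y => (y : X) * (ω * y * ω⁻¹)
      map_one' := by simp
      map_mul' := fun y z => by
        rw [Subgroup.coe_mul]
        have hc := (hKc _ z.2 _ (hKn ω hωu _ y.2)).eq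
        calc (y : X) * z * (ω * (y * z) * ω⁻¹) = y * (z * (ω * y * ω⁻¹)) * (ω * z * ω⁻¹) := by group
          _ = y * (ω * y * ω⁻¹ * z) * (ω * z * ω⁻¹) := by rw [hc]
          _ = _ := by group }
  have hψK : ψ.range ≤ K := by
    rintro _ ⟨y, rfl⟩
    exact mul_mem y.2 (hKn ω hωu _ y.2)
  have haω : Commute a ω := (Commute.refl a).pow_right _
  have hnorm : ∀ y ∈ ψ.range, a * y * a⁻¹ ∈ ψ.range := by
    rintro _ ⟨y, rfl⟩
    refine ⟨⟨a * y * a⁻¹, hKn a hau _ y.2⟩, ?_⟩
    show a * (y : X) * a⁻¹ * (ω * (a * y * a⁻¹) * ω⁻¹) = a * ((y : X) * (ω * y * ω⁻¹)) * a⁻¹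
    calc a * (y : X) * a⁻¹ * (ω * (a * y * a⁻¹) * ω⁻¹)
        = a * y * a⁻¹ * ((ω * a) * y * (ω * a)⁻¹) := by group
      _ = _ := by rw [← haω.eq]; group
  have hωo : Odd (orderOf ω) := by
    have h2 : s ≠ 2 := fun e2 => by
      subst e2
      have hdc : orderOf a ∣ orderOf c :=
        (orderOf_dvd_of_mem_zpowers ha).trans (orderOf_pow_dvd _)
      rw [hao, L.orderOf_c] at hdc
      have h22 : 2 ∣ 2 ^ (w * 2 ^ (B + 1)) - 1 := by
        rw [← quot_mul (L.d_dvd.mul_right _ : d ∣ w * 2 ^ (B + 1))]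
        exact Dvd.dvd.mul_right ((dvd_pow_self 2 (Nat.succ_ne_zero e)).trans hdc) _
      have h23 : 2 ∣ 2 ^ (w * 2 ^ (B + 1)) := dvd_pow_self 2 (L.dim_pos).ne'
      have := Nat.one_le_two_pow (n := w * 2 ^ (B + 1))
      omega
    exact ((hs.odd_of_ne_two h2).pow (n := e + 1)).of_dvd_nat (hao ▸ orderOf_pow_dvd _)
  have hcfix : ∀ y ∈ ψ.range, Commute ω y → y = 1 := by
    rintro _ ⟨y, rfl⟩ hy
    have h1 : (y : X) * (ω * y * ω⁻¹) = ω * ((y : X) * (ω * y * ω⁻¹)) * ω⁻¹ := by
      symm
      rw [mul_inv_eq_iff_eq_mul]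
      exact hy.eq
    have h2 : Commute (ω * ω) (y : X) := by
      have h3 : (ω * ω) * (y : X) * (ω * ω)⁻¹ = y := by
        have hc := (hKc _ y.2 _ (hKn ω hωu _ y.2)).eq
        rw [hc] at h1
        calc (ω * ω) * (y : X) * (ω * ω)⁻¹
            = (ω * y * ω⁻¹)⁻¹ * (ω * ((ω * y * ω⁻¹) * y) * ω⁻¹) * 1 := by
              rw [← hc]; group
          _ = (ω * y * ω⁻¹)⁻¹ * ((ω * y * ω⁻¹) * y) * 1 := by rw [← h1]
          _ = _ := by group
      exact mul_inv_eq_iff_eq_mul.mp h3
    obtain ⟨j, hj⟩ := hωo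
    have h4 : Commute ω (y : X) := by
      have := h2.pow_left (j + 1)
      rwa [← pow_two, ← pow_mul, show 2 * (j + 1) = (2 * j + 1) + 1 by ring, pow_succ, ← hj,
        pow_orderOf_eq_one, one_mul] at this
    show (y : X) * (ω * y * ω⁻¹) = 1
    rw [h4.eq, mul_inv_cancel_right, hKK _ y.2]
  have hdvd := dvd_card_sub_one_of_conj hs hao ψ.range hnorm hcfix
  have hp : IsPGroup 2 ψ.range := fun y => ⟨1, by
    rw [pow_one, pow_two]; exact Subtype.ext (hKK _ (hψK y.2))⟩
  have := Fact.mk Nat.prime_two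
  obtain ⟨f, hf⟩ := hp.exists_card_eq
  rw [hf] at hdvd
  have hfh : f ≤ h := by
    have := (Subgroup.card_le_of_le hψK).trans hcardK
    rw [hf] at this
    exact (Nat.pow_le_pow_iff_right (by norm_num)).mp this
  have hf0 : f = 0 := by
    by_contra hne
    have hfeq : f = h := le_antisymm hfh (Nat.le_of_dvd (Nat.pos_of_ne_zero hne) (hr f hdvd))
    have hbij : Function.Bijective ψ.rangeRestrict := by
      rw [Nat.bijective_iff_surjective_and_card]
      refine ⟨ψ.rangeRestrict_surjective, le_antisymm ?_ ?_⟩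
      · rw [hf, hfeq]; exact hcardK
      · exact Nat.card_le_card_of_surjective _ ψ.rangeRestrict_surjective
    have h1 : ψ.rangeRestrict ⟨u0, hu0K⟩ = ψ.rangeRestrict 1 := by
      apply Subtype.ext
      show u0 * (ω * u0 * ω⁻¹) = ((1 : K) : X) * (ω * ((1 : K) : X) * ω⁻¹)
      rw [hωu.eq, mul_inv_cancel_right, hu]
      simp
    exact hu1 (congrArg Subtype.val (hbij.1 h1))
  rw [hf0, pow_zero] at hf
  have hxK : x ∈ K := ⟨hxc, hfix⟩
  have h1 : x * (ω * x * ω⁻¹) = 1 := by
    have := Subgroup.card_eq_one.mp hf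
    exact Subgroup.mem_bot.mp (this ▸ (⟨⟨x, hxK⟩, rfl⟩ : x * (ω * x * ω⁻¹) ∈ ψ.range))
  show ω * x = x * ω
  rw [← mul_inv_eq_iff_eq_mul, eq_inv_of_mul_eq_one_right h1,
    inv_eq_of_mul_eq_one_right (hKK x hxK)]

/-- The kernel on the fixed space of the involution of `⟨σ⟩` is that involution. -/
theorem kernel_eq [FaithfulSMul X V] (L : Level (V := V) σ c d w (B + 1)) {x : X}
    (hxc : Commute x (σ ^ 2 ^ B)) (hfix : ∀ v ∈ fixSub V (σ ^ 2 ^ B), x • v = v) :
    x = 1 ∨ x = σ ^ 2 ^ B := by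
  classical
  rcases eq_or_ne x 1 with hx1 | hx1
  · exact Or.inl hx1
  right
  obtain ⟨hu, hu1, hb, hbi, hcc, hccom, hW⟩ := L.half
  obtain ⟨hσm, hcm, L'⟩ := L.restrict
  set h := w * 2 ^ B with hh
  set u0 := σ ^ 2 ^ B with hu0
  set W := fixSub V u0 with hWdef
  have hh0 : 0 < h := Nat.mul_pos L.w_pos (Nat.two_pow_pos B)
  have hxx : x * x = 1 := mul_self_eq_one_of_fix L.two hu hxc hfix
  have hcardV : Nat.card V = 2 ^ (2 * h) := by rw [L.card_V]; congr 1; rw [pow_succ]; ring
  have : Finite (restr (X := X) W).range :=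
    Finite.of_surjective _ (restr (X := X) W).rangeRestrict_surjective
  rcases B with _ | B'
  · -- bottom level
    refine key L.two hcardV hh0 hu hb hbi L.fpf (fun _ => True) (fun _ _ => trivial) ?_ ?_ hxc hxx hx1
    · intro z hz A _ hA hzA
      have := pow_card_eq_self (semiReg_of_realOdd L.fpf hz) hzA
      rw [hA, hh, pow_zero, mul_one] at this
      exact L.notFix z hz this
    · intro y hy hyc v hv
      have hy' : TwoEl (⟨y, mem_stabZ_of_commute hyc⟩ : stabZ W) := by
        obtain ⟨k, hk⟩ := hy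
        exact ⟨k, Subtype.ext (by simpa using hk)⟩
      have := L'.twoEl_eq_one (hy'.map (restr (X := X) W).rangeRestrict)
      exact (restr_eq_one_iff W _).mp (congrArg Subtype.val this) v hv
  · -- upper levels
    have hheq : h = 2 * (w * 2 ^ B') := by rw [hh, pow_succ]; ring
    have hd2 : 2 * d ≤ h := by
      have := L.d_le
      have := Nat.two_pow_pos B'
      rw [hheq]
      nlinarith
    have h6 : h = 6 → Odd d := by
      intro e6
      have hw3 : w * 2 ^ B' = 3 := by omega
      have hw : w ∣ 3 := Dvd.intro _ hw3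
      exact (by decide : Odd 3).of_dvd_nat (L.d_dvd.trans hw)
    obtain ⟨s, e, hs, hsk, hsn, hsf, -, -⟩ := exists_good (by have := L.d_pos; omega) L.d_pos
      (L.d_dvd.mul_right _) hd2 h6
    set c' := c ^ (2 ^ h + 1) with hc'
    have hkne : orderOf c' ≠ 0 := (orderOf_pos c').ne'
    set a := c' ^ (orderOf c' / s ^ (e + 1)) with hadef
    have hao : orderOf a = s ^ (e + 1) := orderOf_pow_orderOf_div hkne (hcc.symm ▸ hsk)
    set ω := a ^ s ^ e with hω
    have hωo : orderOf ω = s := by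
      rw [hω, orderOf_pow' a (pow_pos hs.pos e).ne', hao, pow_succ, Nat.gcd_mul_right_left,
        Nat.mul_div_cancel_left _ (pow_pos hs.pos e)]
    have hacp : a ∈ Subgroup.zpowers c' := pow_mem (Subgroup.mem_zpowers c') _
    have hωc : ω ∈ Subgroup.zpowers c := by
      refine pow_mem ?_ _
      exact pow_mem (pow_mem (Subgroup.mem_zpowers c) _) _
    have hωb : Commute ω (c ^ ((2 ^ h - 1) / (2 ^ d - 1))) :=
      ((((Commute.refl c).pow_left _).pow_left _).pow_left _).pow_right _
    have hωu : Commute ω u0 := (hccom.pow_left _).pow_left _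
    have hωx : Commute ω x := L.commute_kernel hs hacp hao hsf hxc hfix
    have hωs : SemiReg V ω := by
      rw [hω, hadef, hc', ← pow_mul, ← pow_mul]
      exact L.semiReg_c.pow _
    let H := Subgroup.centralizer ({ω} : Set X)
    have hmem : ∀ {y : X}, Commute ω y → y ∈ H := fun hy =>
      Subgroup.mem_centralizer_singleton_iff.mpr hy.symm.eq
    have hcomm : ∀ y : H, Commute (y : X) ω := fun y =>
      Subgroup.mem_centralizer_singleton_iff.mp y.2
    have hreal : ∀ z : H, RealOdd z → RealOdd (z : X) := fun z hz => hz.map H.subtype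
    have hk := key (H := H) (U := V) (u0 := ⟨u0, hmem hωu⟩) (b := ⟨_, hmem hωb⟩)
      (x := ⟨x, hmem hωx⟩) L.two hcardV hh0 (Subtype.ext hu) (by rwa [← Subgroup.orderOf_coe])
      (Subtype.ext hbi) (fun z hz v hv hv0 => Subtype.ext (L.fpf _ (hreal z hz) v hv hv0))
      (fun A => Stab ω A)
      (fun y _ => stab_fixSub_of_commute (hcomm y).symm)
      ?_ ?_ (Subtype.ext hxc.eq) (Subtype.ext hxx) (fun e' => hx1 (congrArg Subtype.val e'))
    · exact congrArg Subtype.val hk
    · intro z hz A hωA hA hzA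
      apply Subtype.ext
      have hzA' : Stab (z : X) A := hzA
      have hz' := hreal z hz
      have h1 := pow_card_eq_self (semiReg_of_realOdd L.fpf hz') hzA'
      rw [hA] at h1
      obtain ⟨ho, g, hg⟩ := hz
      obtain ⟨i, hi1, hi2⟩ := L.frob (z : X) ω (g : X) hz'.1 hωc (hωo.symm ▸ hs) (hcomm z)
        (congrArg Subtype.val hg) (hcomm g)
      refine eq_one_of_frobenius hz'.1 (hheq ▸ even_two_mul _) hh0 hsn ?_ ?_ h1 hi1
      · exact ((dvd_pow_self s (Nat.succ_ne_zero e)).trans hsk).trans (Dvd.intro _ (quot_mul (L.d_dvd.mul_right _)))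
      · rw [← hωo]
        exact (pow_two_pow_eq_self_iff ω i).mp hi2
    · intro y hy hyc v hv
      have hyc' : Commute (y : X) u0 := congrArg Subtype.val hyc.eq
      set y' : (restr (X := X) W).range :=
        (restr (X := X) W).rangeRestrict ⟨y, mem_stabZ_of_commute hyc'⟩ with hy'
      by_cases hy1 : y' = 1
      · exact (restr_eq_one_iff W _).mp (congrArg Subtype.val hy1) v hv
      exfalso
      have hy2 : TwoEl y' := by
        obtain ⟨k, hk⟩ := hy
        refine TwoEl.map _ ⟨k, Subtype.ext ?_⟩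
        simpa using congrArg Subtype.val hk
      obtain ⟨j, hj, hj1⟩ := hy2.exists_involution hy1
      have hcard := L'.card_fix_eq hj hj1
      set ω' : (restr (X := X) W).range :=
        (restr (X := X) W).rangeRestrict ⟨ω, mem_stabZ_of_commute hωu⟩ with hω'
      have hω's : SemiReg W ω' := by
        intro i v' hv' hv'0
        have h1 := hωs i v'.1 (by
          rw [hω', ← map_pow] at hv'
          exact congrArg Subtype.val hv') (fun e' => hv'0 (Subtype.ext e'))
        rw [hω', ← map_pow, show (⟨ω, _⟩ : stabZ W) ^ i = 1 from Subtype.ext h1, map_one]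
      have hω'o : orderOf ω' = s := by
        refine (hs.eq_one_or_self_of_dvd _ ?_).resolve_left fun e1 => ?_
        · rw [← hωo, ← Subgroup.orderOf_mk ω (mem_stabZ_of_commute (V := V) hωu)]
          exact orderOf_map_dvd _ _
        · rw [orderOf_eq_one_iff] at e1
          obtain ⟨v2, hv2, hv20⟩ : ∃ v ∈ W, v ≠ 0 := by
            refine (AddSubgroup.bot_or_exists_ne_zero _).resolve_left fun e => ?_
            rw [e, AddSubgroup.card_bot] at hW
            exact (Nat.one_lt_two_pow hh0.ne').ne hW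
          have h2 := hωs 1 v2 (by
            rw [pow_one]; exact (restr_eq_one_iff W _).mp (congrArg Subtype.val e1) v2 hv2) hv20
          rw [pow_one] at h2
          rw [h2, orderOf_one] at hωo
          exact hs.ne_one hωo.symm
      have hst : Stab ω' (fixSub W (y' ^ j)) := by
        refine stab_fixSub_of_commute (Commute.pow_right ?_ j)
        refine Commute.map (Subtype.ext ?_) _
        exact (hcomm y).symm.eq
      have h3 := orderOf_dvd_card_sub_one hω's hst
      rw [hω'o, hcard] at h3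
      apply hsn
      rwa [show h / 2 = w * 2 ^ B' by omega]

end Level

/-- Every 2-subgroup containing `σ` lies in `⟨σ⟩`. -/
theorem Level.le_zpowers : ∀ (B : ℕ) {X V : Type u} [Group X] [Finite X] [AddCommGroup V] [Finite V]
    [DistribMulAction X V] [FaithfulSMul X V] {σ c : X} {d w : ℕ},
    Level (V := V) σ c d w B → ∀ T : Subgroup X, IsPGroup 2 T → σ ∈ T → T ≤ Subgroup.zpowers σ := by
  intro B
  induction B with
  | zero =>
    intro X V _ _ _ _ _ _ σ c d w L T hT _ x hx
    rw [L.twoEl_eq_one (twoEl_of_mem hT hx)]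
    exact one_mem _
  | succ B ih =>
    intro X V _ _ _ _ _ _ σ c d w L T hT hσT
    classical
    obtain ⟨hu, hu1, -, -, -, -, -⟩ := L.half
    obtain ⟨hσm, hcm, L'⟩ := L.restrict
    set u0 := σ ^ 2 ^ B with hu0
    set W := fixSub V u0 with hW
    have : Finite (restr (X := X) W).range :=
      Finite.of_surjective _ (restr (X := X) W).rangeRestrict_surjective
    -- the centraliser of the involution
    have h0 : ∀ y ∈ T, Commute y u0 → y ∈ Subgroup.zpowers σ := by
      intro y hy hyc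
      set T0 : Subgroup (stabZ (X := X) W) :=
        (T ⊓ Subgroup.centralizer ({u0} : Set X)).subgroupOf (stabZ W) with hT0
      have hT0p : IsPGroup 2 T0 :=
        (hT.to_le inf_le_left).comap_subtype
      have hσ0 : (⟨σ, hσm⟩ : stabZ W) ∈ T0 :=
        Subgroup.mem_subgroupOf.mpr (Subgroup.mem_inf.mpr ⟨hσT,
          Subgroup.mem_centralizer_singleton_iff.mpr ((Commute.refl σ).pow_right _).eq⟩)
      have hy0 : (⟨y, mem_stabZ_of_commute hyc⟩ : stabZ W) ∈ T0 :=
        Subgroup.mem_subgroupOf.mpr (Subgroup.mem_inf.mpr ⟨hy,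
          Subgroup.mem_centralizer_singleton_iff.mpr hyc.eq⟩)
      have hle := ih L' _ (hT0p.map (restr (X := X) W).rangeRestrict)
        (Subgroup.mem_map_of_mem _ hσ0)
      obtain ⟨i, hi⟩ := Subgroup.mem_zpowers_iff.mp (hle (Subgroup.mem_map_of_mem _ hy0))
      have hk : restr (X := X) W (⟨σ, hσm⟩ ^ (-i) * ⟨y, mem_stabZ_of_commute hyc⟩) = 1 := by
        have := congrArg Subtype.val hi
        rw [map_mul, map_zpow, zpow_neg, inv_mul_eq_one]
        simpa using this
      rw [restr_eq_one_iff] at hk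
      have hcom : Commute (σ ^ (-i) * y) u0 :=
        (((Commute.refl σ).pow_right _).zpow_left _).mul_left hyc
      have hmem : σ ^ (-i) * y ∈ Subgroup.zpowers σ := by
        rcases L.kernel_eq hcom (fun v hv => by simpa using hk v hv) with h | h
        · rw [h]; exact one_mem _
        · rw [h]; exact pow_mem (Subgroup.mem_zpowers σ) _
      have := mul_mem (Subgroup.zpow_mem (Subgroup.zpowers σ) (Subgroup.mem_zpowers σ) i) hmem
      rwa [← mul_assoc, ← zpow_add, add_neg_cancel, zpow_zero, one_mul] at this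
    have hu0T : u0 ∈ T := pow_mem hσT _
    have := Fact.mk Nat.prime_two
    have hTne : Nontrivial T := ⟨⟨u0, hu0T⟩, 1, fun e => hu1 (congrArg Subtype.val e)⟩
    have := hT.center_nontrivial
    obtain ⟨z, hz⟩ := exists_ne (1 : Subgroup.center T)
    obtain ⟨i, hi, hi1⟩ := (twoEl_of_mem hT z.1.2).exists_involution
      (fun e => hz (Subtype.ext (Subtype.ext e)))
    set zc := ((z : T) : X) ^ i with hzc
    have hzcom : ∀ y ∈ T, Commute y zc := fun y hy =>
      (show Commute y ((z : T) : X) from congrArg Subtype.val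
        ((Subgroup.mem_center_iff.mp z.2) ⟨y, hy⟩)).pow_right i
    have hzu : zc = u0 := by
      have hzσ := h0 zc (pow_mem z.1.2 _) (hzcom u0 hu0T).symm
      have he : Even (orderOf σ) := by
        rw [L.orderOf_sigma]
        exact (Nat.even_pow).mpr ⟨even_two, Nat.succ_ne_zero B⟩
      have := Involution.eq_half_pow (a := σ) (Involution.orderOf_eq_two hi hi1) hzσ
      rw [this.2, L.orderOf_sigma, pow_succ, Nat.mul_div_cancel _ two_pos]
    intro y hy
    exact h0 y hy (hzu ▸ hzcom y hy)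

end Cfsg.Agent.Lib.RealGraph
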