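import Mathlib
import Cfsg.Agent.Lib.RealGraph.Num

/-!
# The centraliser of an irreducible element is the multiplicative group of a field
-/

set_option autoImplicit false

namespace Cfsg.Agent.Lib.RealGraph

open Polynomial

/-- A root of the minimal polynomial over the prime field is a Frobenius power. -/
theorem exists_frobenius_pow {K : Type*} [Field K] [Finite K] [Algebra (ZMod 2) K] {x y : K}
    (h : aeval y (minpoly (ZMod 2) x) = 0) : ∃ i : ℕ, y = x ^ 2 ^ i := by
  have := Fact.mk Nat.prime_two
  have := Fintype.ofFinite K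
  have hc : IsConjRoot (ZMod 2) x y :=
    isConjRoot_of_aeval_eq_zero (Algebra.IsIntegral.isIntegral x) h
  obtain ⟨f, hf⟩ := isConjRoot_iff_exists_algEquiv.mp hc.symm
  obtain ⟨⟨i, hi⟩, hfi⟩ := (FiniteField.bijective_frobeniusAlgEquivOfAlgebraic_pow (ZMod 2) K).2 f
  refine ⟨i, ?_⟩
  rw [← hf, ← hfi]
  simp only [AlgEquiv.coe_pow, FiniteField.coe_frobeniusAlgEquivOfAlgebraic_iterate, ZMod.card]

section Scalar

variable {X V : Type*} [Group X] [AddCommGroup V] [DistribMulAction X V]

/-- The endomorphism given by an element. -/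
def endHom : X →* AddMonoid.End V where
  toFun x := DistribSMul.toAddMonoidHom V x
  map_one' := AddMonoidHom.ext fun v => one_smul X v
  map_mul' x y := AddMonoidHom.ext fun v => mul_smul x y v

theorem endHom_apply (x : X) (v : V) : endHom (V := V) x v = x • v := rfl

theorem endHom_injective [FaithfulSMul X V] : Function.Injective (endHom (X := X) (V := V)) :=
  fun _ _ h => eq_of_smul_eq_smul (α := V) fun v => DFunLike.congr_fun h v

/-- The irreducibility of an element. -/
structure Irred (V : Type*) [AddCommGroup V] [DistribMulAction X V] (g : X) : Prop where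
  two : ∀ v : V, v + v = 0
  nontriv : ∃ v : V, v ≠ 0
  irr : ∀ A : AddSubgroup V, Stab g A → A = ⊥ ∨ A = ⊤

/-- The field of endomorphisms commuting with `g`. -/
abbrev scal (V : Type*) [AddCommGroup V] [DistribMulAction X V] (g : X) :
    Subring (AddMonoid.End V) :=
  Subring.centralizer {endHom g}

theorem endHom_mem_scal {g x : X} (h : Commute x g) : endHom x ∈ scal V g := by
  rw [Subring.mem_centralizer_iff]
  rintro _ rfl
  rw [← map_mul, ← map_mul, h.eq]

namespace Irred

variable {g : X} (I : Irred V g)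
include I

theorem eq_zero_of_apply {e : AddMonoid.End V} (he : e ∈ scal V g) {v : V} (hv : v ≠ 0)
    (hev : e v = 0) : e = 0 := by
  rcases I.irr (AddMonoidHom.ker (e : V →+ V)) (fun u (hu : e u = 0) => by
    show e (g • u) = 0
    have h1 := DFunLike.congr_fun (Subring.mem_centralizer_iff.mp he _ rfl) u
    have h2 : g • e u = e (g • u) := h1
    rw [← h2, hu, smul_zero]) with h | h
  · exact absurd ((AddSubgroup.mem_bot).mp (h ▸ (hev : v ∈ AddMonoidHom.ker (e : V →+ V)))) hv
  · refine AddMonoidHom.ext fun u => ?_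
    exact (h ▸ AddSubgroup.mem_top u : u ∈ AddMonoidHom.ker (e : V →+ V))

theorem exists_closure_apply (v0 : V) (hv0 : v0 ≠ 0) (v : V) :
    ∃ k ∈ Subring.closure {endHom (V := V) g}, k v0 = v := by
  let A : AddSubgroup V :=
    { carrier := {v | ∃ k ∈ Subring.closure {endHom (V := V) g}, k v0 = v}
      zero_mem' := ⟨0, zero_mem _, rfl⟩
      add_mem' := by
        rintro _ _ ⟨k, hk, rfl⟩ ⟨l, hl, rfl⟩
        exact ⟨k + l, add_mem hk hl, rfl⟩
      neg_mem' := by
        rintro _ ⟨k, hk, rfl⟩
        exact ⟨-k, neg_mem hk, rfl⟩ }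
  have hA : Stab g A := by
    rintro _ ⟨k, hk, rfl⟩
    exact ⟨endHom g * k, mul_mem (Subring.subset_closure rfl) hk, rfl⟩
  rcases I.irr A hA with h | h
  · exact absurd ((AddSubgroup.mem_bot).mp (h ▸ (⟨1, one_mem _, rfl⟩ : v0 ∈ A))) hv0
  · exact (h ▸ AddSubgroup.mem_top v : v ∈ A)

theorem scal_eq_closure : scal V g = Subring.closure {endHom (V := V) g} := by
  apply le_antisymm
  · intro e he
    obtain ⟨v0, hv0⟩ := I.nontriv
    obtain ⟨k, hk, hkv⟩ := I.exists_closure_apply v0 hv0 (e v0)
    have hk' : k ∈ scal V g := Subring.closure_le.mpr (by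
      rintro _ rfl
      exact endHom_mem_scal (Commute.refl g)) hk
    have := I.eq_zero_of_apply (sub_mem he hk') hv0
      (show e v0 - k v0 = 0 by rw [hkv, sub_self])
    rwa [sub_eq_zero.mp this]
  · refine Subring.closure_le.mpr ?_
    rintro _ rfl
    exact endHom_mem_scal (Commute.refl g)

theorem scal_comm {x y : AddMonoid.End V} (hx : x ∈ scal V g) (hy : y ∈ scal V g) :
    x * y = y * x := by
  rw [I.scal_eq_closure] at hy
  have h : Subring.closure {endHom (V := V) g} ≤ Subring.centralizer {x} := by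
    refine Subring.closure_le.mpr ?_
    rintro _ rfl
    rw [SetLike.mem_coe, Subring.mem_centralizer_iff]
    rintro _ rfl
    exact (Subring.mem_centralizer_iff.mp hx _ rfl).symm
  exact Subring.mem_centralizer_iff.mp (h hy) x rfl

theorem commute [FaithfulSMul X V] {x y : X} (hx : Commute x g) (hy : Commute y g) : Commute x y :=
  endHom_injective (V := V) (by
    rw [map_mul, map_mul]; exact I.scal_comm (endHom_mem_scal hx) (endHom_mem_scal hy))

theorem eq_one_of_fix [FaithfulSMul X V] {x : X} (hx : Commute x g) {v : V} (hv : v ≠ 0)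
    (hxv : x • v = v) : x = 1 := by
  have h := I.eq_zero_of_apply (sub_mem (endHom_mem_scal hx) (one_mem _)) hv
    (show endHom x v - v = 0 by rw [endHom_apply, hxv, sub_self])
  exact endHom_injective (V := V) (by rw [map_one]; exact sub_eq_zero.mp h)

theorem semiReg [FaithfulSMul X V] {x : X} (hx : Commute x g) : SemiReg V x :=
  fun i _ hv hv0 => I.eq_one_of_fix (hx.pow_left i) hv0 hv

theorem isField [Finite V] : IsField (scal V g) := by
  obtain ⟨v0, hv0⟩ := I.nontriv
  have : Finite (AddMonoid.End V) := Finite.of_injective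
    (fun e => (e : V → V)) DFunLike.coe_injective
  refine
    { exists_pair_ne := ⟨1, 0, fun h => hv0 (DFunLike.congr_fun (congrArg Subtype.val h) v0)⟩
      mul_comm := fun a b => Subtype.ext (I.scal_comm a.2 b.2)
      mul_inv_cancel := fun {a} ha => ?_ }
  have hinj : Function.Injective (fun b : scal V g => a * b) := by
    intro b b' hb
    apply Subtype.ext
    refine AddMonoidHom.ext fun v => ?_
    have h1 : (a : AddMonoid.End V) ((b : AddMonoid.End V) v - (b' : AddMonoid.End V) v) = 0 := by
      rw [map_sub, sub_eq_zero]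
      exact DFunLike.congr_fun (congrArg Subtype.val hb) v
    by_contra hne
    exact ha (Subtype.ext (I.eq_zero_of_apply a.2 (sub_ne_zero.mpr hne) h1))
  exact (Finite.injective_iff_surjective.mp hinj) 1

theorem card_scal [Finite V] : Nat.card (scal V g) = Nat.card V := by
  obtain ⟨v0, hv0⟩ := I.nontriv
  refine Nat.card_eq_of_bijective (fun e => (e : AddMonoid.End V) v0) ⟨?_, ?_⟩
  · intro e e' he
    exact Subtype.ext (sub_eq_zero.mp (I.eq_zero_of_apply (sub_mem e.2 e'.2) hv0
      (show (e : AddMonoid.End V) v0 - (e' : AddMonoid.End V) v0 = 0 from sub_eq_zero.mpr he)))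
  · intro v
    obtain ⟨k, hk, hkv⟩ := I.exists_closure_apply v0 hv0 v
    exact ⟨⟨k, I.scal_eq_closure ▸ hk⟩, hkv⟩

variable [Finite V]

/-- The centraliser of `g` is cyclic. -/
theorem isCyclic_centralizer [Finite X] [FaithfulSMul X V] :
    IsCyclic (Subgroup.centralizer ({g} : Set X)) := by
  letI : Field (scal V g) := I.isField.toField
  let f : Subgroup.centralizer ({g} : Set X) →* scal V g :=
    { toFun := fun x => ⟨endHom (x : X), endHom_mem_scal
        (Subgroup.mem_centralizer_singleton_iff.mp x.2)⟩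
      map_one' := Subtype.ext (map_one _)
      map_mul' := fun x y => Subtype.ext (map_mul _ _ _) }
  exact isCyclic_of_subgroup_isDomain f fun x y h =>
    Subtype.ext (endHom_injective (congrArg Subtype.val h))

theorem orderOf_dvd [Finite X] [FaithfulSMul X V] {x : X} (hx : Commute x g) :
    orderOf x ∣ Nat.card V - 1 := by
  have := orderOf_dvd_card_sub_one (I.semiReg hx) (U := (⊤ : AddSubgroup V)) (fun _ _ => trivial)
  rwa [AddSubgroup.card_top] at this

theorem odd_orderOf [Finite X] [FaithfulSMul X V] {x : X} (hx : Commute x g) :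
    Odd (orderOf x) := by
  obtain ⟨m, hm⟩ := exists_card_pow I.two (⊤ : AddSubgroup V)
  rw [AddSubgroup.card_top] at hm
  obtain ⟨v0, hv0⟩ := I.nontriv
  have h1 : 1 < Nat.card V := Finite.one_lt_card_iff_nontrivial.mpr ⟨v0, 0, hv0⟩
  have hd := I.orderOf_dvd hx
  rw [hm] at hd h1
  refine (Nat.Even.sub_odd (le_of_lt h1) ?_ odd_one).of_dvd_nat hd
  refine (Nat.even_pow).mpr ⟨even_two, fun h0 => ?_⟩
  rw [h0, pow_zero] at h1
  exact lt_irrefl _ h1

/-- Elements of the field conjugate in the group are conjugate under Frobenius. -/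
theorem exists_frobenius [FaithfulSMul X V] {x y u : X} (hx : Commute x g) (hy : Commute y g)
    (hu : u * x * u⁻¹ = y) : ∃ i : ℕ, y = x ^ 2 ^ i := by
  obtain ⟨v0, hv0⟩ := I.nontriv
  letI : Field (scal V g) := I.isField.toField
  have h2 : ((2 : ℕ) : scal V g) = 0 := by
    apply Subtype.ext
    refine AddMonoidHom.ext fun v => ?_
    rw [Nat.cast_ofNat, ← one_add_one_eq_two]
    exact I.two v
  haveI : CharP (scal V g) 2 := CharP.ringChar_of_prime_eq_zero Nat.prime_two h2 ▸ ringChar.charP _
  haveI := Fact.mk Nat.prime_two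
  letI : Algebra (ZMod 2) (scal V g) := ZMod.algebra _ 2
  have : Finite (AddMonoid.End V) := Finite.of_injective
    (fun e => (e : V → V)) DFunLike.coe_injective
  set X0 : scal V g := ⟨endHom x, endHom_mem_scal hx⟩
  set Y0 : scal V g := ⟨endHom y, endHom_mem_scal hy⟩
  -- an integral lift of the minimal polynomial
  obtain ⟨Q, hQ⟩ := Polynomial.map_surjective (Int.castRingHom (ZMod 2))
    (ZMod.ringHom_surjective _) (minpoly (ZMod 2) X0)
  have hev : ∀ z : scal V g, aeval z (minpoly (ZMod 2) X0) =
      Q.eval₂ (Int.castRingHom (scal V g)) z := by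
    intro z
    rw [← hQ, aeval_def, eval₂_map]
    congr 1
    exact RingHom.ext_int _ _
  let φ : AddMonoid.End V →+* AddMonoid.End V :=
    { toFun := fun e => endHom u * e * endHom u⁻¹
      map_one' := by rw [mul_one, ← map_mul, mul_inv_cancel, map_one]
      map_mul' := fun a b => by
        have h : endHom (V := V) u⁻¹ * endHom u = 1 := by rw [← map_mul, inv_mul_cancel, map_one]
        calc endHom u * (a * b) * endHom u⁻¹ = endHom u * a * 1 * b * endHom u⁻¹ := by
              rw [mul_one]; simp only [mul_assoc]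
          _ = _ := by rw [← h]; simp only [mul_assoc]
      map_zero' := by rw [mul_zero, zero_mul]
      map_add' := fun a b => by rw [mul_add, add_mul] }
  have hφ : φ (endHom x) = endHom y := by
    show endHom u * endHom x * endHom u⁻¹ = endHom y
    rw [← map_mul, ← map_mul, hu]
  have h0 : aeval Y0 (minpoly (ZMod 2) X0) = 0 := by
    apply Subtype.ext
    have h1 : Q.eval₂ (Int.castRingHom (scal V g)) X0 = 0 := by rw [← hev, minpoly.aeval]
    have hs : ∀ z : scal V g, ((Q.eval₂ (Int.castRingHom (scal V g)) z : scal V g) : AddMonoid.End V) =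
        Q.eval₂ (Int.castRingHom (AddMonoid.End V)) (z : AddMonoid.End V) := by
      intro z
      show (scal V g).subtype _ = _
      rw [Polynomial.hom_eval₂]
      congr 1
    have h4 : φ.comp (Int.castRingHom (AddMonoid.End V)) = Int.castRingHom (AddMonoid.End V) :=
      RingHom.ext_int _ _
    have h3 := Polynomial.hom_eval₂ Q (Int.castRingHom (AddMonoid.End V)) φ (endHom x)
    rw [h4, hφ, ← show (X0 : AddMonoid.End V) = endHom x from rfl, ← hs, h1] at h3
    rw [hev, hs]
    exact h3.symm.trans (map_zero φ)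
  obtain ⟨i, hi⟩ := exists_frobenius_pow h0
  refine ⟨i, endHom_injective (V := V) ?_⟩
  rw [map_pow]
  have := congrArg Subtype.val hi
  rwa [SubmonoidClass.coe_pow] at this

/-- The fixed points of a semilinear element. -/
theorem card_fix_semilinear [Finite X] {σ : X} {w n : ℕ} (hn : Nat.card V = 2 ^ n) (hwn : w ∣ n)
    (hσ : σ * g * σ⁻¹ = g ^ 2 ^ w) {v0 : V} (hv0 : v0 ≠ 0) (hσv : σ • v0 = v0) :
    Nat.card (fixSub V σ) = 2 ^ w := by
  classical
  letI : Field (scal V g) := I.isField.toField
  have : Finite (AddMonoid.End V) := Finite.of_injective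
    (fun e => (e : V → V)) DFunLike.coe_injective
  have h2 : ((2 : ℕ) : scal V g) = 0 := by
    apply Subtype.ext
    refine AddMonoidHom.ext fun v => ?_
    rw [Nat.cast_ofNat, ← one_add_one_eq_two]
    exact I.two v
  haveI : CharP (scal V g) 2 := CharP.ringChar_of_prime_eq_zero Nat.prime_two h2 ▸ ringChar.charP _
  haveI := Fact.mk Nat.prime_two
  have hinv : σ⁻¹ • v0 = v0 := inv_smul_eq_iff.mpr hσv.symm
  -- conjugation by `σ` is the Frobenius map
  have hfr : ∀ k : scal V g, σ • (k : AddMonoid.End V) v0 = ((k ^ 2 ^ w : scal V g) : AddMonoid.End V) v0 := by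
    intro k
    have hk : (k : AddMonoid.End V) ∈ Subring.closure {endHom (V := V) g} := by
      rw [← I.scal_eq_closure]; exact k.2
    suffices H : ∀ e ∈ Subring.closure {endHom (V := V) g}, ∀ he : e ∈ scal V g,
        endHom σ * e = ((⟨e, he⟩ ^ 2 ^ w : scal V g) : AddMonoid.End V) * endHom σ by
      have := DFunLike.congr_fun (H _ hk k.2) v0
      calc σ • (k : AddMonoid.End V) v0 = ((endHom σ * (k : AddMonoid.End V) : AddMonoid.End V)) v0 := rfl
        _ = ((k ^ 2 ^ w : scal V g) : AddMonoid.End V) (σ • v0) := this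
        _ = _ := by rw [hσv]
    have hle : Subring.closure {endHom (V := V) g} ≤ scal V g := I.scal_eq_closure.ge
    intro e he
    induction he using Subring.closure_induction with
    | mem a ha =>
      intro h
      rw [Set.mem_singleton_iff] at ha
      subst ha
      rw [SubmonoidClass.coe_pow]
      show endHom σ * endHom g = endHom g ^ 2 ^ w * endHom σ
      rw [← map_pow, ← map_mul, ← map_mul, ← hσ, inv_mul_cancel_right]
    | zero =>
      intro h
      rw [show (⟨0, h⟩ : scal V g) = 0 from rfl, zero_pow (Nat.two_pow_pos w).ne', mul_zero]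
      exact (zero_mul _).symm
    | one =>
      intro h
      rw [show (⟨1, h⟩ : scal V g) = 1 from rfl, one_pow, mul_one]
      exact (one_mul _).symm
    | add a b ha hb iha ihb =>
      intro h
      rw [show (⟨a + b, h⟩ : scal V g) = ⟨a, hle ha⟩ + ⟨b, hle hb⟩ from rfl, add_pow_char_pow,
        mul_add, iha (hle ha), ihb (hle hb)]
      exact (add_mul _ _ _).symm
    | neg a ha iha =>
      intro h
      have e : -a = a := AddMonoidHom.ext fun v => neg_eq_iff_add_eq_zero.mpr (I.two (a v))
      rw [show (⟨-a, h⟩ : scal V g) = ⟨a, hle ha⟩ from Subtype.ext e, e]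
      exact iha (hle ha)
    | mul a b ha hb iha ihb =>
      intro h
      rw [show (⟨a * b, h⟩ : scal V g) = ⟨a, hle ha⟩ * ⟨b, hle hb⟩ from rfl, mul_pow,
        ← mul_assoc, iha (hle ha), mul_assoc, ihb (hle hb)]
      exact (mul_assoc _ _ _).symm
  -- the fixed points are the roots
  have hev : Function.Bijective (fun e : scal V g => (e : AddMonoid.End V) v0) := by
    refine ⟨fun e e' he => ?_, fun v => ?_⟩
    · exact Subtype.ext (sub_eq_zero.mp (I.eq_zero_of_apply (sub_mem e.2 e'.2) hv0
        (show (e : AddMonoid.End V) v0 - (e' : AddMonoid.End V) v0 = 0 from sub_eq_zero.mpr he)))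
    · obtain ⟨k, hk, hkv⟩ := I.exists_closure_apply v0 hv0 v
      exact ⟨⟨k, I.scal_eq_closure ▸ hk⟩, hkv⟩
  have hcard : Nat.card (fixSub V σ) = Nat.card {k : scal V g // k ^ 2 ^ w = k} := by
    refine (Nat.card_congr (Equiv.subtypeEquiv (Equiv.ofBijective _ hev) fun k => ?_)).symm
    show k ^ 2 ^ w = k ↔ σ • (k : AddMonoid.End V) v0 = (k : AddMonoid.End V) v0
    rw [hfr]
    exact ⟨fun h => by rw [h], fun h => hev.1 h⟩
  have hU : Nat.card (scal V g)ˣ = 2 ^ n - 1 := by
    rw [Nat.card_units, I.card_scal, hn]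
  have hwn' : 2 ^ w - 1 ∣ 2 ^ n - 1 := Nat.pow_sub_one_dvd_pow_sub_one 2 hwn
  have hroots : Nat.card {u : (scal V g)ˣ // u ^ (2 ^ w - 1) = 1} = 2 ^ w - 1 := by
    have : IsCyclic (scal V g)ˣ := inferInstance
    have h := IsCyclic.card_powMonoidHom_ker (G := (scal V g)ˣ) (2 ^ w - 1)
    rw [hU, Nat.gcd_eq_right hwn'] at h
    exact h
  have hpos := Nat.one_le_two_pow (n := w)
  have hpw : ∀ k : scal V g, k ^ 2 ^ w = k ↔ k = 0 ∨ k ^ (2 ^ w - 1) = 1 := by
    intro k
    conv_lhs => rw [← Nat.sub_add_cancel hpos, pow_succ]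
    rcases eq_or_ne k 0 with rfl | hk
    · simp
    · rw [mul_eq_right₀ hk]
      simp [hk]
  let e : {k : scal V g // k ^ 2 ^ w = k} ≃ Option {u : (scal V g)ˣ // u ^ (2 ^ w - 1) = 1} :=
    { toFun := fun k => if h : k.1 = 0 then none else
        some ⟨Units.mk0 k.1 h, Units.ext (by simpa using ((hpw _).mp k.2).resolve_left h)⟩
      invFun := fun o => o.elim ⟨0, zero_pow (Nat.two_pow_pos w).ne'⟩ (fun u =>
        ⟨(u.1 : scal V g), (hpw _).mpr (Or.inr (by simpa using congrArg Units.val u.2))⟩)
      left_inv := fun k => by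
        by_cases h : k.1 = 0
        · simp only [h, ↓reduceDIte, Option.elim]
          exact Subtype.ext h.symm
        · simp only [h, ↓reduceDIte, Option.elim]
          exact Subtype.ext (Units.val_mk0 h)
      right_inv := fun o => by
        rcases o with _ | u
        · simp
        · simp [Units.ne_zero] }
  rw [hcard, Nat.card_congr e, Finite.card_option, hroots]
  omega

end Irred

end Scalar

end Cfsg.Agent.Lib.RealGraph
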