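import Mathlib
import Cfsg.Agent.Lib.RealGraph.Scalar

/-!
# Sylow tools, irreducibility from the order, and the exceptional dimension six
-/

set_option autoImplicit false

namespace Cfsg.Agent.Lib.RealGraph

section Group

variable {X : Type*} [Group X] [Finite X]

/-- A subgroup of index prime to `p` contains a Sylow `p`-subgroup. -/
theorem exists_sylow_le (C : Subgroup X) {p : ℕ} [hp : Fact p.Prime] (h : ¬ p ∣ C.index) :
    ∃ P : Sylow p X, (P : Subgroup X) ≤ C := by
  obtain ⟨P⟩ : Nonempty (Sylow p X) := inferInstance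
  obtain ⟨x, hx⟩ := P.2.nonempty_fixed_point_of_prime_not_dvd_card (X ⧸ C)
    (by rwa [← Subgroup.index_eq_card])
  obtain ⟨g, rfl⟩ := QuotientGroup.mk_surjective x
  refine ⟨g⁻¹ • P, ?_⟩
  rw [Sylow.coe_subgroup_smul]
  rintro _ ⟨y, hy, rfl⟩
  have := hx ⟨y, hy⟩
  change ((y * g : X) : X ⧸ C) = (g : X ⧸ C) at this
  rw [eq_comm, QuotientGroup.eq] at this
  show MulAut.conj g⁻¹ y ∈ C
  simpa [mul_assoc] using this

/-- A subgroup of index prime to `p` contains a conjugate of each `p`-element. -/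
theorem exists_conj_mem_of_not_dvd_index (C : Subgroup X) {p : ℕ} [hp : Fact p.Prime]
    (h : ¬ p ∣ C.index) {x : X} (hx : IsPGroup p (Subgroup.zpowers x)) :
    ∃ c : X, c * x * c⁻¹ ∈ C := by
  obtain ⟨P, hP⟩ := exists_sylow_le C h
  obtain ⟨Q, hQ⟩ := hx.exists_le_sylow
  obtain ⟨c, hc⟩ := MulAction.exists_smul_eq X Q P
  refine ⟨c, hP ?_⟩
  rw [← hc, Sylow.coe_subgroup_smul]
  exact ⟨x, hQ (Subgroup.mem_zpowers x), rfl⟩

omit [Finite X] in
theorem isPGroup_zpowers_of_orderOf {x : X} {p k : ℕ} (h : orderOf x ∣ p ^ k) :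
    IsPGroup p (Subgroup.zpowers x) := by
  intro ⟨y, hy⟩
  obtain ⟨i, rfl⟩ := Subgroup.mem_zpowers_iff.mp hy
  refine ⟨k, Subtype.ext ?_⟩
  rw [Subgroup.coe_pow, Subgroup.coe_one, ← zpow_natCast, ← zpow_mul, mul_comm, zpow_mul,
    zpow_natCast, orderOf_dvd_iff_pow_eq_one.mp h, one_zpow]

omit [Finite X] in
theorem pow_prime_mem_of_pow_mem {a : X} {s e i : ℕ} (hs : s.Prime)
    (ha : orderOf a = s ^ (e + 1)) (K : Subgroup X) (hi : a ^ i ∈ K) (hne : a ^ i ≠ 1) :
    a ^ s ^ e ∈ K := by
  obtain ⟨j, -, hj⟩ := (Nat.dvd_prime_pow hs).mp (Nat.gcd_dvd_right i (s ^ (e + 1)))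
  have hje' : j ≤ e := by
    by_contra hlt
    have hd : s ^ (e + 1) ∣ i :=
      ((pow_dvd_pow s (Nat.not_le.mp hlt)).trans (dvd_of_eq hj.symm)).trans (Nat.gcd_dvd_left _ _)
    exact hne (orderOf_dvd_iff_pow_eq_one.mp (ha ▸ hd))
  have hg : a ^ s ^ j = (a ^ i) ^ Nat.gcdA i (s ^ (e + 1)) := by
    rw [← zpow_natCast, ← hj, Nat.gcd_eq_gcd_ab, zpow_add, zpow_mul, zpow_mul, zpow_natCast,
      zpow_natCast, ← ha, pow_orderOf_eq_one, one_zpow, mul_one]
  have h1 := pow_mem (Subgroup.zpow_mem K hi (Nat.gcdA i (s ^ (e + 1)))) (s ^ (e - j))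
  rwa [← hg, ← pow_mul, ← pow_add, Nat.add_sub_cancel' hje'] at h1

/-- In a cyclic subgroup, an element whose order divides that of `g` is a power of `g`. -/
theorem mem_zpowers_of_isCyclic {A : Subgroup X} [IsCyclic A] {g y : X} (hg : g ∈ A) (hy : y ∈ A)
    (h : orderOf y ∣ orderOf g) : y ∈ Subgroup.zpowers g := by
  classical
  have := Fintype.ofFinite A
  set S : Finset A := Finset.univ.filter fun a : A => a ^ orderOf g = 1 with hS
  have hcard : S.card ≤ orderOf g := IsCyclic.card_pow_eq_one_le (orderOf_pos g)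
  set T : Finset A := Finset.univ.filter fun a : A => a ∈ Subgroup.zpowers (⟨g, hg⟩ : A) with hT
  have hTS : T ⊆ S := by
    intro a ha
    rw [hT, Finset.mem_filter] at ha
    rw [hS, Finset.mem_filter]
    refine ⟨Finset.mem_univ _, orderOf_dvd_iff_pow_eq_one.mp ?_⟩
    rw [← Subgroup.orderOf_mk g hg]
    exact orderOf_dvd_of_mem_zpowers ha.2
  have hTc : T.card = orderOf g := by
    rw [hT, ← Fintype.card_subtype, ← Nat.card_eq_fintype_card, ← Subgroup.orderOf_mk g hg,
      ← Nat.card_zpowers]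
  have heq := Finset.eq_of_subset_of_card_le hTS (hTc ▸ hcard)
  have hyS : (⟨y, hy⟩ : A) ∈ S := by
    rw [hS, Finset.mem_filter]
    refine ⟨Finset.mem_univ _, orderOf_dvd_iff_pow_eq_one.mp ?_⟩
    rwa [Subgroup.orderOf_mk]
  rw [← heq, hT, Finset.mem_filter] at hyS
  obtain ⟨i, hi⟩ := Subgroup.mem_zpowers_iff.mp hyS.2
  exact Subgroup.mem_zpowers_iff.mpr ⟨i, congrArg Subtype.val hi⟩

end Group

section Module

variable {X V : Type*} [Group X] [Finite X] [AddCommGroup V] [Finite V] [DistribMulAction X V]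
  [FaithfulSMul X V]

/-- The image of `v ↦ x • v + v`. -/
theorem eq_top_of_order (hV : ∀ v : V, v + v = 0) {n : ℕ} (hn : Nat.card V = 2 ^ n) {x : X}
    {G : Set X} (hx1 : x ≠ 1) (hxo : Odd (orderOf x)) (hG : ∀ g ∈ G, Commute g x)
    (hdim : ∀ f, 0 < f → f ≤ n → (∀ A : AddSubgroup V, Nat.card A = 2 ^ f →
      (∀ g ∈ G, Stab g A) → (∀ v ∈ A, x • v = v → v = 0) → f = n)) :
    ∀ v : V, x • v = v → v = 0 := by
  let ψ : V →+ V :=
    { toFun := fun v => x • v + v
      map_zero' := by simp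
      map_add' := fun a b => by simp [smul_add]; abel }
  obtain ⟨f, hf⟩ := exists_card_pow hV ψ.range
  have hfree : ∀ v ∈ ψ.range, x • v = v → v = 0 := by
    rintro _ ⟨u, rfl⟩ hu
    change x • (x • u + u) = x • u + u at hu
    rw [smul_add, ← mul_smul, add_comm (x • u) u] at hu
    have h1 : (x * x) • u = u := add_right_cancel hu
    obtain ⟨j, hj⟩ := hxo
    have h2 : x • u = u := by
      have h3 : (x * x) ^ (j + 1) • u = u :=
        MulAction.mem_stabilizer_iff.mp (pow_mem (MulAction.mem_stabilizer_iff.mpr h1) (j + 1))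
      rwa [← pow_two, ← pow_mul, show 2 * (j + 1) = (2 * j + 1) + 1 by ring, pow_succ, ← hj,
        pow_orderOf_eq_one, one_mul] at h3
    show x • u + u = 0
    rw [h2, hV]
  have hstab : ∀ g ∈ G, Stab g ψ.range := by
    rintro g hg _ ⟨u, rfl⟩
    refine ⟨g • u, ?_⟩
    show x • g • u + g • u = g • (x • u + u)
    rw [smul_add, ← mul_smul, ← mul_smul, (hG g hg).eq]
  have hf0 : 0 < f := by
    rcases Nat.eq_zero_or_pos f with rfl | h
    · exfalso
      apply hx1
      refine eq_of_smul_eq_smul (α := V) fun v => ?_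
      rw [one_smul]
      apply eq_of_add hV
      have h0 := AddSubgroup.card_eq_one.mp hf
      exact AddSubgroup.mem_bot.mp (h0 ▸ (⟨v, rfl⟩ : x • v + v ∈ ψ.range))
    · exact h
  have hfn : f ≤ n := by
    have := AddSubgroup.card_le_card_addGroup ψ.range
    rw [hn, hf] at this
    exact (Nat.pow_le_pow_iff_right (by norm_num)).mp this
  have htop : ψ.range = ⊤ :=
    AddSubgroup.eq_top_of_card_eq _ (by rw [hf, hn, hdim f hf0 hfn _ hf hstab hfree])
  exact fun v hv => hfree v (htop ▸ AddSubgroup.mem_top v) hv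

/-- An element of suitable order is irreducible. -/
theorem irred_of_order (hV : ∀ v : V, v + v = 0) {n : ℕ} (hn : Nat.card V = 2 ^ n) (hn0 : 0 < n)
    {g : X} {s e : ℕ} (hs : s.Prime) (hs2 : s ≠ 2) (hg : orderOf g = s ^ (e + 1))
    (hr : ∀ f, s ^ (e + 1) ∣ 2 ^ f - 1 → n ∣ f) : Irred V g := by
  set ω := g ^ s ^ e with hω
  have hω1 : ω ≠ 1 := pow_ne_one_of_lt_orderOf (pow_pos hs.pos e).ne'
    (by rw [hg]; exact Nat.pow_lt_pow_right hs.one_lt (Nat.lt_succ_self e))
  have hωo : Odd (orderOf ω) :=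
    (((hs.odd_of_ne_two hs2).pow (n := e + 1))).of_dvd_nat (hg ▸ orderOf_pow_dvd _)
  have hωfix : ∀ (i : ℕ) (v : V), g ^ i • v = v → g ^ i ≠ 1 → ω • v = v := fun i v hv hne =>
    MulAction.mem_stabilizer_iff.mp (pow_prime_mem_of_pow_mem hs hg (MulAction.stabilizer X v)
      (MulAction.mem_stabilizer_iff.mpr hv) hne)
  have hfpf : ∀ v : V, ω • v = v → v = 0 := by
    refine eq_top_of_order hV hn (G := {g}) hω1 hωo
      (fun a ha => by rw [Set.mem_singleton_iff] at ha; rw [ha]; exact (Commute.refl g).pow_right _)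
      ?_
    intro f hf0 hfn A hA hst hfree
    have hd := orderOf_dvd_of_free_on (x := g) (U := A)
      (fun i v hv hiv hv0 => by_contra fun hne => hv0 (hfree v hv (hωfix i v hiv hne)))
      (hst g rfl)
    rw [hg, hA] at hd
    exact le_antisymm hfn (Nat.le_of_dvd hf0 (hr f hd))
  refine ⟨hV, ?_, fun A hA => ?_⟩
  · have : Nontrivial V := Finite.one_lt_card_iff_nontrivial.mp
      (hn ▸ Nat.one_lt_two_pow hn0.ne')
    exact exists_ne 0
  · have hsr : SemiReg V g := fun i v hiv hv0 =>
      by_contra fun hne => hv0 (hfpf v (hωfix i v hiv hne))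
    obtain ⟨f, hf⟩ := exists_card_pow hV A
    have hd := orderOf_dvd_card_sub_one hsr hA
    rw [hg, hf] at hd
    have hfn : f ≤ n := by
      have := AddSubgroup.card_le_card_addGroup A
      rw [hn, hf] at this
      exact (Nat.pow_le_pow_iff_right (by norm_num)).mp this
    rcases Nat.eq_zero_or_pos f with rfl | hf0
    · exact Or.inl (AddSubgroup.card_eq_one.mp (by rw [hf, pow_zero]))
    · exact Or.inr (AddSubgroup.eq_top_of_card_eq _
        (by rw [hf, hn, le_antisymm hfn (Nat.le_of_dvd hf0 (hr f hd))]))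

theorem six_period (r : ℕ) (hr : r = 9 ∨ r = 21) {f : ℕ} (h : r ∣ 2 ^ f - 1) : 6 ∣ f := by
  have hm : 2 ^ f % r = 2 ^ (f % 6) % r := by
    have h64 : 2 ^ 6 % r = 1 := by rcases hr with rfl | rfl <;> norm_num
    conv_lhs => rw [← Nat.div_add_mod f 6, pow_add, pow_mul, Nat.mul_mod, Nat.pow_mod, h64,
      one_pow]
    rcases hr with rfl | rfl <;> simp [Nat.mod_mod]
  have h1 : 2 ^ f % r = 1 := by
    have := Nat.one_le_two_pow (n := f)
    obtain ⟨c, hc⟩ := h
    rcases hr with rfl | rfl <;> omega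
  rw [h1] at hm
  have h6' : f % 6 < 6 := Nat.mod_lt _ (by norm_num)
  apply Nat.dvd_of_mod_eq_zero
  generalize f % 6 = x at hm h6' ⊢
  rcases hr with rfl | rfl <;> interval_cases x <;> first | rfl | norm_num at hm

/-- In dimension six the Sylow 3-subgroups are cyclic. -/
theorem sylow_three_isCyclic (hV : ∀ v : V, v + v = 0) (hn : Nat.card V = 2 ^ 6)
    (hfpf : ∀ z : X, RealOdd z → ∀ v : V, z • v = v → v ≠ 0 → z = 1)
    (hreal : ∀ z : X, RealOdd z → z ≠ 1 → ¬ 3 ∣ (Subgroup.centralizer ({z} : Set X)).index)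
    (hnine : ∀ v : V, v ≠ 0 → 9 ∣ (MulAction.stabilizer X v).index)
    (hfix : ∀ u : X, u * u = 1 → u ≠ 1 → Nat.card (fixSub V u) = 8)
    (hex : ∃ y : X, RealOdd y ∧ y ≠ 1) (Q : Sylow 3 X) : IsCyclic (Q : Subgroup X) := by
  have h3 : Fact (Nat.Prime 3) := ⟨Nat.prime_three⟩
  have hsemi : ∀ z : X, RealOdd z → orderOf z ∣ 63 := by
    intro z hz
    have := orderOf_dvd_card_sub_one (semiReg_of_realOdd hfpf hz) (U := (⊤ : AddSubgroup V))
      (fun _ _ => trivial)
    rw [AddSubgroup.card_top, hn] at this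
    exact this
  suffices h : ∃ P : Sylow 3 X, IsCyclic (P : Subgroup X) by
    obtain ⟨P, hP⟩ := h
    obtain ⟨c, hc⟩ := MulAction.exists_smul_eq X P Q
    rw [← hc]
    exact ((Sylow.equivSMul P c).isCyclic).mp hP
  -- no real element of order seven
  have h7 : ∀ y : X, RealOdd y → orderOf y ≠ 7 := by
    intro y hy hy7
    have hy1 : y ≠ 1 := fun e => by rw [e, orderOf_one] at hy7; omega
    obtain ⟨P, hP⟩ := exists_sylow_le _ (hreal y hy hy1)
    obtain ⟨v, hv⟩ : ∃ v : V, v ≠ 0 := by
      have : Nontrivial V := Finite.one_lt_card_iff_nontrivial.mp (hn ▸ by norm_num)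
      exact exists_ne 0
    have h3P : 3 ∣ Nat.card (P : Subgroup X) :=
      P.dvd_card_of_dvd_card ((Nat.dvd_trans (by norm_num) (hnine v hv)).trans
        (Subgroup.index_dvd_card _))
    obtain ⟨c, hc⟩ := exists_prime_orderOf_dvd_card' 3 h3P
    rw [← Subgroup.orderOf_coe] at hc
    have hcy : Commute (c : X) y := Subgroup.mem_centralizer_singleton_iff.mp (hP c.2)
    set z := (c : X) with hz
    have hzfree : ∀ u : V, z • u = u → u = 0 := by
      refine eq_top_of_order hV hn (G := {y, z}) (fun e => by rw [e, orderOf_one] at hc; omega)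
        (by rw [hc]; decide) ?_ ?_
      · rintro g (rfl | rfl)
        · exact hcy.symm
        · exact Commute.refl _
      · intro f hf0 hfn A hA hst hfree
        have h1 : 7 ∣ 2 ^ f - 1 := by
          rw [← hy7, ← hA]
          exact orderOf_dvd_card_sub_one (semiReg_of_realOdd hfpf hy) (hst y (by simp))
        have h2 : 3 ∣ 2 ^ f - 1 := by
          rw [← hc, ← hA]
          refine orderOf_dvd_of_free_on (fun i v hv hiv hv0 => by_contra fun hne => hv0 ?_)
            (hst z (by simp))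
          refine hfree v hv ?_
          have := pow_prime_mem_of_pow_mem (e := 0) Nat.prime_three (by rw [hc]; rfl)
            (MulAction.stabilizer X v) (MulAction.mem_stabilizer_iff.mpr hiv) hne
          simpa using this
        have h21 : 21 ∣ 2 ^ f - 1 := Nat.Coprime.mul_dvd_of_dvd_of_dvd
          (by norm_num : Nat.Coprime 3 7) h2 h1
        exact le_antisymm hfn (Nat.le_of_dvd hf0 (six_period 21 (Or.inr rfl) h21))
    set a := y * z with ha
    have hao : orderOf a = 21 := by
      rw [ha, Commute.orderOf_mul_eq_mul_orderOf_of_coprime hcy.symm (by rw [hy7, hc]; norm_num),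
        hy7, hc]
    have hasr : SemiReg V a := by
      refine semiReg_of_prime fun b hb hbp v hbv => ?_
      by_contra hv0
      obtain ⟨i, hi⟩ := (mem_powers_iff_mem_zpowers (x := a)).mpr hb
      simp only at hi
      have hd : orderOf b ∣ 3 * 7 := by
        have := orderOf_dvd_of_mem_zpowers hb
        rwa [hao] at this
      have hpow : ∀ m : ℕ, b = a ^ i → b ^ m = y ^ (i * m) * z ^ (i * m) := fun m hb' => by
        rw [hb', ← pow_mul, ha, hcy.symm.mul_pow]
      have hb1 : b ≠ 1 := fun e => hbp.ne_one (by rw [e, orderOf_one])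
      have hbm : ∀ m : ℕ, b ^ m • v = v := fun m =>
        MulAction.mem_stabilizer_iff.mp (pow_mem (MulAction.mem_stabilizer_iff.mpr hbv) m)
      rcases (Nat.Prime.dvd_mul hbp).mp hd with h | h
      · have hb3 := (Nat.prime_dvd_prime_iff_eq hbp Nat.prime_three).mp h
        have h1 := hpow 7 hi.symm
        rw [mul_comm i 7, pow_mul y, show y ^ 7 = 1 from hy7 ▸ pow_orderOf_eq_one y, one_pow,
          one_mul] at h1
        have h2 := hbm 7
        rw [h1] at h2
        by_cases hz1 : z ^ (7 * i) = 1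
        · rw [hz1] at h1
          exact absurd (orderOf_dvd_of_pow_eq_one h1) (by rw [hb3]; norm_num)
        · refine hv0 (hzfree v ?_)
          have := pow_prime_mem_of_pow_mem (e := 0) Nat.prime_three (by rw [hc]; rfl)
            (MulAction.stabilizer X v) (MulAction.mem_stabilizer_iff.mpr h2) hz1
          simpa using this
      · have hb7 := (Nat.prime_dvd_prime_iff_eq hbp (by norm_num)).mp h
        have h1 := hpow 3 hi.symm
        rw [mul_comm i 3, pow_mul z, show z ^ 3 = 1 from hc ▸ pow_orderOf_eq_one z, one_pow,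
          mul_one] at h1
        have h2 := hbm 3
        rw [h1] at h2
        have h4 := semiReg_of_realOdd hfpf hy (3 * i) v h2 hv0
        rw [h4] at h1
        exact absurd (orderOf_dvd_of_pow_eq_one h1) (by rw [hb7]; norm_num)
    have I : Irred V a := by
      refine ⟨hV, ⟨v, hv⟩, fun A hA => ?_⟩
      obtain ⟨f, hf⟩ := exists_card_pow hV A
      have hd := orderOf_dvd_card_sub_one hasr hA
      rw [hao, hf] at hd
      have hfn : f ≤ 6 := by
        have := AddSubgroup.card_le_card_addGroup A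
        rw [hn, hf] at this
        exact (Nat.pow_le_pow_iff_right (by norm_num)).mp this
      rcases Nat.eq_zero_or_pos f with rfl | hf0
      · exact Or.inl (AddSubgroup.card_eq_one.mp (by rw [hf, pow_zero]))
      · exact Or.inr (AddSubgroup.eq_top_of_card_eq _
          (by rw [hf, hn, le_antisymm hfn (Nat.le_of_dvd hf0 (six_period 21 (Or.inr rfl) hd))]))
    obtain ⟨-, u, hu⟩ := hy
    have hya : Commute y a := (Commute.refl y).mul_right hcy.symm
    obtain ⟨i, hi⟩ := I.exists_frobenius hya hya.inv_left hu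
    have h8 : 7 ∣ 2 ^ i + 1 := by
      rw [← hy7]
      refine orderOf_dvd_of_pow_eq_one ?_
      rw [pow_succ, ← hi, inv_mul_cancel]
    have hm : 2 ^ i % 7 = 2 ^ (i % 3) % 7 := by
      conv_lhs => rw [← Nat.div_add_mod i 3, pow_add, pow_mul, Nat.mul_mod, Nat.pow_mod]
      norm_num
    have h9 : i % 3 < 3 := Nat.mod_lt _ (by norm_num)
    generalize i % 3 = x at hm h9
    interval_cases x <;> omega
  -- prime orders of real elements are three
  have hpr : ∀ y : X, RealOdd y → (orderOf y).Prime → orderOf y = 3 := by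
    intro y hy hp
    have h := hsemi y hy
    rw [show 63 = 3 * 3 * 7 by norm_num] at h
    rcases (Nat.Prime.dvd_mul hp).mp h with h | h
    · exact (Nat.prime_dvd_prime_iff_eq hp Nat.prime_three).mp
        (((Nat.Prime.dvd_mul hp).mp h).elim id id)
    · exact absurd ((Nat.prime_dvd_prime_iff_eq hp (by norm_num)).mp h) (h7 y hy)
  by_cases h9 : ∃ z : X, RealOdd z ∧ orderOf z = 9
  · obtain ⟨z, hz, hz9⟩ := h9
    have hz1 : z ≠ 1 := fun e => by rw [e, orderOf_one] at hz9; omega
    obtain ⟨P, hP⟩ := exists_sylow_le _ (hreal z hz hz1)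
    have I : Irred V z := irred_of_order hV hn (by norm_num) Nat.prime_three (by norm_num) (e := 1)
      (by rw [hz9]; norm_num) (fun f hf => six_period 9 (Or.inl rfl) (by simpa using hf))
    have := I.isCyclic_centralizer
    exact ⟨P, Subgroup.isCyclic_of_le hP⟩
  exfalso
  push Not at h9
  have hcube : ∀ z : X, RealOdd z → z ^ 3 = 1 := by
    intro z hz
    rw [← orderOf_dvd_iff_pow_eq_one]
    have h := hsemi z hz
    have h7' : ¬ 7 ∣ orderOf z := fun hd => h7 _ (hz.pow (orderOf z / 7))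
      (orderOf_pow_orderOf_div (orderOf_pos z).ne' hd)
    have h9' : ¬ 9 ∣ orderOf z := fun hd => h9 _ (hz.pow (orderOf z / 9))
      (orderOf_pow_orderOf_div (orderOf_pos z).ne' hd)
    have hle : orderOf z ≤ 63 := Nat.le_of_dvd (by norm_num) h
    generalize orderOf z = m at h h7' h9' hle ⊢
    interval_cases m <;> omega
  obtain ⟨y, hy, hy1⟩ := hex
  have hy3 : orderOf y = 3 := orderOf_eq_prime (hcube y hy) hy1
  set C := Subgroup.centralizer ({y} : Set X) with hC
  have hy3' : y ^ 3 = 1 := hcube y hy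
  -- no involution commutes with `y`
  have hodd : ∀ c : X, TwoEl c → Commute c y → c = 1 := by
    intro c hc hcy
    by_contra hne
    obtain ⟨i, hi, hi1⟩ := hc.exists_involution hne
    have := orderOf_dvd_card_sub_one (semiReg_of_realOdd hfpf hy)
      (U := fixSub V (c ^ i)) (stab_fixSub_of_commute (hcy.symm.pow_right i))
    rw [hfix _ hi hi1, hy3] at this
    omega
  obtain ⟨P, hP⟩ := exists_sylow_le _ (hreal y hy hy1)
  have hyP : y ∈ (P : Subgroup X) := by
    have h1 : IsPGroup 3 (Subgroup.zpowers y) := isPGroup_zpowers_of_orderOf (k := 1) (by rw [hy3]; rfl)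
    have h2 := P.2.to_sup_of_normal_left' h1 (Subgroup.zpowers_le.mpr (Subgroup.mem_normalizer_iff.mpr
      fun q => by
        constructor
        · intro hq
          rw [show y * q * y⁻¹ = q by
            rw [← (Subgroup.mem_centralizer_singleton_iff.mp (hP hq)), mul_inv_cancel_right]]
          exact hq
        · intro hq
          have h := Subgroup.mem_centralizer_singleton_iff.mp (hP hq)
          rw [show q = y * q * y⁻¹ by
            calc q = y⁻¹ * (y * q * y⁻¹) * y := by group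
              _ = y⁻¹ * (y * (y * q * y⁻¹)) := by rw [mul_assoc, h]
              _ = _ := by group]
          exact hq))
    rw [← P.3 h2 le_sup_left]
    exact le_sup_right (a := (P : Subgroup X)) (Subgroup.mem_zpowers y)
  -- an involution inverting `y` and normalising `P`
  obtain ⟨x, hxx, hxy, hxP⟩ : ∃ x : X, x * x = 1 ∧ x * y * x⁻¹ = y⁻¹ ∧
      ∀ q ∈ (P : Subgroup X), x * q * x⁻¹ ∈ (P : Subgroup X) := by
    obtain ⟨-, u, hu⟩ := hy
    have hle : ((u • P : Sylow 3 X) : Subgroup X) ≤ C := by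
      rw [Sylow.coe_subgroup_smul]
      rintro _ ⟨q, hq, rfl⟩
      rw [Subgroup.mem_centralizer_singleton_iff]
      show (u * q * u⁻¹) * y = y * (u * q * u⁻¹)
      have h := Subgroup.mem_centralizer_singleton_iff.mp (hP hq)
      have h' : q * y⁻¹ = y⁻¹ * q := (Commute.inv_right h).eq
      have hy' : u * y⁻¹ * u⁻¹ = y := by
        have := congrArg (·⁻¹) hu
        simpa [mul_assoc] using this
      calc (u * q * u⁻¹) * y = (u * q * u⁻¹) * (u * y⁻¹ * u⁻¹) := by rw [hy']
        _ = u * (q * y⁻¹) * u⁻¹ := by group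
        _ = u * (y⁻¹ * q) * u⁻¹ := by rw [h']
        _ = (u * y⁻¹ * u⁻¹) * (u * q * u⁻¹) := by group
        _ = _ := by rw [hy']
    obtain ⟨c, hc⟩ := MulAction.exists_smul_eq C ((u • P).subtype hle) (P.subtype hP)
    have hcP : ((c : X) * u) • P = P := by
      rw [mul_smul]
      apply Sylow.subtype_injective (hP := (Sylow.smul_le hle c)) (hQ := hP)
      rw [← hc, Sylow.smul_subtype]
    have hcy : (c : X) * u * y * ((c : X) * u)⁻¹ = y⁻¹ := by
      have h := Subgroup.mem_centralizer_singleton_iff.mp c.2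
      have h' : (c : X) * y⁻¹ = y⁻¹ * c := (Commute.inv_right h).eq
      calc (c : X) * u * y * ((c : X) * u)⁻¹ = c * (u * y * u⁻¹) * (c : X)⁻¹ := by group
        _ = _ := by rw [hu, h', mul_inv_cancel_right]
    obtain ⟨o, ho2, hoy⟩ := exists_two_inverter hcy
    refine ⟨((c : X) * u) ^ o, ?_, hoy, ?_⟩
    · obtain ⟨k, hk⟩ := ho2
      set x0 := ((c : X) * u) ^ o
      refine hodd _ ⟨k, ?_⟩ ?_
      · rw [(Commute.refl x0).mul_pow, hk, one_mul]
      · have h1 : x0 * y⁻¹ * x0⁻¹ = y := by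
          have := congrArg (·⁻¹) hoy
          simpa [mul_assoc] using this
        refine mul_inv_eq_iff_eq_mul.mp ?_
        calc x0 * x0 * y * (x0 * x0)⁻¹ = x0 * (x0 * y * x0⁻¹) * x0⁻¹ := by group
          _ = y := by rw [hoy, h1]
    · intro q hq
      have hst : ((c : X) * u) ^ o • P = P :=
        MulAction.mem_stabilizer_iff.mp (pow_mem (MulAction.mem_stabilizer_iff.mpr hcP) o)
      rw [← hst, Sylow.coe_subgroup_smul]
      exact ⟨q, hq, rfl⟩
  -- inverted elements of `P` are powers of `y`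
  have hinv : ∀ z ∈ (P : Subgroup X), x * z * x⁻¹ = z⁻¹ → z ∈ Subgroup.zpowers y := by
    intro z hz hzx
    by_contra hne
    have hcy : Commute z y := Subgroup.mem_centralizer_singleton_iff.mp (hP hz)
    have hr : ∀ i : ℕ, RealOdd (z * y ^ i) := by
      intro i
      refine ⟨?_, x, ?_⟩
      · obtain ⟨m, hm⟩ := P.2 ⟨_, mul_mem hz (pow_mem hyP i)⟩
        have hm' : (z * y ^ i) ^ 3 ^ m = 1 := by
          simpa using congrArg (Subgroup.subtype (P : Subgroup X)) hm
        exact ((by decide : Odd 3).pow).of_dvd_nat (orderOf_dvd_of_pow_eq_one hm')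
      · rw [(hcy.pow_right i).eq, mul_inv_rev, ← hzx, ← conj_inv_pow hxy i, conj_mul,
          (hcy.pow_right i).eq]
    have hne1 : ∀ i : ℕ, z * y ^ i ≠ 1 := fun i e => hne (by
      rw [eq_inv_of_mul_eq_one_left e]
      exact inv_mem (pow_mem (Subgroup.mem_zpowers y) i))
    have hsum : ∀ h : X, RealOdd h → h ≠ 1 → ∀ v : V, v + h • v + h ^ 2 • v = 0 := by
      intro h hh hh1 v
      by_contra h0
      refine hh1 (hfpf h hh _ ?_ h0)
      rw [smul_add, smul_add, ← mul_smul, ← mul_smul, ← pow_succ', ← pow_two, hcube h hh, one_smul]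
      abel
    obtain ⟨v, hv⟩ : ∃ v : V, v ≠ 0 := by
      have : Nontrivial V := Finite.one_lt_card_iff_nontrivial.mp (hn ▸ by norm_num)
      exact exists_ne 0
    have e0 := hsum _ (hr 0) (hne1 0) v
    have e1 := hsum _ (hr 1) (hne1 1) v
    have e2 := hsum _ (hr 2) (hne1 2) v
    have ey := hsum y hy hy1
    rw [pow_zero, mul_one] at e0
    rw [pow_one] at e1
    have p1 : (z * y) ^ 2 = z ^ 2 * y ^ 2 := hcy.mul_pow 2
    have p2 : (z * y ^ 2) ^ 2 = z ^ 2 * y := by
      rw [(hcy.pow_right 2).mul_pow, ← pow_mul, show 2 * 2 = 3 + 1 by norm_num, pow_succ y 3, hy3',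
        one_mul]
    rw [p1, mul_smul, mul_smul] at e1
    rw [p2, mul_smul, mul_smul] at e2
    have f1 : z • v + z • y • v + z • y ^ 2 • v = 0 := by
      rw [← smul_add, ← smul_add, ey v, smul_zero]
    have f2 : z ^ 2 • v + z ^ 2 • y • v + z ^ 2 • y ^ 2 • v = 0 := by
      rw [← smul_add, ← smul_add, ey v, smul_zero]
    apply hv
    have : (v + z • v + z ^ 2 • v) + (v + z • y • v + z ^ 2 • y ^ 2 • v) +
        (v + z • y ^ 2 • v + z ^ 2 • y • v) =
        v + v + v + (z • v + z • y • v + z • y ^ 2 • v) +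
          (z ^ 2 • v + z ^ 2 • y • v + z ^ 2 • y ^ 2 • v) := by abel
    rw [e0, e1, e2, f1, f2, hV v] at this
    simpa using this.symm
  -- count
  set CQ := (P : Subgroup X) ⊓ Subgroup.centralizer ({x} : Set X) with hCQ
  have hxi : x⁻¹ = x := inv_eq_of_mul_eq_one_right hxx
  have hidx : Nat.card (P : Subgroup X) ≤ 3 * Nat.card CQ := by
    rw [← Subgroup.card_mul_index (CQ.subgroupOf (P : Subgroup X)),
      Nat.card_congr (Subgroup.subgroupOfEquivOfLe (inf_le_left : CQ ≤ _)).toEquiv, mul_comm 3]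
    refine Nat.mul_le_mul_left _ ?_
    refine le_of_le_of_eq ?_ ((Nat.card_zpowers y).trans hy3)
    rw [Subgroup.index_eq_card]
    have hmem : ∀ q : (P : Subgroup X), (q : X) * x * (q : X)⁻¹ * x ∈ Subgroup.zpowers y := by
      intro q
      refine hinv _ ?_ ?_
      · have := mul_mem q.2 (hxP _ (inv_mem q.2))
        rw [hxi] at this
        simpa [mul_assoc] using this
      · simp only [mul_inv_rev, inv_inv, hxi]
        simp [mul_assoc, hxx]
    let F : (P : Subgroup X) ⧸ CQ.subgroupOf (P : Subgroup X) → Subgroup.zpowers y :=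
      Quotient.lift (fun q => (⟨_, hmem q⟩ : Subgroup.zpowers y)) (by
        intro a b hab
        have h := Subgroup.mem_subgroupOf.mp (QuotientGroup.leftRel_apply.mp hab)
        have h2 := Subgroup.mem_centralizer_singleton_iff.mp (Subgroup.mem_inf.mp h).2
        rw [Subgroup.coe_mul, Subgroup.coe_inv] at h2
        apply Subtype.ext
        show (a : X) * x * (a : X)⁻¹ * x = (b : X) * x * (b : X)⁻¹ * x
        congr 1
        calc (a : X) * x * (a : X)⁻¹ = a * (x * ((a : X)⁻¹ * b)) * (b : X)⁻¹ := by group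
          _ = _ := by rw [← h2]; group)
    refine Nat.card_le_card_of_injective F ?_
    rintro ⟨a⟩ ⟨b⟩ hab
    apply Quotient.sound
    refine QuotientGroup.leftRel_apply.mpr (Subgroup.mem_subgroupOf.mpr ?_)
    refine Subgroup.mem_inf.mpr ⟨mul_mem (inv_mem a.2) b.2, ?_⟩
    rw [Subgroup.mem_centralizer_singleton_iff, Subgroup.coe_mul, Subgroup.coe_inv]
    have h := mul_right_cancel (congrArg Subtype.val hab)
    calc (a : X)⁻¹ * b * x = (a : X)⁻¹ * (b * x * (b : X)⁻¹) * b := by group
      _ = (a : X)⁻¹ * (a * x * (a : X)⁻¹) * b := by rw [h]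
      _ = _ := by group
  -- `CQ` fixes a vector
  have hst : ∀ q ∈ CQ, Stab q (fixSub V x) := fun q hq =>
    stab_fixSub_of_commute (Subgroup.mem_centralizer_singleton_iff.mp (Subgroup.mem_inf.mp hq).2)
  letI : MulAction CQ (fixSub V x) :=
    { smul := fun q v => ⟨(q : X) • v.1, hst q q.2 v.1 v.2⟩
      one_smul := fun v => Subtype.ext (one_smul X v.1)
      mul_smul := fun a b v => Subtype.ext (mul_smul (a : X) (b : X) v.1) }
  have hx1 : x ≠ 1 := fun e => by
    rw [e, one_mul, inv_one, mul_one] at hxy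
    exact hy1 (sq_pow_eq_one_of_odd hy.1 (inv_eq_iff_mul_eq_one.mp hxy.symm))
  obtain ⟨v, hv0, hv⟩ : ∃ v : V, v ≠ 0 ∧ ∀ q ∈ CQ, q • v = v := by
    have hp : IsPGroup 3 CQ := P.2.to_le inf_le_left
    have h := hp.card_modEq_card_fixedPoints (fixSub V x)
    rw [hfix x hxx hx1] at h
    by_contra hno
    push Not at hno
    have : Nat.card (MulAction.fixedPoints CQ (fixSub V x)) = 1 := by
      rw [Nat.card_eq_one_iff_unique]
      refine ⟨⟨fun a b => ?_⟩, ⟨⟨0, fun q => Subtype.ext (smul_zero (q : X))⟩⟩⟩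
      have h0 : ∀ c : MulAction.fixedPoints CQ (fixSub V x), (c.1 : V) = 0 := fun c => by
        by_contra hc
        obtain ⟨q, hq, hqv⟩ := hno _ hc
        exact hqv (congrArg Subtype.val (c.2 ⟨q, hq⟩))
      exact Subtype.ext (Subtype.ext ((h0 a).trans (h0 b).symm))
    rw [this] at h
    exact absurd h (by decide)
  have hstab : CQ ≤ MulAction.stabilizer X v := fun q hq => hv q hq
  have hdvd : Nat.card CQ * 9 ∣ Nat.card X := by
    rw [← (MulAction.stabilizer X v).card_mul_index]
    exact Nat.mul_dvd_mul (Subgroup.card_dvd_of_le hstab) (hnine v hv0)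
  obtain ⟨m, hm⟩ := (P.2.to_le (inf_le_left : CQ ≤ _)).exists_card_eq
  have hd2 : Nat.card CQ * 9 ∣ Nat.card (P : Subgroup X) := by
    rw [hm, show 9 = 3 ^ 2 from rfl, ← pow_add] at hdvd ⊢
    exact P.pow_dvd_card_of_pow_dvd_card hdvd
  have := Nat.le_of_dvd Nat.card_pos hd2
  have : 0 < Nat.card CQ := Nat.card_pos
  omega

end Module

end Cfsg.Agent.Lib.RealGraph
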