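import Mathlib
import Cfsg.Agent.S0205
import Cfsg.Agent.Lib.RealGraph.Cyc
import Cfsg.Agent.Lib.RealGraph.Six

/-!
# The module case: the acting group is solvable

The Sylow 2-subgroups of `X` have disjoint fixed spaces covering `V`, an element `g` of suitable
order is irreducible, and a Sylow 2-subgroup turns out to be cyclic.
-/

set_option autoImplicit false

namespace Cfsg.Agent.Lib.RealGraph

universe u

/-- The hypotheses on a faithful module. -/
structure TopHyp (X V : Type u) [Group X] [AddCommGroup V] [DistribMulAction X V]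
    (π : Set ℕ) : Prop where
  two : ∀ v : V, v + v = 0
  nontriv : ∃ v : V, v ≠ 0
  not_two : 2 ∉ π
  stab : ∀ v : V, v ≠ 0 → ∀ q : ℕ, q.Prime → q ∣ (MulAction.stabilizer X v).index → q ∈ π
  fpf : ∀ z : X, RealOdd z → ∀ v : V, z • v = v → v ≠ 0 → z = 1
  real : ∀ z : X, RealOdd z → z ≠ 1 → ∀ q : ℕ, q.Prime →
    q ∣ (Subgroup.centralizer ({z} : Set X)).index → q ∉ π

section Fix

variable {X V : Type*} [Group X] [AddCommGroup V] [DistribMulAction X V]

/-- The fixed points of a subgroup. -/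
def fixGrp (V : Type*) [AddCommGroup V] [DistribMulAction X V] (T : Subgroup X) :
    AddSubgroup V where
  carrier := {v | ∀ x ∈ T, x • v = v}
  zero_mem' x _ := smul_zero x
  add_mem' ha hb x hx := by rw [smul_add, ha x hx, hb x hx]
  neg_mem' ha x hx := by rw [smul_neg, ha x hx]

theorem mem_fixGrp {T : Subgroup X} {v : V} : v ∈ fixGrp V T ↔ ∀ x ∈ T, x • v = v := Iff.rfl

theorem le_stabilizer_iff {T : Subgroup X} {v : V} :
    T ≤ MulAction.stabilizer X v ↔ v ∈ fixGrp V T := Iff.rfl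

theorem smul_mem_fixGrp {p : ℕ} {S : Sylow p X} {g : X} {v : V}
    (hv : v ∈ fixGrp V (S : Subgroup X)) : g • v ∈ fixGrp V ((g • S : Sylow p X) : Subgroup X) := by
  intro x hx
  rw [Sylow.coe_subgroup_smul] at hx
  obtain ⟨y, hy, rfl⟩ := hx
  show (g * y * g⁻¹) • g • v = g • v
  rw [← mul_smul, inv_mul_cancel_right, mul_smul, hv y hy]

theorem card_fixGrp_smul [Finite V] {p : ℕ} (S : Sylow p X) (g : X) :
    Nat.card (fixGrp V ((g • S : Sylow p X) : Subgroup X)) = Nat.card (fixGrp V (S : Subgroup X)) := by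
  apply le_antisymm
  · refine Nat.card_le_card_of_injective (fun v => ⟨g⁻¹ • (v : V), ?_⟩) ?_
    · have := smul_mem_fixGrp (g := g⁻¹) v.2
      rwa [inv_smul_smul] at this
    · intro a b h
      exact Subtype.ext (MulAction.injective g⁻¹ (congrArg Subtype.val h))
  · refine Nat.card_le_card_of_injective (fun v => ⟨g • (v : V), smul_mem_fixGrp v.2⟩) ?_
    intro a b h
    exact Subtype.ext (MulAction.injective g (congrArg Subtype.val h))

end Fix

section TwoPow

variable {X : Type*} [Group X]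

/-- Exponents of Frobenius powers may be read modulo the period. -/
theorem pow_two_pow_mod {x : X} {n : ℕ} (h : x ^ 2 ^ n = x) (a : ℕ) :
    x ^ 2 ^ a = x ^ 2 ^ (a % n) := by
  conv_lhs => rw [← Nat.div_add_mod a n, pow_add, pow_mul]
  rw [pow_two_pow_of_dvd h (dvd_mul_right n _)]

theorem pow_two_pow_congr {x : X} {n : ℕ} (h : x ^ 2 ^ n = x) {a b : ℕ}
    (hab : (a : ZMod n) = b) : x ^ 2 ^ a = x ^ 2 ^ b := by
  rw [pow_two_pow_mod h a, pow_two_pow_mod h b, (ZMod.natCast_eq_natCast_iff' a b n).mp hab]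

theorem mem_zpowers_pow_two_pow [Finite X] {x : X} (ho : Odd (orderOf x)) (a : ℕ) :
    x ∈ Subgroup.zpowers (x ^ 2 ^ a) := by
  obtain ⟨m, hm⟩ := exists_pow_eq_self_of_coprime (x := x) (n := 2 ^ a)
    (((Nat.coprime_two_left).mpr ho).pow_left a)
  exact Subgroup.mem_zpowers_iff.mpr ⟨m, by rw [zpow_natCast, hm]⟩

/-- The exponent of a Frobenius power is determined modulo the period. -/
theorem natCast_eq_of_pow_eq {x : X} {n : ℕ} (ho : Odd (orderOf x))
    (hr : ∀ f, orderOf x ∣ 2 ^ f - 1 → n ∣ f) {a b : ℕ} (h : x ^ 2 ^ a = x ^ 2 ^ b) :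
    (a : ZMod n) = b := by
  wlog hab : a ≤ b generalizing a b
  · exact (this h.symm (le_of_not_ge hab)).symm
  rw [ZMod.natCast_eq_natCast_iff]
  refine (Nat.modEq_iff_dvd' hab).mpr (hr _ ?_)
  have hd : orderOf (x ^ 2 ^ a) = orderOf x :=
    Nat.Coprime.orderOf_pow (((Nat.coprime_two_right).mpr ho).pow_right a)
  rw [← hd, ← pow_two_pow_eq_self_iff, ← pow_mul, ← pow_add, Nat.add_sub_cancel' hab]
  exact h.symm

end TwoPow

namespace TopHyp

variable {X V : Type u} [Group X] [Finite X] [AddCommGroup V] [Finite V] [DistribMulAction X V]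
  {π : Set ℕ}

theorem exists_sylow (H : TopHyp X V π) {v : V} (hv : v ≠ 0) :
    ∃ S : Sylow 2 X, (S : Subgroup X) ≤ MulAction.stabilizer X v :=
  have := Fact.mk Nat.prime_two
  exists_sylow_le _ fun h => H.not_two (H.stab v hv 2 Nat.prime_two h)

theorem normal_subtype (H : TopHyp X V π) {v : V} (hv : v ≠ 0) {S : Sylow 2 X}
    (hS : (S : Subgroup X) ≤ MulAction.stabilizer X v) :
    ((S.subtype hS : Sylow 2 (MulAction.stabilizer X v)) :
      Subgroup (MulAction.stabilizer X v)).Normal := by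
  refine Elem69.sylow_two_normal_of_no_real_odd (fun z g ho hg => ?_) _
  apply Subtype.ext
  exact H.fpf z ⟨by rwa [Subgroup.orderOf_coe], g, congrArg Subtype.val hg⟩ v
    (MulAction.mem_stabilizer_iff.mp z.2) hv

theorem sylow_unique (H : TopHyp X V π) {v : V} (hv : v ≠ 0) {S S' : Sylow 2 X}
    (hS : (S : Subgroup X) ≤ MulAction.stabilizer X v)
    (hS' : (S' : Subgroup X) ≤ MulAction.stabilizer X v) : S = S' := by
  have := Fact.mk Nat.prime_two
  have := H.normal_subtype hv hS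
  have := Sylow.unique_of_normal (S.subtype hS) this
  exact Sylow.subtype_injective (hP := hS) (hQ := hS') (Subsingleton.elim _ _)

theorem mem_sylow (H : TopHyp X V π) {v : V} (hv : v ≠ 0) {S : Sylow 2 X}
    (hS : (S : Subgroup X) ≤ MulAction.stabilizer X v) {x : X} (hx : TwoEl x) (hxv : x • v = v) :
    x ∈ (S : Subgroup X) := by
  have := Fact.mk Nat.prime_two
  have hle : Subgroup.zpowers x ≤ MulAction.stabilizer X v :=
    Subgroup.zpowers_le.mpr (MulAction.mem_stabilizer_iff.mpr hxv)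
  obtain ⟨Q, hQ⟩ := (hx.isPGroup_zpowers.comap_subtype (K := MulAction.stabilizer X v)).exists_le_sylow
  have := H.normal_subtype hv hS
  have := Sylow.unique_of_normal (S.subtype hS) this
  have hxQ : (⟨x, hle (Subgroup.mem_zpowers x)⟩ : MulAction.stabilizer X v) ∈
      ((S.subtype hS : Sylow 2 _) : Subgroup (MulAction.stabilizer X v)) := by
    rw [← Subsingleton.elim Q (S.subtype hS)]
    exact hQ (Subgroup.mem_zpowers x)
  rwa [Sylow.coe_subtype, Subgroup.mem_subgroupOf] at hxQ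

theorem index_normalizer_dvd (H : TopHyp X V π) {v : V} (hv : v ≠ 0) :
    Nat.card (Sylow 2 X) ∣ (MulAction.stabilizer X v).index := by
  have := Fact.mk Nat.prime_two
  obtain ⟨S, hS⟩ := H.exists_sylow hv
  rw [S.card_eq_index_normalizer]
  refine Subgroup.index_dvd_of_le ?_
  have := H.normal_subtype hv hS
  rw [Sylow.coe_subtype] at this
  exact Subgroup.le_normalizer_of_normal_subgroupOf hS

theorem no_normal_two [FaithfulSMul X V] (H : TopHyp X V π) (N : Subgroup X) [N.Normal]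
    (hN : IsPGroup 2 N) : N = ⊥ := by
  have := Fact.mk Nat.prime_two
  rw [Subgroup.eq_bot_iff_forall]
  intro x hx
  refine eq_of_smul_eq_smul (α := V) fun v => ?_
  rw [one_smul]
  rcases eq_or_ne v 0 with rfl | hv
  · exact smul_zero x
  obtain ⟨S, hS⟩ := H.exists_sylow hv
  have hsup := hN.to_sup_of_normal_left S.2
  have hxS : x ∈ (S : Subgroup X) := by
    rw [← S.3 hsup le_sup_right]
    exact le_sup_left (b := (S : Subgroup X)) hx
  exact hS hxS

theorem exists_inverted [FaithfulSMul X V] (H : TopHyp X V π) {u : X} (hu : u * u = 1)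
    (hu1 : u ≠ 1) : ∃ z : X, RealOdd z ∧ z ≠ 1 ∧ u * z * u⁻¹ = z⁻¹ := by
  by_contra hz
  push Not at hz
  have : Fact (Nat.Prime 2) := ⟨Nat.prime_two⟩
  obtain ⟨N, hN, hN2, huN⟩ : ∃ N : Subgroup X, N.Normal ∧ IsPGroup 2 N ∧ u ∈ N := by
    refine Involution.baer_suzuki_element u fun g => ?_
    have hu' : (g * u * g⁻¹) * (g * u * g⁻¹) = 1 := by
      calc g * u * g⁻¹ * (g * u * g⁻¹) = g * (u * u) * g⁻¹ := by group
        _ = 1 := by rw [hu]; group
    obtain ⟨i, ho, hi, h2, -⟩ := dihedral_split hu hu'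
    exact h2 (by_contra fun hne => hz _ ⟨ho, u, hi⟩ hne hi)
  rw [H.no_normal_two N hN2] at huN
  exact hu1 (Subgroup.mem_bot.mp huN)

theorem sq_card_fix [FaithfulSMul X V] (H : TopHyp X V π) {u : X} (hu : u * u = 1)
    (hu1 : u ≠ 1) : Nat.card (fixSub V u) * Nat.card (fixSub V u) = Nat.card V := by
  obtain ⟨z, hz, hz1, hzi⟩ := H.exists_inverted hu hu1
  exact le_antisymm (sq_fixSub_le H.two hz.1 (semiReg_of_realOdd H.fpf hz) hz1 hzi)
    (card_le_sq_fixSub H.two hu)

theorem card_fixGrp_eq (S S' : Sylow 2 X) :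
    Nat.card (fixGrp V (S : Subgroup X)) = Nat.card (fixGrp V (S' : Subgroup X)) := by
  have := Fact.mk Nat.prime_two
  obtain ⟨g, rfl⟩ := MulAction.exists_smul_eq X S' S
  exact card_fixGrp_smul S' g

/-- The fixed points of a 2-element are the disjoint union of the fixed points of the Sylow
subgroups through it. -/
theorem card_mul_eq (H : TopHyp X V π) {d : ℕ} {S0 : Sylow 2 X}
    (hd : Nat.card (fixGrp V (S0 : Subgroup X)) = 2 ^ d) {x : X} (hx : TwoEl x) :
    Nat.card {S : Sylow 2 X // x ∈ S} * (2 ^ d - 1) = Nat.card (fixSub V x) - 1 := by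
  classical
  have hcne : ∀ (β : AddSubgroup V), Nat.card {v : V // v ∈ β ∧ v ≠ 0} = Nat.card β - 1 := by
    intro β
    have e : {v : V // v ∈ β ∧ v ≠ 0} ≃ {v : β // v ≠ 0} :=
      { toFun := fun v => ⟨⟨v.1, v.2.1⟩, fun h => v.2.2 (congrArg Subtype.val h)⟩
        invFun := fun v => ⟨v.1.1, v.1.2, fun h => v.2 (Subtype.ext h)⟩
        left_inv := fun _ => rfl
        right_inv := fun _ => rfl }
    have := Fintype.ofFinite β
    rw [Nat.card_congr e, Nat.card_eq_fintype_card, Nat.card_eq_fintype_card,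
      Fintype.card_subtype_compl, Fintype.card_subtype_eq]
  choose f hf using fun (v : {v : V // v ≠ 0}) => H.exists_sylow v.2
  let F : {v : V // v ∈ fixSub V x ∧ v ≠ 0} → {S : Sylow 2 X // x ∈ S} := fun v =>
    ⟨f ⟨v.1, v.2.2⟩, H.mem_sylow v.2.2 (hf _) hx v.2.1⟩
  have hfib : ∀ S : {S : Sylow 2 X // x ∈ S},
      Nat.card {v : {v : V // v ∈ fixSub V x ∧ v ≠ 0} // F v = S} = 2 ^ d - 1 := by
    intro S
    rw [← hd, card_fixGrp_eq S0 S.1, ← hcne]
    refine Nat.card_congr
      { toFun := fun v => ⟨v.1.1, ?_, v.1.2.2⟩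
        invFun := fun v => ⟨⟨v.1, v.2.1 x S.2, v.2.2⟩,
          Subtype.ext (H.sylow_unique v.2.2 (hf _) v.2.1)⟩
        left_inv := fun v => rfl
        right_inv := fun v => rfl }
    have h := hf ⟨v.1.1, v.1.2.2⟩
    rw [show f ⟨v.1.1, v.1.2.2⟩ = S.1 from congrArg Subtype.val v.2] at h
    exact h
  have := Fintype.ofFinite {S : Sylow 2 X // x ∈ S}
  rw [← hcne, ← Nat.card_congr (Equiv.sigmaFiberEquiv F), Nat.card_sigma]
  simp only [hfib, Finset.sum_const, Finset.card_univ, smul_eq_mul, Nat.card_eq_fintype_card]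

end TopHyp

/-- The module case. -/
theorem TopHyp.isSolvable {X V : Type u} [Group X] [Finite X] [AddCommGroup V] [Finite V]
    [DistribMulAction X V] [FaithfulSMul X V] {π : Set ℕ} (H : TopHyp X V π) :
    Group.IsSolvable X := by
  classical
  have h2F := Fact.mk Nat.prime_two
  by_cases hodd : Odd (Nat.card X)
  · exact Cfsg.Agent.S0205.result hodd
  have h2X : 2 ∣ Nat.card X := even_iff_two_dvd.mp (Nat.not_odd_iff_even.mp hodd)
  obtain ⟨u, hu⟩ := exists_prime_orderOf_dvd_card' 2 h2X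
  have hu1 : u ≠ 1 := fun e => by rw [e, orderOf_one] at hu; omega
  have huu : u * u = 1 := by rw [← pow_two, ← hu, pow_orderOf_eq_one]
  obtain ⟨n, hn⟩ : ∃ n, Nat.card V = 2 ^ n := by
    obtain ⟨n, hn⟩ := exists_card_pow H.two (⊤ : AddSubgroup V)
    exact ⟨n, by rwa [AddSubgroup.card_top] at hn⟩
  have hn0 : 0 < n := by
    rcases Nat.eq_zero_or_pos n with rfl | h
    · obtain ⟨v, hv⟩ := H.nontriv
      rw [pow_zero, Nat.card_eq_one_iff_unique] at hn
      exact absurd (hn.1.elim v 0) hv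
    · exact h
  have : NeZero n := ⟨hn0.ne'⟩
  -- the fixed points of a Sylow subgroup
  obtain ⟨S0⟩ : Nonempty (Sylow 2 X) := inferInstance
  obtain ⟨d, hd⟩ := exists_card_pow H.two (fixGrp V (S0 : Subgroup X))
  have hd0 : 0 < d := by
    rcases Nat.eq_zero_or_pos d with rfl | h
    · obtain ⟨v, -, hv0, hv⟩ := exists_fixed H.two S0.2 (U := ⊤) (fun _ _ v _ => trivial) (by
        rw [AddSubgroup.card_top, hn]; exact (Nat.one_lt_two_pow hn0.ne').ne')
      rw [pow_zero, AddSubgroup.card_eq_one] at hd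
      exact absurd ((AddSubgroup.mem_bot).mp (hd ▸ (hv : v ∈ fixGrp V (S0 : Subgroup X)))) hv0
    · exact h
  set k := Nat.card (Sylow 2 X) with hk
  have hkn : k * (2 ^ d - 1) = 2 ^ n - 1 := by
    have h := H.card_mul_eq hd (x := 1) ⟨0, one_pow _⟩
    have eS : {S : Sylow 2 X // (1 : X) ∈ S} ≃ Sylow 2 X :=
      Equiv.subtypeUnivEquiv fun S => one_mem (S : Subgroup X)
    rw [Nat.card_congr eS] at h
    rw [hk, h, show fixSub V (1 : X) = ⊤ from eq_top_iff.mpr fun v _ => one_smul X v,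
      AddSubgroup.card_top, hn]
  have hk_eq : k = (2 ^ n - 1) / (2 ^ d - 1) :=
    (Nat.div_eq_of_eq_mul_left (two_pow_sub_one_pos hd0) hkn.symm).symm
  have hdn : d ∣ n := dvd_of_two_pow_sub_one_dvd (Dvd.intro_left _ hkn)
  -- the fixed points of an involution
  obtain ⟨m, hm⟩ := exists_card_pow H.two (fixSub V u)
  have hnm : n = 2 * m := by
    have h := H.sq_card_fix huu hu1
    rw [hm, hn, ← pow_add] at h
    have := Nat.pow_right_injective le_rfl h
    omega
  have hdm : d ∣ m := dvd_of_two_pow_sub_one_dvd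
    (Dvd.intro_left _ (hm ▸ H.card_mul_eq hd (twoEl_of_mul_self huu)))
  have hm0 : 0 < m := by omega
  have hdle : d ≤ m := Nat.le_of_dvd hm0 hdm
  obtain ⟨s, e, hs, hsk, hsn, hsf, hs6, hs0⟩ := exists_good (h := n) (d := d) (by omega) hd0 hdn
    (by omega) (fun e6 => (by decide : Odd 3).of_dvd_nat (show d ∣ 3 by
      have : m = 3 := by omega
      exact this ▸ hdm))
  rw [← hk_eq] at hsk
  have hkπ : ∀ q : ℕ, q.Prime → q ∣ k → q ∈ π := by
    intro q hq hqk
    obtain ⟨v, hv⟩ := H.nontriv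
    exact H.stab v hv q hq (hqk.trans (H.index_normalizer_dvd hv))
  have hsπ : s ∈ π := hkπ s hs ((dvd_pow_self s (Nat.succ_ne_zero e)).trans hsk)
  have hs2 : s ≠ 2 := fun h => H.not_two (h ▸ hsπ)
  have hsF := Fact.mk hs
  have hso : Odd (s ^ (e + 1)) := (hs.odd_of_ne_two hs2).pow
  have hkX : k ∣ Nat.card X :=
    (dvd_of_eq (Sylow.card_eq_index_normalizer S0)).trans (Subgroup.index_dvd_card _)
  -- an element of order `s ^ (e + 1)` central in a Sylow subgroup
  obtain ⟨P, g, hgP, hg, hPg⟩ : ∃ (P : Sylow s X) (g : X), g ∈ (P : Subgroup X) ∧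
      orderOf g = s ^ (e + 1) ∧ (P : Subgroup X) ≤ Subgroup.centralizer ({g} : Set X) := by
    obtain ⟨P⟩ : Nonempty (Sylow s X) := inferInstance
    obtain ⟨j, hj⟩ := P.2.exists_card_eq
    have hP : s ^ (e + 1) ∣ Nat.card (P : Subgroup X) :=
      P.pow_dvd_card_of_pow_dvd_card (hsk.trans hkX)
    by_cases h6 : n = 6
    · obtain ⟨rfl, rfl⟩ := hs6 h6
      have hfix : ∀ v : X, v * v = 1 → v ≠ 1 → Nat.card (fixSub V v) = 8 := by
        intro v hv hv1
        have h := H.sq_card_fix hv hv1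
        rw [hn, h6, show (2 : ℕ) ^ 6 = 8 * 8 by norm_num] at h
        exact Nat.mul_self_inj.mp h
      obtain ⟨z, hz, hz1, -⟩ := H.exists_inverted huu hu1
      have : IsCyclic (P : Subgroup X) := sylow_three_isCyclic H.two (h6 ▸ hn) H.fpf
        (fun z hz hz1 hd3 => H.real z hz hz1 3 hs hd3 hsπ)
        (fun v hv => hsk.trans (H.index_normalizer_dvd hv)) hfix ⟨z, hz, hz1⟩ P
      obtain ⟨a, ha⟩ := IsCyclic.exists_generator (α := (P : Subgroup X))
      have hao : orderOf a = Nat.card (P : Subgroup X) := orderOf_eq_card_of_forall_mem_zpowers ha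
      refine ⟨P, ((a ^ (orderOf a / 3 ^ (1 + 1)) : (P : Subgroup X)) : X), SetLike.coe_mem _, ?_, ?_⟩
      · rw [Subgroup.orderOf_coe]
        exact orderOf_pow_orderOf_div (orderOf_pos a).ne' (hao ▸ hP)
      · intro q hq
        rw [Subgroup.mem_centralizer_singleton_iff]
        obtain ⟨i, hi⟩ := Subgroup.mem_zpowers_iff.mp (ha ⟨q, hq⟩)
        have := (((Commute.refl a).zpow_left i).pow_right (orderOf a / 3 ^ (1 + 1))).eq
        rw [hi] at this
        exact congrArg Subtype.val this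
    · have he : e = 0 := hs0 h6
      subst he
      rw [zero_add, pow_one] at hP
      have : Nontrivial (P : Subgroup X) :=
        Finite.one_lt_card_iff_nontrivial.mp
          (lt_of_lt_of_le hs.one_lt (Nat.le_of_dvd Nat.card_pos hP))
      have := P.2.center_nontrivial
      have hsc : s ∣ Nat.card (Subgroup.center (P : Subgroup X)) := by
        obtain ⟨i, hi⟩ := (P.2.to_subgroup (Subgroup.center _)).exists_card_eq
        rw [hi]
        refine dvd_pow_self s fun hi0 => ?_
        have := Finite.one_lt_card (α := Subgroup.center (P : Subgroup X))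
        rw [hi, hi0, pow_zero] at this
        omega
      obtain ⟨a, ha⟩ := exists_prime_orderOf_dvd_card' s hsc
      refine ⟨P, ((a : (P : Subgroup X)) : X), SetLike.coe_mem _, ?_, ?_⟩
      · rw [Subgroup.orderOf_coe, Subgroup.orderOf_coe, ha, zero_add, pow_one]
      · intro q hq
        rw [Subgroup.mem_centralizer_singleton_iff]
        exact congrArg Subtype.val (Subgroup.mem_center_iff.mp a.2 ⟨q, hq⟩)
  have hgo : Odd (orderOf g) := hg ▸ hso
  have hgr : ∀ f, orderOf g ∣ 2 ^ f - 1 → n ∣ f := fun f => hg ▸ hsf f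
  have hgn : g ^ 2 ^ n = g := by
    rw [pow_two_pow_eq_self_iff, hg]
    exact hsk.trans (Dvd.intro _ hkn)
  have I : Irred V g := irred_of_order H.two hn hn0 hs hs2 hg hsf
  set A := Subgroup.centralizer ({g} : Set X) with hA
  have hAc : IsCyclic A := I.isCyclic_centralizer
  have hmemA : ∀ {x : X}, x ∈ A ↔ Commute x g := fun {x} => Subgroup.mem_centralizer_singleton_iff
  have hgA : g ∈ A := hmemA.mpr (Commute.refl g)
  -- real elements are conjugate into `A`
  have hrealA : ∀ z : X, RealOdd z → z ≠ 1 → ∃ x : X, Commute (x * g * x⁻¹) z := by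
    intro z hz hz1
    obtain ⟨P', hP'⟩ := exists_sylow_le (Subgroup.centralizer ({z} : Set X))
      (fun h => H.real z hz hz1 s hs h hsπ)
    obtain ⟨x, hx⟩ := MulAction.exists_smul_eq X P P'
    refine ⟨x, ?_⟩
    rw [← hx, Sylow.coe_subgroup_smul] at hP'
    exact Subgroup.mem_centralizer_singleton_iff.mp (hP' ⟨g, hgP, rfl⟩)
  -- inverted elements of `A` are inverted by normalising 2-elements
  have hfrat : ∀ z ∈ A, RealOdd z → z ≠ 1 →
      ∃ τ : X, TwoEl τ ∧ τ * z * τ⁻¹ = z⁻¹ ∧ τ * g * τ⁻¹ ∈ Subgroup.zpowers g := by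
    intro z hzA hz hz1
    obtain ⟨-, y, hy⟩ := hz
    set C := Subgroup.centralizer ({z} : Set X) with hC
    have hP : (P : Subgroup X) ≤ C := fun q hq =>
      Subgroup.mem_centralizer_singleton_iff.mpr
        (I.commute (hmemA.mp (hPg hq)) (hmemA.mp hzA))
    have hle : ((y • P : Sylow s X) : Subgroup X) ≤ C := by
      rw [Sylow.coe_subgroup_smul]
      rintro _ ⟨q, hq, rfl⟩
      rw [Subgroup.mem_centralizer_singleton_iff]
      show (y * q * y⁻¹) * z = z * (y * q * y⁻¹)
      have h' : q * z⁻¹ = z⁻¹ * q :=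
        (Commute.inv_right (Subgroup.mem_centralizer_singleton_iff.mp (hP hq))).eq
      have hy' : y * z⁻¹ * y⁻¹ = z := by
        have := congrArg (·⁻¹) hy
        simpa [mul_assoc] using this
      calc (y * q * y⁻¹) * z = (y * q * y⁻¹) * (y * z⁻¹ * y⁻¹) := by rw [hy']
        _ = y * (q * z⁻¹) * y⁻¹ := by group
        _ = y * (z⁻¹ * q) * y⁻¹ := by rw [h']
        _ = (y * z⁻¹ * y⁻¹) * (y * q * y⁻¹) := by group
        _ = _ := by rw [hy']
    obtain ⟨c, hc⟩ := MulAction.exists_smul_eq C ((y • P).subtype hle) (P.subtype hP)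
    have hcP : ((c : X) * y) • P = P := by
      rw [mul_smul]
      apply Sylow.subtype_injective (hP := (Sylow.smul_le hle c)) (hQ := hP)
      rw [← hc, Sylow.smul_subtype]
    have hcz : (c : X) * y * z * ((c : X) * y)⁻¹ = z⁻¹ := by
      have h' : (c : X) * z⁻¹ = z⁻¹ * c :=
        (Commute.inv_right (Subgroup.mem_centralizer_singleton_iff.mp c.2)).eq
      calc (c : X) * y * z * ((c : X) * y)⁻¹ = c * (y * z * y⁻¹) * (c : X)⁻¹ := by group
        _ = _ := by rw [hy, h', mul_inv_cancel_right]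
    obtain ⟨o, ho2, hoy⟩ := exists_two_inverter hcz
    refine ⟨((c : X) * y) ^ o, ho2, hoy, mem_zpowers_of_isCyclic hgA (hPg ?_) ?_⟩
    · have hst : ((c : X) * y) ^ o • P = P :=
        MulAction.mem_stabilizer_iff.mp (pow_mem (MulAction.mem_stabilizer_iff.mpr hcP) o)
      rw [← hst, Sylow.coe_subgroup_smul]
      exact ⟨g, hgP, rfl⟩
    · exact (orderOf_map_dvd (MulAut.conj _).toMonoidHom g)
  -- the normaliser of `⟨g⟩`
  set N : Subgroup X := Subgroup.normalizer ((Subgroup.zpowers g : Subgroup X) : Set X) with hN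
  have hNmem : ∀ {x : X}, x * g * x⁻¹ ∈ Subgroup.zpowers g → x ∈ N := by
    intro x hx
    refine Subgroup.mem_normalizer_fintype fun a ha => ?_
    obtain ⟨i, rfl⟩ := Subgroup.mem_zpowers_iff.mp ha
    rw [← conj_zpow]
    exact Subgroup.zpow_mem _ hx i
  have hNconj : ∀ c ∈ N, ∀ z : X, Commute z g → Commute (c * z * c⁻¹) g := by
    intro c hc z hz
    have h1 : c⁻¹ * g * c ∈ Subgroup.zpowers g := by
      simpa using (Subgroup.mem_normalizer_iff.mp (inv_mem hc) g).mp (Subgroup.mem_zpowers g)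
    obtain ⟨i, hi⟩ := Subgroup.mem_zpowers_iff.mp h1
    have h2 := (hz.zpow_right i).map (MulAut.conj c).toMonoidHom
    rw [hi] at h2
    simpa [mul_assoc] using h2
  have hexp : ∀ x : N, ∃ i : ℕ, (x : X) * g * (x : X)⁻¹ = g ^ 2 ^ i := fun x =>
    I.exists_frobenius (Commute.refl g) (by
      obtain ⟨i, hi⟩ := Subgroup.mem_zpowers_iff.mp
        ((Subgroup.mem_normalizer_iff.mp x.2 g).mp (Subgroup.mem_zpowers g))
      rw [← hi]
      exact (Commute.refl g).zpow_left i) rfl
  choose ex hex using hexp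
  have hexeq : ∀ (x : N) (i : ℕ), (x : X) * g * (x : X)⁻¹ = g ^ 2 ^ i → (ex x : ZMod n) = i :=
    fun x i hi => natCast_eq_of_pow_eq hgo hgr ((hex x).symm.trans hi)
  let θ : N →* Multiplicative (ZMod n) :=
    { toFun := fun x => Multiplicative.ofAdd (ex x : ZMod n)
      map_one' := by
        rw [hexeq 1 0 (by simp), Nat.cast_zero]
        rfl
      map_mul' := fun x y => by
        rw [hexeq (x * y) (ex y + ex x) ?_, Nat.cast_add, ofAdd_add, mul_comm]
        rw [Subgroup.coe_mul]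
        calc (x : X) * y * g * ((x : X) * y)⁻¹ = x * (y * g * (y : X)⁻¹) * (x : X)⁻¹ := by group
          _ = _ := by rw [hex y, ← conj_pow, hex x, ← pow_mul, ← pow_add, add_comm] }
  have hθ : ∀ (x : N) (i : ℕ), θ x = Multiplicative.ofAdd (i : ZMod n) →
      (x : X) * g * (x : X)⁻¹ = g ^ 2 ^ i := fun x i hi => by
    rw [hex x]
    exact pow_two_pow_congr hgn (Multiplicative.ofAdd.injective hi)
  -- a real element of `A` and its inverter
  obtain ⟨y, hy, hy1, hyA⟩ : ∃ y : X, RealOdd y ∧ y ≠ 1 ∧ y ∈ A := by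
    obtain ⟨z, hz, hz1, -⟩ := H.exists_inverted huu hu1
    obtain ⟨x, hx⟩ := hrealA z hz hz1
    refine ⟨x⁻¹ * z * x, by simpa using hz.conj x⁻¹, fun e => hz1 ?_, hmemA.mpr ?_⟩
    · calc z = x * (x⁻¹ * z * x) * x⁻¹ := by group
        _ = 1 := by rw [e]; group
    · have := hx.symm.map (MulAut.conj x⁻¹).toMonoidHom
      simpa [mul_assoc] using this
  obtain ⟨τ, hτ2, hτy, hτg⟩ := hfrat y hyA hy hy1
  have hτN : τ ∈ N := hNmem hτg
  obtain ⟨T, hT⟩ : ∃ T : Sylow 2 N, (⟨τ, hτN⟩ : N) ∈ (T : Subgroup N) := by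
    obtain ⟨k, hk⟩ := hτ2
    obtain ⟨T, hT⟩ :=
      (TwoEl.isPGroup_zpowers (x := (⟨τ, hτN⟩ : N)) ⟨k, Subtype.ext (by simpa using hk)⟩).exists_le_sylow
    exact ⟨T, hT (Subgroup.mem_zpowers _)⟩
  set θT := θ.comp (T : Subgroup N).subtype with hθT
  have hinj : Function.Injective θT := by
    rw [← MonoidHom.ker_eq_bot_iff, Subgroup.eq_bot_iff_forall]
    intro x hx
    have h1 := hθ x.1 0 (by rw [Nat.cast_zero, ofAdd_zero]; exact MonoidHom.mem_ker.mp hx)
    rw [pow_zero, pow_one, mul_inv_eq_iff_eq_mul] at h1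
    refine Subtype.ext (Subtype.ext (eq_one_of_twoEl_odd ?_ (I.odd_orderOf h1)))
    exact (twoEl_of_mem T.2 x.2).map N.subtype
  have hTc : IsCyclic (T : Subgroup N) := isCyclic_of_injective θT hinj
  obtain ⟨σ₀, hσ₀⟩ := IsCyclic.exists_generator (α := (T : Subgroup N))
  obtain ⟨B, hB⟩ : ∃ B, orderOf σ₀ = 2 ^ B := by
    obtain ⟨i, hi⟩ := T.2.exists_card_eq
    exact ⟨i, by rw [orderOf_eq_card_of_forall_mem_zpowers hσ₀, hi]⟩
  have hBn : 2 ^ B ∣ n := by
    rw [← hB, ← orderOf_injective θT hinj σ₀]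
    refine (orderOf_dvd_natCard _).trans ?_
    rw [Nat.card_congr Multiplicative.toAdd, Nat.card_zmod]
  have hB0 : B ≠ 0 := by
    rintro rfl
    rw [pow_zero, orderOf_eq_one_iff] at hB
    obtain ⟨i, hi⟩ := Subgroup.mem_zpowers_iff.mp (hσ₀ ⟨_, hT⟩)
    rw [hB, one_zpow] at hi
    have e : τ = 1 := congrArg (fun a : (T : Subgroup N) => (a.1 : X)) hi.symm
    rw [e, one_mul, inv_one, mul_one] at hτy
    exact hy1 (sq_pow_eq_one_of_odd hy.1 (eq_inv_iff_mul_eq_one.mp hτy))
  obtain ⟨w, hw⟩ := hBn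
  have hw0 : 0 < w := Nat.pos_of_mul_pos_left (hw ▸ hn0)
  have hwn : n = w * 2 ^ B := by rw [hw, mul_comm]
  have hordw : orderOf (Multiplicative.ofAdd (w : ZMod n)) = 2 ^ B := by
    rw [orderOf_ofAdd_eq_addOrderOf, ZMod.addOrderOf_coe w hn0.ne',
      Nat.gcd_eq_right (Dvd.intro _ hwn.symm), hwn, Nat.mul_div_cancel_left _ hw0]
  obtain ⟨j, hj⟩ : ∃ j : ℕ, θT σ₀ ^ j = Multiplicative.ofAdd (w : ZMod n) := by
    have h := mem_zpowers_of_isCyclic (X := Multiplicative (ZMod n)) (A := ⊤)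
      (g := θT σ₀) (y := Multiplicative.ofAdd (w : ZMod n)) (Subgroup.mem_top _) (Subgroup.mem_top _)
      (by rw [hordw, orderOf_injective θT hinj σ₀, hB])
    exact (mem_powers_iff_mem_zpowers).mpr h
  set σT := σ₀ ^ j with hσT
  have hθσ : θT σT = Multiplicative.ofAdd (w : ZMod n) := by rw [hσT, map_pow, hj]
  have hσTo : orderOf σT = 2 ^ B := by rw [← orderOf_injective θT hinj σT, hθσ, hordw]
  have hTσ : ∀ x : (T : Subgroup N), x ∈ Subgroup.zpowers σT := by
    intro x
    have h : Subgroup.zpowers σT = ⊤ := Subgroup.eq_top_of_card_eq _ (by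
      rw [Nat.card_zpowers, hσTo, ← hB, orderOf_eq_card_of_forall_mem_zpowers hσ₀])
    exact h ▸ Subgroup.mem_top x
  set σ : X := ((σT : N) : X) with hσdef
  have hσg : σ * g * σ⁻¹ = g ^ 2 ^ w := hθ _ w hθσ
  have hσo : orderOf σ = 2 ^ B := by
    rw [hσdef, Subgroup.orderOf_coe, Subgroup.orderOf_coe, hσTo]
  -- `σ` acts on all of `A` as the Frobenius map
  have hσA : ∀ x ∈ A, σ * x * σ⁻¹ = x ^ 2 ^ w := by
    obtain ⟨⟨a, haA⟩, ha⟩ := IsCyclic.exists_generator (α := A)
    have hag : Commute a g := hmemA.mp haA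
    have hca : Commute (σ * a * σ⁻¹) g := hNconj σ (σT : N).2 a hag
    obtain ⟨i, hi⟩ := I.exists_frobenius hag hca rfl
    obtain ⟨l, hl⟩ := Subgroup.mem_zpowers_iff.mp (ha ⟨g, hgA⟩)
    have hl' : a ^ l = g := congrArg Subtype.val hl
    have hgi : g ^ 2 ^ i = g ^ 2 ^ w := by
      rw [← hσg, ← hl', ← conj_zpow, hi, ← zpow_natCast, ← zpow_natCast, ← zpow_mul, ← zpow_mul,
        mul_comm]
    have hiw := natCast_eq_of_pow_eq hgo hgr hgi
    have han : a ^ 2 ^ n = a := by
      rw [pow_two_pow_eq_self_iff, ← hn]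
      exact I.orderOf_dvd hag
    intro x hx
    obtain ⟨t, ht⟩ := Subgroup.mem_zpowers_iff.mp (ha ⟨x, hx⟩)
    have ht' : a ^ t = x := congrArg Subtype.val ht
    rw [← ht', ← conj_zpow, hi, pow_two_pow_congr han hiw, ← zpow_natCast, ← zpow_natCast,
      ← zpow_mul, ← zpow_mul, mul_comm]
  -- `g` is real, so `A` contains a Hall subgroup for `π`
  have hgreal : RealOdd g := by
    refine ⟨hgo, σ ^ 2 ^ (B - 1), ?_⟩
    rw [conj_pow_iterate hσg, eq_inv_iff_mul_eq_one, ← pow_succ, ← orderOf_dvd_iff_pow_eq_one, hg]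
    have hm2 : w * 2 ^ (B - 1) = m := by
      have h1 : 2 ^ B = 2 * 2 ^ (B - 1) := by
        conv_lhs => rw [show B = B - 1 + 1 by omega, pow_succ']
      have h2 : w * 2 ^ B = 2 * m := by omega
      rw [h1, ← mul_assoc, mul_comm w 2, mul_assoc] at h2
      omega
    rw [hm2]
    have h3 : s ^ (e + 1) ∣ (2 ^ m + 1) * (2 ^ m - 1) := by
      rw [← Nat.sq_sub_sq, one_pow, ← pow_mul, mul_comm m 2, ← hnm]
      exact hsk.trans (Dvd.intro _ hkn)
    refine ((Nat.Coprime.pow_left (e + 1) ((hs.coprime_iff_not_dvd).mpr ?_)).dvd_of_dvd_mul_right h3)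
    rwa [hnm, Nat.mul_div_cancel_left m two_pos] at hsn
  have hg1 : g ≠ 1 := fun h => by
    rw [h, orderOf_one] at hg
    exact (Nat.one_lt_pow (Nat.succ_ne_zero e) hs.one_lt).ne hg
  have hAπ : ∀ q : ℕ, q.Prime → q ∈ π → ¬ q ∣ A.index := fun q hq hqπ hqd =>
    H.real g hgreal hg1 q hq hqd hqπ
  have hkA : k ∣ Nat.card A := by
    refine Nat.Coprime.dvd_of_dvd_mul_right ?_ (A.card_mul_index.symm ▸ hkX)
    exact Nat.coprime_of_dvd fun q hq hqk hqi => hAπ q hq (hkπ q hq hqk) hqi
  obtain ⟨⟨a, haA⟩, ha⟩ := IsCyclic.exists_generator (α := A)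
  have hao : orderOf a = Nat.card A := by
    rw [← orderOf_eq_card_of_forall_mem_zpowers ha, Subgroup.orderOf_mk]
  set c := a ^ (orderOf a / k) with hc
  have hcA : c ∈ A := pow_mem haA _
  have hco : orderOf c = k := orderOf_pow_orderOf_div (orderOf_pos a).ne' (hao ▸ hkA)
  have hσfix : ∃ v : V, v ≠ 0 ∧ σ • v = v := by
    obtain ⟨v, -, hv0, hv⟩ := exists_fixed H.two
      (TwoEl.isPGroup_zpowers (x := σ) ⟨B, by rw [← hσo, pow_orderOf_eq_one]⟩)
      (U := ⊤) (fun _ _ v _ => trivial) (by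
      rw [AddSubgroup.card_top, hn]; exact (Nat.one_lt_two_pow hn0.ne').ne')
    exact ⟨v, hv0, hv σ (Subgroup.mem_zpowers σ)⟩
  have hdw : d ∣ w := by
    obtain ⟨v, hv0, hv⟩ := hσfix
    have h := H.card_mul_eq hd (x := σ) ⟨B, by rw [← hσo, pow_orderOf_eq_one]⟩
    rw [I.card_fix_semilinear hn (Dvd.intro _ hwn.symm) hσg hv0 hv] at h
    exact dvd_of_two_pow_sub_one_dvd (Dvd.intro_left _ h)
  -- the data at the top level
  have L : Level (V := V) σ c d w B := by
    refine
      { d_pos := hd0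
        w_pos := hw0
        d_dvd := hdw
        two := H.two
        card_V := hwn ▸ hn
        orderOf_sigma := hσo
        orderOf_c := hco.trans (hwn ▸ hk_eq)
        conj := hσA c hcA
        fpf := H.fpf
        notFix := ?_
        frob := ?_
        fpf_prime := ?_
        comp := ?_ }
    · intro z hz hzw
      by_contra hz1
      obtain ⟨x, hx⟩ := hrealA z hz hz1
      set z' := x⁻¹ * z * x with hz'
      have hz'g : Commute z' g := by
        have := hx.symm.map (MulAut.conj x⁻¹).toMonoidHom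
        simpa [hz', mul_assoc] using this
      have hz'r : RealOdd z' := by simpa [hz'] using hz.conj x⁻¹
      have hz'1 : z' ≠ 1 := fun e => hz1 (by
        calc z = x * (x⁻¹ * z * x) * x⁻¹ := by group
          _ = 1 := by rw [← hz', e]; group)
      have hz'w : z' ^ 2 ^ w = z' := by
        have h := congrArg (MulAut.conj x⁻¹) hzw
        rw [map_pow] at h
        simpa [hz', mul_assoc] using h
      obtain ⟨τ', hτ'2, hτ'z, hτ'g⟩ := hfrat z' (hmemA.mpr hz'g) hz'r hz'1
      obtain ⟨i, hi⟩ := hτ'2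
      obtain ⟨Q, hQ⟩ := (TwoEl.isPGroup_zpowers (x := (⟨τ', hNmem hτ'g⟩ : N))
        ⟨i, Subtype.ext (by simpa using hi)⟩).exists_le_sylow
      obtain ⟨c', hc'⟩ := MulAction.exists_smul_eq N Q T
      have hmem : c' * ⟨τ', hNmem hτ'g⟩ * c'⁻¹ ∈ (T : Subgroup N) := by
        rw [← hc', Sylow.coe_subgroup_smul]
        exact ⟨_, hQ (Subgroup.mem_zpowers _), rfl⟩
      obtain ⟨l, hl⟩ := (mem_powers_iff_mem_zpowers).mpr (hTσ ⟨_, hmem⟩)
      have hl' : σ ^ l = (c' : X) * τ' * (c' : X)⁻¹ :=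
        congrArg (fun a : (T : Subgroup N) => (a.1 : X)) hl
      set z'' := (c' : X) * z' * (c' : X)⁻¹ with hz''
      have hz''A : z'' ∈ A := hmemA.mpr (hNconj c' c'.2 z' hz'g)
      have h1 : σ ^ l * z'' * (σ ^ l)⁻¹ = z''⁻¹ := by
        rw [hl', hz'']
        calc (c' : X) * τ' * (c' : X)⁻¹ * (c' * z' * (c' : X)⁻¹) *
              ((c' : X) * τ' * (c' : X)⁻¹)⁻¹ = c' * (τ' * z' * τ'⁻¹) * (c' : X)⁻¹ := by group
          _ = _ := by rw [hτ'z]; group
      have h2 : z'' ^ 2 ^ w = z'' := by rw [hz'', conj_pow, hz'w]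
      rw [conj_pow_iterate (hσA z'' hz''A), pow_two_pow_of_dvd h2 (dvd_mul_right w l),
        eq_inv_iff_mul_eq_one] at h1
      have h3 := sq_pow_eq_one_of_odd (hz'r.conj (c' : X)).1 h1
      exact hz'1 (conj_eq_one_iff.mp (hz''.symm.trans h3))
    · intro z ω g' hz hω hωp hzω hgz hgω
      rcases eq_or_ne z 1 with rfl | hz1
      · exact ⟨0, by simp, by simp⟩
      have hzr : RealOdd z := ⟨hz, g', hgz⟩
      have hωA : ω ∈ A := Subgroup.zpowers_le.mpr hcA hω
      have hωπ : orderOf ω ∈ π := hkπ _ hωp (hco ▸ orderOf_dvd_of_mem_zpowers hω)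
      obtain ⟨x, hx⟩ := hrealA z hzr hz1
      set z0 := x⁻¹ * z * x with hz0
      set ω0 := x⁻¹ * ω * x with hω0
      have hz0g : Commute z0 g := by
        have := hx.symm.map (MulAut.conj x⁻¹).toMonoidHom
        simpa [hz0, mul_assoc] using this
      set C0 := Subgroup.centralizer ({z0} : Set X) with hC0
      have hω0C : ω0 ∈ C0 := Subgroup.mem_centralizer_singleton_iff.mpr (by
        have := hzω.symm.map (MulAut.conj x⁻¹).toMonoidHom
        exact (by simpa [hz0, hω0, mul_assoc] using this : Commute ω0 z0))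
      have hAC : A ≤ C0 := fun a ha =>
        Subgroup.mem_centralizer_singleton_iff.mpr (I.commute (hmemA.mp ha) hz0g)
      have hωF := Fact.mk hωp
      obtain ⟨⟨h, hh⟩, hhω⟩ := exists_conj_mem_of_not_dvd_index (A.subgroupOf C0) (p := orderOf ω)
        (fun hd => hAπ _ hωp hωπ (hd.trans (Subgroup.relIndex_dvd_index_of_le hAC)))
        (x := ⟨ω0, hω0C⟩) (isPGroup_zpowers_of_orderOf (k := 1) (by
          rw [pow_one, Subgroup.orderOf_mk, hω0]
          simpa using orderOf_map_dvd (MulAut.conj x⁻¹).toMonoidHom ω))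
      rw [Subgroup.mem_subgroupOf] at hhω
      set y0 := x * h⁻¹ with hy0
      set g2 := y0 * g * y0⁻¹ with hg2
      have I2 : Irred V g2 := irred_of_order H.two hn hn0 hs hs2
        (by rw [hg2, ← hg]; exact orderOf_injective (MulAut.conj y0).toMonoidHom (MulAut.conj y0).injective g)
        hsf
      have hω2 : Commute ω g2 := by
        have := (hmemA.mp hhω).map (MulAut.conj y0).toMonoidHom
        simpa [hg2, hy0, hω0, mul_assoc] using this
      have hz2 : Commute z g2 := by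
        have hhz : Commute h z0 := Subgroup.mem_centralizer_singleton_iff.mp hh
        have h1 : h * z0 * h⁻¹ = z0 := by rw [hhz.eq, mul_inv_cancel_right]
        have := hz0g.map (MulAut.conj y0).toMonoidHom
        rw [← h1] at this
        simpa [hg2, hy0, hz0, mul_assoc] using this
      set D := Subgroup.closure ({z, ω} : Set X) with hD
      have hDle : D ≤ Subgroup.centralizer ({g2} : Set X) :=
        (Subgroup.closure_le _).mpr (by
          rintro a (rfl | rfl)
          · exact Subgroup.mem_centralizer_singleton_iff.mpr hz2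
          · exact Subgroup.mem_centralizer_singleton_iff.mpr hω2)
      have := I2.isCyclic_centralizer
      have hDc : IsCyclic D := Subgroup.isCyclic_of_le hDle
      obtain ⟨⟨b, hb⟩, hbgen⟩ := IsCyclic.exists_generator (α := D)
      have hbg : Commute b g2 := Subgroup.mem_centralizer_singleton_iff.mp (hDle hb)
      have hDconj : D ≤ D.comap (MulAut.conj g').toMonoidHom := by
        refine (Subgroup.closure_le _).mpr ?_
        rintro a (rfl | rfl)
        · show g' * a * g'⁻¹ ∈ D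
          rw [hgz]
          exact inv_mem (Subgroup.subset_closure (by simp))
        · show g' * a * g'⁻¹ ∈ D
          rw [hgω.eq, mul_inv_cancel_right]
          exact Subgroup.subset_closure (by simp)
      have hb2 : g' * b * g'⁻¹ ∈ D := hDconj hb
      obtain ⟨i, hi⟩ := I2.exists_frobenius hbg
        (Subgroup.mem_centralizer_singleton_iff.mp (hDle hb2)) rfl
      have hall : ∀ a ∈ D, a ^ 2 ^ i = g' * a * g'⁻¹ := by
        intro a ha
        obtain ⟨l, hl⟩ := Subgroup.mem_zpowers_iff.mp (hbgen ⟨a, ha⟩)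
        have hl' : b ^ l = a := congrArg Subtype.val hl
        rw [← hl', ← conj_zpow, hi, ← zpow_natCast, ← zpow_natCast, ← zpow_mul, ← zpow_mul, mul_comm]
      refine ⟨i, ?_, ?_⟩
      · rw [hall z (Subgroup.subset_closure (by simp)), hgz]
      · rw [hall ω (Subgroup.subset_closure (by simp)), hgω.eq, mul_inv_cancel_right]
    · intro x hxp hxd v hv
      by_contra hv0
      have hxF := Fact.mk hxp
      obtain ⟨h, hh⟩ := exists_conj_mem_of_not_dvd_index A
        (hAπ _ hxp (hkπ _ hxp (hco ▸ hxd))) (x := x)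
        (isPGroup_zpowers_of_orderOf (k := 1) (by rw [pow_one]))
      have h1 := I.eq_one_of_fix (hmemA.mp hh) (v := h • v) ((smul_ne_zero_iff_ne _).mpr hv0)
        (by rw [mul_smul, mul_smul, inv_smul_smul, hv])
      rw [conj_eq_one_iff] at h1
      rw [h1, orderOf_one] at hxp
      exact Nat.not_prime_one hxp
    · intro v hv
      obtain ⟨S, hS⟩ := H.exists_sylow hv
      exact ⟨fixGrp V (S : Subgroup X), le_stabilizer_iff.mp hS, (card_fixGrp_eq S S0).trans hd,
        fun x hx hxv u hu => hu x (H.mem_sylow hv hS hx hxv)⟩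
  -- a Sylow 2-subgroup is cyclic
  obtain ⟨S, hS⟩ :=
    (TwoEl.isPGroup_zpowers (x := σ) ⟨B, by rw [← hσo, pow_orderOf_eq_one]⟩).exists_le_sylow
  have hSσ := Level.le_zpowers B L S S.2 (hS (Subgroup.mem_zpowers σ))
  have hSc : IsCyclic (S : Subgroup X) := Subgroup.isCyclic_of_le hSσ
  have hmin : (Nat.card X).minFac = 2 := (Nat.minFac_eq_two_iff _).mpr h2X
  set K := (MonoidHom.transferSylow S (hSc.normalizer_le_centralizer hmin)).ker with hK
  have hKodd : Odd (Nat.card K) := by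
    rw [← (hSc.isComplement' hmin).index_eq_card, ← Nat.not_even_iff_odd, even_iff_two_dvd]
    exact S.not_dvd_index
  have : Group.IsSolvable K := Cfsg.Agent.S0205.result hKodd
  have : Group.IsSolvable (S : Subgroup X) :=
    Group.isSolvable_of_comm (IsCyclic.commGroup (α := (S : Subgroup X))).mul_comm
  exact Group.isSolvable_of_ker_le_range K.subtype
    (MonoidHom.transferSylow S (hSc.normalizer_le_centralizer hmin))
    (le_of_eq (Subgroup.range_subtype K).symm)

end Cfsg.Agent.Lib.RealGraph
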