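import Mathlib
import Cfsg.Agent.Lib.RealGraph.Top

/-!
# From a disconnected graph on real class sizes to the module case
-/

set_option autoImplicit false

namespace Cfsg.Agent.Lib.RealGraph

universe u

/-! ## Class sizes -/

section Classes

variable {G : Type*} [Group G]

/-- Pairwise commuting elements generate a commutative subgroup. -/
theorem commute_of_mem_closure {K : Set G} (hK : ∀ a ∈ K, ∀ b ∈ K, a * b = b * a) {a b : G}
    (ha : a ∈ Subgroup.closure K) (hb : b ∈ Subgroup.closure K) : Commute a b := by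
  have h1 : Subgroup.closure K ≤ Subgroup.centralizer K :=
    (Subgroup.closure_le _).mpr fun x hx => Subgroup.mem_centralizer_iff.mpr fun k hk => hK k hk x hx
  have h2 : Subgroup.closure K ≤ Subgroup.centralizer (Subgroup.closure K : Set G) :=
    (Subgroup.closure_le _).mpr fun x hx => Subgroup.mem_centralizer_iff.mpr fun k hk =>
      (Subgroup.mem_centralizer_iff.mp (h1 hk) x hx).symm
  exact (Subgroup.mem_centralizer_iff.mp (h2 hb)) a ha

/-- A finite set with a fixed-point-free involution has even cardinality. -/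
theorem even_card_of_fpf {α : Type*} [Finite α] (f : α → α) (hf : ∀ a, f (f a) = a)
    (hne : ∀ a, f a ≠ a) : Even (Nat.card α) := by
  have := Fintype.ofFinite α
  rw [← ZMod.natCast_eq_zero_iff_even, Nat.card_eq_fintype_card]
  have h : ∑ _a : α, (1 : ZMod 2) = 0 :=
    Finset.sum_involution (fun a _ => f a) (fun a _ => by decide) (fun a _ _ => hne a)
      (fun a _ => Finset.mem_univ _) (fun a _ => hf a)
  simpa using h

/-- The conjugacy class, as a set. -/
def conjSet (x : G) : Set G := Set.range fun g => g * x * g⁻¹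

theorem self_mem_conjSet (x : G) : x ∈ conjSet x := ⟨1, by simp⟩

theorem conj_mem_conjSet {x y : G} (h : y ∈ conjSet x) (g : G) : g * y * g⁻¹ ∈ conjSet x := by
  obtain ⟨a, rfl⟩ := h
  exact ⟨g * a, by group⟩

theorem card_conjSet (x : G) :
    Nat.card (conjSet x) = (Subgroup.centralizer ({x} : Set G)).index := by
  rw [Subgroup.index_eq_card]
  symm
  have key : ∀ a b : G, a * x * a⁻¹ = b * x * b⁻¹ ↔
      a⁻¹ * b ∈ Subgroup.centralizer ({x} : Set G) := fun a b => by
    rw [Subgroup.mem_centralizer_singleton_iff]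
    constructor
    · intro h
      calc a⁻¹ * b * x = a⁻¹ * (b * x * b⁻¹) * b := by group
        _ = _ := by rw [← h]; group
    · intro h
      calc a * x * a⁻¹ = a * (x * (a⁻¹ * b)) * b⁻¹ := by group
        _ = _ := by rw [← h]; group
  refine Nat.card_eq_of_bijective
    (Quotient.lift (fun g => (⟨g * x * g⁻¹, g, rfl⟩ : conjSet x))
      (fun a b h => Subtype.ext ((key a b).mpr (QuotientGroup.leftRel_apply.mp h)))) ⟨?_, ?_⟩
  · rintro ⟨a⟩ ⟨b⟩ hab
    exact Quotient.sound (QuotientGroup.leftRel_apply.mpr ((key a b).mp (congrArg Subtype.val hab)))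
  · rintro ⟨_, g, rfl⟩
    exact ⟨(g : G ⧸ Subgroup.centralizer ({x} : Set G)), rfl⟩

variable [Finite G]

/-- A real element with class of odd size squares to one. -/
theorem mul_self_eq_one_of_odd_index {x g : G} (hg : g * x * g⁻¹ = x⁻¹)
    (ho : ¬ 2 ∣ (Subgroup.centralizer ({x} : Set G)).index) : x * x = 1 := by
  by_contra hne
  apply ho
  rw [← card_conjSet, ← even_iff_two_dvd]
  refine even_card_of_fpf (fun y => (⟨(y : G)⁻¹, ?_⟩ : conjSet x))
    (fun y => Subtype.ext (inv_inv _)) fun y hy => ?_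
  · obtain ⟨a, ha⟩ := y.2
    refine ⟨a * g, ?_⟩
    show a * g * x * (a * g)⁻¹ = (y : G)⁻¹
    rw [← ha]
    calc a * g * x * (a * g)⁻¹ = a * (g * x * g⁻¹) * a⁻¹ := by group
      _ = _ := by rw [hg]; group
  · obtain ⟨a, ha⟩ := y.2
    have h : (y : G)⁻¹ = y := congrArg Subtype.val hy
    rw [← ha, inv_eq_iff_mul_eq_one] at h
    apply hne
    calc x * x = a⁻¹ * (a * x * a⁻¹ * (a * x * a⁻¹)) * a := by group
      _ = _ := by rw [h]; group

/-- The class of a nontrivial real element of odd order has even size. -/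
theorem RealOdd.two_dvd_index {z : G} (hz : RealOdd z) (hz1 : z ≠ 1) :
    2 ∣ (Subgroup.centralizer ({z} : Set G)).index := by
  by_contra h
  obtain ⟨g, hg⟩ := hz.2
  exact hz1 (sq_pow_eq_one_of_odd hz.1 (mul_self_eq_one_of_odd_index hg h))

/-- Subgroups of coprime index: cosets always meet. -/
theorem exists_common_rep {C C' : Subgroup G} (h : C.index.Coprime C'.index) (a b : G) :
    ∃ x : G, x⁻¹ * a ∈ C ∧ x⁻¹ * b ∈ C' := by
  let F : G ⧸ (C ⊓ C') → (G ⧸ C) × (G ⧸ C') := Quotient.lift (fun g => ((g : G ⧸ C), (g : G ⧸ C')))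
    (fun x y hxy => by
      have hm := Subgroup.mem_inf.mp (QuotientGroup.leftRel_apply.mp hxy)
      exact Prod.ext (QuotientGroup.eq.mpr hm.1) (QuotientGroup.eq.mpr hm.2))
  have hinj : Function.Injective F := by
    rintro ⟨x⟩ ⟨y⟩ hxy
    exact Quotient.sound (QuotientGroup.leftRel_apply.mpr
      ⟨QuotientGroup.eq.mp (congrArg Prod.fst hxy), QuotientGroup.eq.mp (congrArg Prod.snd hxy)⟩)
  have hbij := hinj.bijective_of_nat_card_le (by
    rw [Nat.card_prod, ← Subgroup.index_eq_card, ← Subgroup.index_eq_card, ← Subgroup.index_eq_card]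
    exact Nat.le_of_dvd (Nat.pos_of_ne_zero Subgroup.index_ne_zero_of_finite)
      (h.mul_dvd_of_dvd_of_dvd (Subgroup.index_dvd_of_le inf_le_left)
        (Subgroup.index_dvd_of_le inf_le_right)))
  obtain ⟨⟨x⟩, hx⟩ := hbij.2 ((a : G ⧸ C), (b : G ⧸ C'))
  exact ⟨x, QuotientGroup.eq.mp (congrArg Prod.fst hx), QuotientGroup.eq.mp (congrArg Prod.snd hx)⟩

/-- The adjusted inverting element. -/
theorem exists_inverter_commute {y v : G} (hy : RealOdd y)
    (h : (Subgroup.centralizer ({y} : Set G)).index.Coprime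
      (Subgroup.centralizer ({v} : Set G)).index) :
    ∃ b : G, b * y * b⁻¹ = y⁻¹ ∧ Commute b v := by
  obtain ⟨g, hg⟩ := hy.2
  obtain ⟨b, hb1, hb2⟩ := exists_common_rep h g 1
  rw [mul_one, Subgroup.inv_mem_iff, Subgroup.mem_centralizer_singleton_iff] at hb2
  refine ⟨b, ?_, hb2⟩
  have hc := Subgroup.mem_centralizer_singleton_iff.mp hb1
  calc b * y * b⁻¹ = b * (y * (b⁻¹ * g)) * g⁻¹ := by group
    _ = b * (b⁻¹ * g * y) * g⁻¹ := by rw [hc]
    _ = g * y * g⁻¹ := by group
    _ = _ := hg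

end Classes

/-! ## The graph hypothesis and its consequences -/

/-- The set `π` of primes is a union of components not containing `2`. -/
structure PureHyp (G : Type*) [Group G] (π : Set ℕ) : Prop where
  not_two : 2 ∉ π
  pure : ∀ x g : G, g * x * g⁻¹ = x⁻¹ → ∀ q : ℕ, q.Prime → q ∈ π →
    q ∣ (Subgroup.centralizer ({x} : Set G)).index →
    ∀ r : ℕ, r.Prime → r ∣ (Subgroup.centralizer ({x} : Set G)).index → r ∈ π
  exists_mem : ∃ x g : G, g * x * g⁻¹ = x⁻¹ ∧ ∃ q : ℕ, q.Prime ∧ q ∈ π ∧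
    q ∣ (Subgroup.centralizer ({x} : Set G)).index

/-- Some prime of `π` divides the class size. -/
def HasPi (π : Set ℕ) {G : Type*} [Group G] (x : G) : Prop :=
  ∃ q : ℕ, q.Prime ∧ q ∈ π ∧ q ∣ (Subgroup.centralizer ({x} : Set G)).index

theorem inv_of_mul_self {G : Type*} [Group G] {x : G} (h : x * x = 1) : 1 * x * 1⁻¹ = x⁻¹ := by
  rw [one_mul, inv_one, mul_one]; exact eq_inv_of_mul_eq_one_left h

section Pure

variable {G : Type u} [Group G] [Finite G] {π : Set ℕ}

theorem PureHyp.real (H : PureHyp G π) {z : G} (hz : RealOdd z) (hz1 : z ≠ 1) : ¬ HasPi π z := by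
  rintro ⟨q, hq, hqπ, hqd⟩
  obtain ⟨g, hg⟩ := hz.2
  exact H.not_two (H.pure z g hg q hq hqπ hqd 2 Nat.prime_two (hz.two_dvd_index hz1))

theorem PureHyp.coprime (H : PureHyp G π) {z v : G} (hz : RealOdd z) (hz1 : z ≠ 1)
    (hv : v * v = 1) (hvπ : HasPi π v) :
    (Subgroup.centralizer ({z} : Set G)).index.Coprime
      (Subgroup.centralizer ({v} : Set G)).index := by
  obtain ⟨q, hq, hqπ, hqd⟩ := hvπ
  exact Nat.coprime_of_dvd fun r hr hrz hrv =>
    H.real hz hz1 ⟨r, hr, H.pure v 1 (inv_of_mul_self hv) q hq hqπ hqd r hr hrv, hrz⟩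

/-- An involution with a class size in `π` commutes with no real element of odd order. -/
theorem PureHyp.noCommute (H : PureHyp G π) {v y : G} (hv : v * v = 1) (hvπ : HasPi π v)
    (hy : RealOdd y) (hc : Commute v y) : y = 1 := by
  by_contra hy1
  obtain ⟨b, hby, hbv⟩ := exists_inverter_commute hy (H.coprime hy hy1 hv hvπ)
  obtain ⟨q, hq, hqπ, hqd⟩ := hvπ
  have hb : b * (y * v) * b⁻¹ = (y * v)⁻¹ := by
    calc b * (y * v) * b⁻¹ = (b * y * b⁻¹) * (b * v * b⁻¹) := by group
      _ = y⁻¹ * v⁻¹ := by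
        rw [hby, hbv.eq, mul_inv_cancel_right, ← eq_inv_of_mul_eq_one_left hv]
      _ = _ := by rw [mul_inv_rev, hc.inv_inv.eq]
  have hle : ∀ a : G, Commute a (y * v) → Commute a y ∧ Commute a v := by
    intro a ha
    obtain ⟨j, hj⟩ := hy.1
    have h2 : Commute a (y ^ 2) := by
      have := ha.pow_right 2
      rwa [hc.symm.mul_pow, pow_two v, hv, mul_one] at this
    have h3 : Commute a y := by
      have := h2.pow_right (j + 1)
      rwa [← pow_mul, show 2 * (j + 1) = (2 * j + 1) + 1 by ring, pow_succ, ← hj,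
        pow_orderOf_eq_one, one_mul] at this
    refine ⟨h3, ?_⟩
    have := h3.inv_right.mul_right ha
    rwa [inv_mul_cancel_left] at this
  have hd : ∀ x : G, (x = y ∨ x = v) → (Subgroup.centralizer ({x} : Set G)).index ∣
      (Subgroup.centralizer ({y * v} : Set G)).index := by
    intro x hx
    refine Subgroup.index_dvd_of_le fun a ha => Subgroup.mem_centralizer_singleton_iff.mpr ?_
    have h := hle a (Subgroup.mem_centralizer_singleton_iff.mp ha)
    rcases hx with rfl | rfl
    · exact h.1.eq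
    · exact h.2.eq
  exact H.not_two (H.pure (y * v) b hb q hq hqπ (hqd.trans (hd v (Or.inr rfl))) 2 Nat.prime_two
    ((hy.two_dvd_index hy1).trans (hd y (Or.inl rfl))))

/-- The involution with class size in `π`. -/
theorem PureHyp.exists_involution (H : PureHyp G π) : ∃ t : G, t * t = 1 ∧ HasPi π t := by
  obtain ⟨x, g, hg, q, hq, hqπ, hqd⟩ := H.exists_mem
  refine ⟨x, mul_self_eq_one_of_odd_index hg fun h2 => ?_, q, hq, hqπ, hqd⟩
  exact H.not_two (H.pure x g hg q hq hqπ hqd 2 Nat.prime_two h2)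

/-- A largest normal subgroup of odd order. -/
theorem exists_max_odd_normal (G : Type u) [Group G] [Finite G] :
    ∃ O : Subgroup G, O.Normal ∧ Odd (Nat.card O) ∧
      ∀ A : Subgroup G, A.Normal → Odd (Nat.card A) → A ≤ O := by
  have : Nonempty {N : Subgroup G // N.Normal ∧ Odd (Nat.card N)} :=
    ⟨⟨⊥, inferInstance, by rw [Subgroup.card_bot]; exact odd_one⟩⟩
  obtain ⟨⟨O, hOn, hOo⟩, hmax⟩ :=
    Finite.exists_max (fun N : {N : Subgroup G // N.Normal ∧ Odd (Nat.card N)} => Nat.card N.1)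
  refine ⟨O, hOn, hOo, fun A hAn hAo => ?_⟩
  have hodd : Odd (Nat.card (A ⊔ O : Subgroup G)) := by
    rw [← Nat.not_even_iff_odd, even_iff_two_dvd]
    intro h2
    have := Fact.mk Nat.prime_two
    obtain ⟨⟨x, hx⟩, hx2⟩ := exists_prime_orderOf_dvd_card' 2 h2
    rw [Subgroup.orderOf_mk] at hx2
    obtain ⟨a, ha, o, ho, rfl⟩ := Subgroup.mem_sup_of_normal_right.mp hx
    have h1 : (a : G ⧸ O) = 1 := by
      have he : ((a * o : G) : G ⧸ O) = a := by
        rw [QuotientGroup.mk_mul, (QuotientGroup.eq_one_iff o).mpr ho, mul_one]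
      refine sq_pow_eq_one_of_odd ((hAo.of_dvd_nat (A.orderOf_dvd_natCard ha)).of_dvd_nat
        (orderOf_map_dvd (QuotientGroup.mk' O) a)) ?_
      rw [← he, ← QuotientGroup.mk_mul, ← pow_two, ← hx2, pow_orderOf_eq_one, QuotientGroup.mk_one]
    have hm := mul_mem ((QuotientGroup.eq_one_iff a).mp h1) ho
    have h4 := hOo.of_dvd_nat (O.orderOf_dvd_natCard hm)
    rw [hx2] at h4
    exact absurd h4 (by decide)
  have h := hmax ⟨A ⊔ O, inferInstance, hodd⟩
  have heq : O = A ⊔ O := Subgroup.eq_of_le_of_card_ge le_sup_right h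
  exact heq ▸ le_sup_left

/-- The odd parts of products of two conjugates of `t` lie in every maximal normal subgroup of
odd order. -/
theorem PureHyp.odd_part_mem (H : PureHyp G π) {t : G} (ht : t * t = 1) (htπ : HasPi π t)
    {O : Subgroup G} (hmax : ∀ A : Subgroup G, A.Normal → Odd (Nat.card A) → A ≤ O)
    (g : G) (j : ℕ) (hj : Odd (orderOf ((t * (g * t * g⁻¹)) ^ j))) :
    (t * (g * t * g⁻¹)) ^ j ∈ O := by
  set t' := g * t * g⁻¹ with ht'def
  set y := (t * t') ^ j with hydef
  have ht' : t' * t' = 1 := by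
    calc g * t * g⁻¹ * (g * t * g⁻¹) = g * (t * t) * g⁻¹ := by group
      _ = 1 := by rw [ht]; group
  have hinv : t * y * t⁻¹ = y⁻¹ := by
    rw [hydef, ← zpow_natCast]
    exact Involution.conj_zpow_pair ht ht' _
  rcases eq_or_ne y 1 with hy1 | hy1
  · rw [hy1]; exact one_mem _
  have hy : RealOdd y := ⟨hj, t, hinv⟩
  -- every conjugate of `y` is inverted by `t`
  have hall : ∀ h : G, t * (h * y * h⁻¹) * t⁻¹ = (h * y * h⁻¹)⁻¹ := by
    intro h
    obtain ⟨k, hk1, hk2⟩ := exists_common_rep (H.coprime hy hy1 ht htπ) h 1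
    rw [mul_one, Subgroup.inv_mem_iff, Subgroup.mem_centralizer_singleton_iff] at hk2
    have hkc := Subgroup.mem_centralizer_singleton_iff.mp hk1
    have e : h * y * h⁻¹ = k * y * k⁻¹ := by
      calc h * y * h⁻¹ = k * (k⁻¹ * h * y) * h⁻¹ := by group
        _ = k * (y * (k⁻¹ * h)) * h⁻¹ := by rw [hkc]
        _ = _ := by group
    rw [e]
    calc t * (k * y * k⁻¹) * t⁻¹ = (t * k) * y * (t * k)⁻¹ := by group
      _ = k * (t * y * t⁻¹) * k⁻¹ := by rw [← hk2]; group
      _ = _ := by rw [hinv]; group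
  have hall' : ∀ h : G, t' * (h * y * h⁻¹) * t'⁻¹ = (h * y * h⁻¹)⁻¹ := by
    intro h
    have := congrArg (MulAut.conj g) (hall (g⁻¹ * h))
    simpa [ht'def, mul_assoc] using this
  have hcom : ∀ h : G, Commute (t * t') (h * y * h⁻¹) := by
    intro h
    refine mul_inv_eq_iff_eq_mul.mp ?_
    calc t * t' * (h * y * h⁻¹) * (t * t')⁻¹ = t * (t' * (h * y * h⁻¹) * t'⁻¹) * t⁻¹ := by group
      _ = t * (h * y * h⁻¹)⁻¹ * t⁻¹ := by rw [hall']
      _ = (t * (h * y * h⁻¹) * t⁻¹)⁻¹ := by group
      _ = _ := by rw [hall, inv_inv]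
  have hK : ∀ a ∈ conjSet y, ∀ b ∈ conjSet y, a * b = b * a := by
    rintro _ ⟨a, rfl⟩ _ ⟨b, rfl⟩
    have h1 : Commute y (a⁻¹ * b * y * (a⁻¹ * b)⁻¹) := (hcom (a⁻¹ * b)).pow_left j
    have h2 := (h1.map (MulAut.conj a).toMonoidHom).eq
    simpa [mul_assoc] using h2
  set Y := Subgroup.closure (conjSet y) with hY
  have hYn : Y.Normal := ⟨fun a ha c => by
    have : Y ≤ Y.comap (MulAut.conj c).toMonoidHom :=
      (Subgroup.closure_le _).mpr fun b hb => Subgroup.subset_closure (conj_mem_conjSet hb c)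
    exact this ha⟩
  letI : CommGroup Y := { (inferInstance : Group Y) with
    mul_comm := fun a b => Subtype.ext
      (commute_of_mem_closure hK a.2 b.2) }
  have hYo : ∀ a : Y, Odd (orderOf a) := by
    rintro ⟨a, ha⟩
    rw [Subgroup.orderOf_mk]
    induction ha using Subgroup.closure_induction with
    | mem b hb =>
      obtain ⟨c, rfl⟩ := hb
      exact hj.of_dvd_nat (orderOf_map_dvd (MulAut.conj c).toMonoidHom y)
    | one => rw [orderOf_one]; exact odd_one
    | mul a b ha hb iha ihb =>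
      have hab : Commute a b := commute_of_mem_closure hK ha hb
      exact (iha.mul ihb).of_dvd_nat (hab.orderOf_mul_dvd_lcm.trans (Nat.lcm_dvd_mul _ _))
    | inv a ha iha => rwa [orderOf_inv]
  refine hmax Y hYn ?_ (Subgroup.subset_closure (self_mem_conjSet y))
  rw [← Nat.not_even_iff_odd, even_iff_two_dvd]
  intro h2
  have := Fact.mk Nat.prime_two
  obtain ⟨a, ha⟩ := exists_prime_orderOf_dvd_card' 2 h2
  have h3 := hYo a
  rw [ha] at h3
  exact absurd h3 (by decide)

/-- A group without nontrivial real elements of odd order is solvable. -/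
theorem isSolvable_of_no_realOdd (G : Type u) [Group G] [Finite G]
    (h : ∀ z : G, RealOdd z → z = 1) : Group.IsSolvable G := by
  have := Fact.mk Nat.prime_two
  obtain ⟨P⟩ : Nonempty (Sylow 2 G) := inferInstance
  have hn : (P : Subgroup G).Normal :=
    Elem69.sylow_two_normal_of_no_real_odd (fun x g ho hg => h x ⟨ho, g, hg⟩) P
  have h1 : Group.IsSolvable (G ⧸ (P : Subgroup G)) := Cfsg.Agent.S0205.result (by
    rw [← Subgroup.index_eq_card, ← Nat.not_even_iff_odd, even_iff_two_dvd]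
    exact P.not_dvd_index)
  have := P.2.isNilpotent
  have h2 : Group.IsSolvable (P : Subgroup G) := inferInstance
  exact Group.isSolvable_of_ker_le_range (P : Subgroup G).subtype
    (QuotientGroup.mk' (P : Subgroup G)) (by rw [QuotientGroup.ker_mk', Subgroup.range_subtype])

end Pure

end Cfsg.Agent.Lib.RealGraph
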