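import Mathlib
import Cfsg.Agent.Lib.RealGraph.Bridge

/-!
# The solvability theorem for a disconnected real class size graph
-/

set_option autoImplicit false

namespace Cfsg.Agent.Lib.RealGraph

universe u

theorem conjSet_eq_of_mem {G : Type*} [Group G] {x y : G} (h : x ∈ conjSet y) :
    conjSet x = conjSet y := by
  obtain ⟨a, rfl⟩ := h
  ext z
  constructor
  · rintro ⟨b, rfl⟩
    exact ⟨b * a, by group⟩
  · rintro ⟨b, rfl⟩
    exact ⟨b * a⁻¹, by group⟩

theorem not_dvd_of_all {n q : ℕ} {π : Set ℕ} (hq : q.Prime)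
    (h : ∀ r : ℕ, r.Prime → r ∣ n → r ∈ π) (hqπ : q ∉ π) : ¬ q ∣ n :=
  fun hd => hqπ (h q hq hd)

section Translation

variable {G : Type u} [Group G] [Finite G] {π : Set ℕ}

/-- In the elementary abelian subgroup generated by the class of `t`, every noncentral element has
class size divisible only by primes of `π`, given that mixed class sizes do not occur there. -/
theorem hasPi_of_mem_closure (h2 : 2 ∉ π) {t : G}
    (hsq : ∀ a ∈ Subgroup.closure (conjSet t), a * a = 1)
    (hcom : ∀ a ∈ Subgroup.closure (conjSet t), ∀ b ∈ Subgroup.closure (conjSet t), Commute a b)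
    (hpure : ∀ a ∈ Subgroup.closure (conjSet t), HasPi π a → ∀ r : ℕ, r.Prime →
      r ∣ (Subgroup.centralizer ({a} : Set G)).index → r ∈ π)
    (htπ : HasPi π t) {v : G} (hv : v ∈ Subgroup.closure (conjSet t))
    (hvc : v ∉ Subgroup.center G) : HasPi π v := by
  by_contra hvπ
  set V := Subgroup.closure (conjSet t) with hV
  have hVn : ∀ g a : G, a ∈ V → g * a * g⁻¹ ∈ V := fun g a ha => by
    have : V ≤ V.comap (MulAut.conj g).toMonoidHom :=
      (Subgroup.closure_le _).mpr fun b hb => Subgroup.subset_closure (conj_mem_conjSet hb g)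
    exact this ha
  have htV : t ∈ V := Subgroup.subset_closure (self_mem_conjSet t)
  have hti : t⁻¹ = t := inv_eq_of_mul_eq_one_right (hsq t htV)
  set T := conjSet t with hT
  set K := conjSet v with hK
  have hTV : ∀ a ∈ T, a ∈ V := fun a ha => Subgroup.subset_closure ha
  have hKV : ∀ a ∈ K, a ∈ V := by
    rintro _ ⟨g, rfl⟩
    exact hVn g v hv
  have hallT := hpure t htV htπ
  have hco : (Subgroup.centralizer ({t} : Set G)).index.Coprime
      (Subgroup.centralizer ({v} : Set G)).index :=
    Nat.coprime_of_dvd fun r hr h1 h2 => hvπ ⟨r, hr, hallT r hr h1, h2⟩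
  set w := t * v with hw
  set W := conjSet w with hW
  have hprod : ∀ a ∈ T, ∀ b ∈ K, a * b ∈ W := by
    rintro _ ⟨a, rfl⟩ _ ⟨b, rfl⟩
    obtain ⟨x, hx1, hx2⟩ := exists_common_rep hco a b
    refine ⟨x, ?_⟩
    have e1 : a * t * a⁻¹ = x * t * x⁻¹ := by
      have h := Subgroup.mem_centralizer_singleton_iff.mp hx1
      calc a * t * a⁻¹ = x * (x⁻¹ * a * t) * a⁻¹ := by group
        _ = _ := by rw [h]; group
    have e2 : b * v * b⁻¹ = x * v * x⁻¹ := by
      have h := Subgroup.mem_centralizer_singleton_iff.mp hx2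
      calc b * v * b⁻¹ = x * (x⁻¹ * b * v) * b⁻¹ := by group
        _ = _ := by rw [h]; group
    show x * (t * v) * x⁻¹ = a * t * a⁻¹ * (b * v * b⁻¹)
    rw [e1, e2]; group
  have hWd : Nat.card W ∣ Nat.card T * Nat.card K := by
    rw [hW, hT, hK, card_conjSet, card_conjSet, card_conjSet]
    set C := Subgroup.centralizer ({t} : Set G)
    set C' := Subgroup.centralizer ({v} : Set G)
    have heq : C.index * C'.index = (C ⊓ C').index :=
      le_antisymm (Nat.le_of_dvd (Nat.pos_of_ne_zero Subgroup.index_ne_zero_of_finite)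
        (hco.mul_dvd_of_dvd_of_dvd (Subgroup.index_dvd_of_le inf_le_left)
          (Subgroup.index_dvd_of_le inf_le_right))) (Subgroup.index_inf_le ..)
    rw [heq]
    refine Subgroup.index_dvd_of_le fun a ha => Subgroup.mem_centralizer_singleton_iff.mpr ?_
    obtain ⟨h1, h2⟩ := Subgroup.mem_inf.mp ha
    exact (Commute.mul_right (Subgroup.mem_centralizer_singleton_iff.mp h1)
      (Subgroup.mem_centralizer_singleton_iff.mp h2) : Commute a (t * v)).eq
  have hwV : w ∈ V := mul_mem htV hv
  have hbij : ∀ (A : Set G) (F : A → W), Function.Injective F → Nat.card W ≤ Nat.card A →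
      ∀ (c : G) (hc : c ∈ W), ∃ a, F a = ⟨c, hc⟩ :=
    fun A F hF hle c hc => (hF.bijective_of_nat_card_le hle).2 _
  have : Nonempty T := ⟨⟨t, self_mem_conjSet t⟩⟩
  have : Nonempty K := ⟨⟨v, self_mem_conjSet v⟩⟩
  by_cases hwπ : HasPi π w
  · -- the class of `t` is translated into itself
    have hallW := hpure w hwV hwπ
    have hle : Nat.card W ≤ Nat.card T := by
      refine Nat.le_of_dvd Nat.card_pos ((Nat.Coprime.dvd_of_dvd_mul_right ?_) hWd)
      rw [hW, hK, card_conjSet, card_conjSet]
      exact Nat.coprime_of_dvd fun r hr h1 h2 => hvπ ⟨r, hr, hallW r hr h1, h2⟩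
    obtain ⟨g, hg⟩ : ∃ g : G, g * v * g⁻¹ ≠ v := by
      by_contra hall
      push Not at hall
      exact hvc (Subgroup.mem_center_iff.mpr fun g => mul_inv_eq_iff_eq_mul.mp (hall g))
    set v' := g * v * g⁻¹ with hv'
    have hv'K : v' ∈ K := ⟨g, rfl⟩
    have hmem : ∀ a ∈ T, a * (v * v'⁻¹) ∈ T := by
      intro a ha
      obtain ⟨⟨b, hb⟩, hbe⟩ := hbij T (fun a => ⟨a.1 * v', hprod a.1 a.2 v' hv'K⟩)
        (fun a b h => Subtype.ext (mul_right_cancel (congrArg Subtype.val h))) hle
        (a * v) (hprod a ha v (self_mem_conjSet v))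
      have e : b * v' = a * v := congrArg Subtype.val hbe
      rw [← mul_assoc, ← e, mul_inv_cancel_right]
      exact hb
    have hdV : v * v'⁻¹ ∈ V := mul_mem hv (inv_mem (hKV v' hv'K))
    have heven := even_card_of_fpf (fun a : T => (⟨a.1 * (v * v'⁻¹), hmem a.1 a.2⟩ : T))
      (fun a => Subtype.ext (show a.1 * (v * v'⁻¹) * (v * v'⁻¹) = a.1 by
        rw [mul_assoc, hsq _ hdV, mul_one]))
      (fun a h => hg (mul_inv_eq_one.mp (mul_eq_left.mp (congrArg Subtype.val h))).symm)
    rw [hT, card_conjSet, even_iff_two_dvd] at heven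
    exact h2 (hallT 2 Nat.prime_two heven)
  · -- the class of `v` is translated into itself
    have hle : Nat.card W ≤ Nat.card K := by
      refine Nat.le_of_dvd Nat.card_pos ((Nat.Coprime.dvd_of_dvd_mul_left ?_) hWd)
      rw [hW, hT, card_conjSet, card_conjSet]
      exact Nat.coprime_of_dvd fun r hr h1 h2 => hwπ ⟨r, hr, hallT r hr h2, h1⟩
    have hstep : ∀ a ∈ T, ∀ b ∈ K, t * a * b ∈ K := by
      intro a ha b hb
      obtain ⟨⟨c, hc⟩, hce⟩ := hbij K (fun c => ⟨t * c.1, hprod t (self_mem_conjSet t) c.1 c.2⟩)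
        (fun a b h => Subtype.ext (mul_left_cancel (congrArg Subtype.val h))) hle
        (a * b) (hprod a ha b hb)
      have e : t * c = a * b := congrArg Subtype.val hce
      rw [mul_assoc, ← e, ← mul_assoc, hsq t htV, one_mul]
      exact hc
    let P : G → Prop := fun d => ∀ b, d * b ∈ K ↔ b ∈ K
    have hPmul : ∀ d e, P d → P e → P (d * e) := fun d e hd he b => by
      rw [mul_assoc, hd, he]
    have hPt : ∀ a ∈ T, P (t * a) := by
      intro a ha b
      refine ⟨fun h => ?_, hstep a ha b⟩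
      have h' := hstep a ha _ h
      rwa [← mul_assoc (t * a), hsq _ (mul_mem htV (hTV a ha)), one_mul] at h'
    have hall : ∀ x ∈ V, P x ∨ P (t * x) := by
      intro x hx
      induction hx using Subgroup.closure_induction with
      | mem a ha => exact Or.inr (hPt a ha)
      | one => exact Or.inl fun b => by rw [one_mul]
      | mul a b ha hb iha ihb =>
        have hta : Commute t a := hcom t htV a ha
        rcases iha with iha | iha <;> rcases ihb with ihb | ihb
        · exact Or.inl (hPmul a b iha ihb)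
        · refine Or.inr ?_
          have := hPmul a (t * b) iha ihb
          rwa [← mul_assoc, ← hta.eq, mul_assoc] at this
        · refine Or.inr ?_
          have := hPmul (t * a) b iha ihb
          rwa [mul_assoc] at this
        · refine Or.inl ?_
          have := hPmul (t * a) (t * b) iha ihb
          rwa [mul_assoc t a, ← mul_assoc a t, ← hta.eq, mul_assoc t a, ← mul_assoc t t,
            hsq t htV, one_mul] at this
      | inv a ha iha => rwa [inv_eq_of_mul_eq_one_right (hsq a ha)]
    rcases hall v hv with h | h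
    · have h1 := (h v).mpr (self_mem_conjSet v)
      rw [hsq v hv] at h1
      obtain ⟨g, hg⟩ := h1
      exact hvc ((conj_eq_one_iff.mp hg) ▸ one_mem _)
    · have h1 := (h v).mpr (self_mem_conjSet v)
      rw [mul_assoc, hsq v hv, mul_one] at h1
      obtain ⟨q, hq, hqπ, hqd⟩ := htπ
      refine hvπ ⟨q, hq, hqπ, ?_⟩
      rwa [← card_conjSet, ← conjSet_eq_of_mem h1, card_conjSet]

/-- An element of the elementary abelian normal subgroup with class of odd size is centralised by
its stabiliser modulo the centre. -/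
theorem commute_of_mul_center {v g : G} (hsq : ∀ h : G, (v * (h * v * h⁻¹)) * (v * (h * v * h⁻¹)) = 1)
    (hv : v * v = 1) (hodd : ¬ 2 ∣ (Subgroup.centralizer ({v} : Set G)).index)
    (hz : v⁻¹ * (g * v * g⁻¹) ∈ Subgroup.center G) : Commute g v := by
  set z := v⁻¹ * (g * v * g⁻¹) with hzdef
  by_contra hne
  have hz1 : z ≠ 1 := fun e => hne (mul_inv_eq_iff_eq_mul.mp (inv_mul_eq_one.mp e).symm)
  have hzz : z * z = 1 := by
    rw [hzdef, inv_eq_of_mul_eq_one_right hv]
    exact hsq g
  apply hodd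
  rw [← card_conjSet, ← even_iff_two_dvd]
  refine even_card_of_fpf (fun a => (⟨(a : G) * z, ?_⟩ : conjSet v))
    (fun a => Subtype.ext (show (a : G) * z * z = a by rw [mul_assoc, hzz, mul_one]))
    fun a ha => ?_
  · obtain ⟨x, hx⟩ := a.2
    refine ⟨x * g, ?_⟩
    have hc : x⁻¹ * z = z * x⁻¹ := Subgroup.mem_center_iff.mp hz x⁻¹
    show x * g * v * (x * g)⁻¹ = (a : G) * z
    rw [← hx]
    calc x * g * v * (x * g)⁻¹ = x * (v * z) * x⁻¹ := by rw [hzdef]; group
      _ = x * v * (z * x⁻¹) := by group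
      _ = _ := by rw [← hc]; group
  · exact hz1 (mul_eq_left.mp (congrArg Subtype.val ha))

end Translation

variable {G : Type u} [Group G] [Finite G] {π : Set ℕ}

/-- A finite group with a proper component `π` of its real class size graph avoiding `2` is
solvable. -/
theorem PureHyp.isSolvable (H : PureHyp G π) : Group.IsSolvable G := by
  classical
  have h2F := Fact.mk Nat.prime_two
  obtain ⟨t, ht, htπ⟩ := H.exists_involution
  obtain ⟨O, hOn, hOodd, hOmax⟩ := exists_max_odd_normal G
  set f : G →* G ⧸ O := QuotientGroup.mk' O with hf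
  have hfs : Function.Surjective f := QuotientGroup.mk'_surjective O
  suffices hG1 : Group.IsSolvable (G ⧸ O) by
    have : Group.IsSolvable O := Cfsg.Agent.S0205.result hOodd
    exact Group.isSolvable_of_ker_le_range O.subtype f
      (by rw [hf, QuotientGroup.ker_mk', Subgroup.range_subtype])
  -- class sizes in the quotient
  have hidx : ∀ x : G, (Subgroup.centralizer ({f x} : Set (G ⧸ O))).index ∣
      (Subgroup.centralizer ({x} : Set G)).index := fun x =>
    (Subgroup.index_dvd_of_le (by
      rintro _ ⟨a, ha, rfl⟩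
      rw [Subgroup.mem_centralizer_singleton_iff, ← map_mul, ← map_mul,
        Subgroup.mem_centralizer_singleton_iff.mp ha])).trans
      (Subgroup.index_map_dvd (Subgroup.centralizer ({x} : Set G)) hfs)
  have hreal1 : ∀ z : G ⧸ O, RealOdd z → z ≠ 1 → ¬ HasPi π z := by
    intro z hz hz1
    obtain ⟨y, hy, hyz⟩ := exists_realOdd_lift f hfs hz
    rintro ⟨q, hq, hqπ, hqd⟩
    refine H.real hy (fun e => hz1 (by rw [← hyz, e, map_one])) ⟨q, hq, hqπ, ?_⟩
    rw [← hyz] at hqd
    exact hqd.trans (hidx y)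
  have hlift : ∀ v : G ⧸ O, v * v = 1 → ∃ x : G, x * x = 1 ∧ f x = v := by
    intro v hv
    have hd : orderOf v ∣ 2 := orderOf_dvd_of_pow_eq_one (by rw [pow_two, hv])
    obtain ⟨x, hx, hxo⟩ := Elem69.exists_lift_same_order O v
      (((Nat.coprime_two_left).mpr hOodd).coprime_dvd_left hd)
    exact ⟨x, by rw [← pow_two]; exact orderOf_dvd_iff_pow_eq_one.mp (hxo ▸ hd), hx⟩
  have hpure1 : ∀ v : G ⧸ O, v * v = 1 → HasPi π v → ∀ r : ℕ, r.Prime →
      r ∣ (Subgroup.centralizer ({v} : Set (G ⧸ O))).index → r ∈ π := by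
    intro v hv ⟨q, hq, hqπ, hqd⟩ r hr hrd
    obtain ⟨x, hx, rfl⟩ := hlift v hv
    exact H.pure x 1 (inv_of_mul_self hx) q hq hqπ (hqd.trans (hidx x)) r hr (hrd.trans (hidx x))
  have hallπ : ∀ x : G, x * x = 1 → HasPi π x → ∀ r : ℕ, r.Prime →
      r ∣ (Subgroup.centralizer ({x} : Set G)).index → r ∈ π :=
    fun x hx ⟨q, hq, hqπ, hqd⟩ => H.pure x 1 (inv_of_mul_self hx) q hq hqπ hqd
  have hnoc : ∀ x : G, x * x = 1 → HasPi π x → ∀ y : G ⧸ O, RealOdd y → Commute (f x) y →
      y = 1 := by
    intro x hx hxπ y hy hc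
    by_contra hy1
    obtain ⟨b, hby, hbv⟩ := exists_inverter_commute (v := f x) hy (Nat.coprime_of_dvd fun r hr h1 h2 =>
      hreal1 y hy hy1 ⟨r, hr, hallπ x hx hxπ r hr (h2.trans (hidx x)), h1⟩)
    let C := Subgroup.centralizer ({x} : Set G)
    let f' : C →* Subgroup.centralizer ({f x} : Set (G ⧸ O)) :=
      (f.comp C.subtype).codRestrict _ (fun a => by
        rw [Subgroup.mem_centralizer_singleton_iff]
        show f (a : G) * f x = f x * f (a : G)
        rw [← map_mul, ← map_mul, Subgroup.mem_centralizer_singleton_iff.mp a.2])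
    have hf' : Function.Surjective f' := by
      rintro ⟨a1, ha1⟩
      obtain ⟨a, rfl⟩ := hfs a1
      have hd : orderOf x ∣ 2 := orderOf_dvd_of_pow_eq_one (by rw [pow_two, hx])
      obtain ⟨b', hb', hb''⟩ := Elem69.exists_conj_lift O (u := x) (a := a) 1
        (((Nat.coprime_two_left).mpr hOodd).coprime_dvd_left hd)
        ((QuotientGroup.eq_one_iff _).mp (by
          show f ((x ^ (1 : ℤ))⁻¹ * (a * x * a⁻¹)) = 1
          rw [zpow_one, map_mul, map_mul, map_mul, map_inv, map_inv,
            Subgroup.mem_centralizer_singleton_iff.mp ha1]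
          group))
      rw [zpow_one] at hb''
      refine ⟨⟨b' * a, Subgroup.mem_centralizer_singleton_iff.mpr (mul_inv_eq_iff_eq_mul.mp hb'')⟩,
        Subtype.ext ?_⟩
      show f (b' * a) = f a
      rw [map_mul, show f b' = 1 from (QuotientGroup.eq_one_iff b').mpr hb', one_mul]
    have hyC : y ∈ Subgroup.centralizer ({f x} : Set (G ⧸ O)) :=
      Subgroup.mem_centralizer_singleton_iff.mpr hc.symm.eq
    have hbC : b ∈ Subgroup.centralizer ({f x} : Set (G ⧸ O)) :=
      Subgroup.mem_centralizer_singleton_iff.mpr hbv.eq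
    obtain ⟨y', hy', hy'y⟩ := exists_realOdd_lift f' hf' (z := ⟨y, hyC⟩)
      ⟨by rw [Subgroup.orderOf_mk]; exact hy.1, ⟨b, hbC⟩, Subtype.ext hby⟩
    have h1 : (y' : G) = 1 := H.noCommute hx hxπ (hy'.map C.subtype)
      (show Commute x (y' : G) from (Subgroup.mem_centralizer_singleton_iff.mp y'.2).symm)
    rw [show y' = 1 from Subtype.ext h1, map_one] at hy'y
    exact hy1 (congrArg Subtype.val hy'y).symm
  -- the image of `t`
  set t1 := f t with ht1
  have ht11 : t1 * t1 = 1 := by rw [ht1, ← map_mul, ht, map_one]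
  obtain ⟨N, hNn, hN2, htN⟩ : ∃ N : Subgroup (G ⧸ O), N.Normal ∧ IsPGroup 2 N ∧ t1 ∈ N := by
    refine Involution.baer_suzuki_element t1 fun g1 => ?_
    obtain ⟨g, rfl⟩ := hfs g1
    set t' := g * t * g⁻¹ with ht'
    have ht1' : f g * t1 * (f g)⁻¹ = f t' := by rw [ht', map_mul, map_mul, map_inv]
    have h2' : f t' * f t' = 1 := by
      rw [← map_mul, ht']
      rw [show g * t * g⁻¹ * (g * t * g⁻¹) = g * (t * t) * g⁻¹ by group, ht, mul_one,
        mul_inv_cancel, map_one]
    obtain ⟨j, hjo, -, h2, -⟩ := dihedral_split ht11 h2'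
    rw [ht1']
    refine h2 ?_
    obtain ⟨a, o, ho, hn⟩ := two_pow_mul_odd (orderOf_pos ((t * t') ^ j)).ne'
    have hy : Odd (orderOf ((t * t') ^ (j * 2 ^ a))) := by
      rw [pow_mul, orderOf_pow, hn, Nat.gcd_mul_right_left,
        Nat.mul_div_cancel_left _ (Nat.two_pow_pos a)]
      exact ho
    refine eq_one_of_twoEl_odd ⟨a, ?_⟩ hjo
    rw [ht1, ← map_mul, ← map_pow, ← map_pow, ← pow_mul]
    exact (QuotientGroup.eq_one_iff _).mpr (H.odd_part_mem ht htπ hOmax g _ hy)
  have hNt : ∀ n ∈ N, Commute n t1 := by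
    obtain ⟨S, hS⟩ := exists_sylow_le (Subgroup.centralizer ({t1} : Set (G ⧸ O))) (p := 2)
      (not_dvd_of_all Nat.prime_two (fun r hr hrd => hallπ t ht htπ r hr (hrd.trans (hidx t)))
        H.not_two)
    intro n hn
    have hsup := hN2.to_sup_of_normal_left S.2
    have hle : N ≤ (S : Subgroup (G ⧸ O)) := S.3 hsup le_sup_right ▸ le_sup_left
    exact Subgroup.mem_centralizer_singleton_iff.mp (hS (hle hn))
  have hKN : ∀ a ∈ conjSet t1, a ∈ N := by
    rintro _ ⟨g, rfl⟩
    exact hNn.conj_mem t1 htN g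
  have hKc : ∀ a ∈ conjSet t1, ∀ b ∈ conjSet t1, a * b = b * a := by
    rintro a ha _ ⟨g, rfl⟩
    have h := ((hNt _ (hNn.conj_mem a (hKN a ha) g⁻¹)).map (MulAut.conj g).toMonoidHom).eq
    simpa [mul_assoc] using h
  set V := Subgroup.closure (conjSet t1) with hV
  have hVc : ∀ a ∈ V, ∀ b ∈ V, Commute a b := fun a ha b hb => commute_of_mem_closure hKc ha hb
  have hVsq : ∀ a ∈ V, a * a = 1 := by
    intro a ha
    induction ha using Subgroup.closure_induction with
    | mem b hb =>
      obtain ⟨g, rfl⟩ := hb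
      calc g * t1 * g⁻¹ * (g * t1 * g⁻¹) = g * (t1 * t1) * g⁻¹ := by group
        _ = 1 := by rw [ht11]; group
    | one => rw [one_mul]
    | mul a b ha hb iha ihb =>
      calc a * b * (a * b) = a * (b * a) * b := by group
        _ = (a * a) * (b * b) := by rw [← (hVc a ha b hb).eq]; group
        _ = 1 := by rw [iha, ihb, one_mul]
    | inv a ha iha => rw [← mul_inv_rev, iha, inv_one]
  have hVn : V.Normal := ⟨fun a ha c => by
    have : V ≤ V.comap (MulAut.conj c).toMonoidHom :=
      (Subgroup.closure_le _).mpr fun b hb => Subgroup.subset_closure (conj_mem_conjSet hb c)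
    exact this ha⟩
  have htV : t1 ∈ V := Subgroup.subset_closure (self_mem_conjSet t1)
  by_cases htc : t1 ∈ Subgroup.center (G ⧸ O)
  · refine isSolvable_of_no_realOdd (G ⧸ O) fun y hy => hnoc t ht htπ y hy ?_
    exact (Subgroup.mem_center_iff.mp htc y).symm
  have htπ1 : HasPi π t1 := by
    have hne : (Subgroup.centralizer ({t1} : Set (G ⧸ O))).index ≠ 1 := fun e => htc
      (Subgroup.mem_center_iff.mpr fun g => Subgroup.mem_centralizer_singleton_iff.mp
        ((Subgroup.index_eq_one.mp e).symm ▸ Subgroup.mem_top g))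
    obtain ⟨r, hr, hrd⟩ := Nat.exists_prime_and_dvd hne
    exact ⟨r, hr, hallπ t ht htπ r hr (hrd.trans (hidx t)), hrd⟩
  have hVπ : ∀ v ∈ V, v ∉ Subgroup.center (G ⧸ O) → HasPi π v := fun v hv hvc =>
    hasPi_of_mem_closure H.not_two hVsq hVc (fun a ha => hpure1 a (hVsq a ha)) htπ1 hv hvc
  have hVno : ∀ v ∈ V, v ∉ Subgroup.center (G ⧸ O) → ∀ y : G ⧸ O, RealOdd y → Commute v y →
      y = 1 := by
    intro v hv hvc y hy hc
    obtain ⟨x, hx, hxv⟩ := hlift v (hVsq v hv)
    obtain ⟨q, hq, hqπ, hqd⟩ := hVπ v hv hvc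
    rw [← hxv] at hqd hc
    exact hnoc x hx ⟨q, hq, hqπ, hqd.trans (hidx x)⟩ y hy hc
  -- the module
  set Z := Subgroup.center (G ⧸ O) with hZ
  set p := QuotientGroup.mk' Z with hp
  set W := V.map p with hW
  have hWn : W.Normal := hVn.map p (QuotientGroup.mk'_surjective Z)
  letI : CommGroup W := { (inferInstance : Group W) with
    mul_comm := by
      rintro ⟨_, a, ha, rfl⟩ ⟨_, b, hb, rfl⟩
      exact Subtype.ext (show p a * p b = p b * p a by
        rw [← map_mul, ← map_mul, (hVc a ha b hb).eq]) }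
  let φ : (G ⧸ O) →* MulAut W := (MulAut.conjNormal (H := W)).comp p
  have hφ : ∀ (g : G ⧸ O) (a : W), ((φ g a : W) : (G ⧸ O) ⧸ Z) = p g * a * (p g)⁻¹ :=
    fun g a => MulAut.conjNormal_apply (p g) a
  letI : DistribMulAction φ.range (Additive W) :=
    { smul := fun x a => Additive.ofMul ((x : MulAut W) (Additive.toMul a))
      one_smul := fun a => rfl
      mul_smul := fun x y a => rfl
      smul_zero := fun x => congrArg Additive.ofMul (map_one (x : MulAut W))
      smul_add := fun x a b => congrArg Additive.ofMul (map_mul (x : MulAut W) _ _) }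
  haveI : FaithfulSMul φ.range (Additive W) := ⟨fun {x y} h => Subtype.ext (MulEquiv.ext fun a =>
    congrArg Additive.toMul (h (Additive.ofMul a)))⟩
  have hWrep : ∀ a : Additive W, a ≠ 0 → ∃ v ∈ V, v ∉ Z ∧
      ((Additive.toMul a : W) : (G ⧸ O) ⧸ Z) = p v := by
    intro a ha
    obtain ⟨v, hv, hva⟩ := (Additive.toMul a : W).2
    refine ⟨v, hv, fun hvZ => ha ?_, hva.symm⟩
    apply Additive.toMul.injective
    apply Subtype.ext
    rw [← hva]
    exact (QuotientGroup.eq_one_iff v).mpr hvZ
  have hfix : ∀ (g : G ⧸ O) (a : Additive W) (v : G ⧸ O), v ∈ V → v ∉ Z →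
      ((Additive.toMul a : W) : (G ⧸ O) ⧸ Z) = p v → (φ.rangeRestrict g • a = a ↔ Commute g v) := by
    intro g a v hv hvc hva
    have hiff : φ.rangeRestrict g • a = a ↔ p (g * v * g⁻¹) = p v := by
      rw [map_mul, map_mul, map_inv, ← hva, ← hφ]
      constructor
      · intro h
        exact congrArg (fun b : Additive W => ((Additive.toMul b : W) : (G ⧸ O) ⧸ Z)) h
      · intro h
        exact Additive.toMul.injective (Subtype.ext h)
    rw [hiff]
    constructor
    · intro h
      refine commute_of_mul_center (fun h => hVsq _ (mul_mem hv (hVn.conj_mem v hv h))) (hVsq v hv)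
        (not_dvd_of_all Nat.prime_two (hpure1 v (hVsq v hv) (hVπ v hv hvc)) H.not_two) ?_
      exact QuotientGroup.eq.mp h.symm
    · intro h
      rw [h.eq, mul_inv_cancel_right]
  have htW : (Additive.ofMul (⟨p t1, t1, htV, rfl⟩ : W) : Additive W) ≠ 0 := fun e =>
    htc ((QuotientGroup.eq_one_iff t1).mp (congrArg Subtype.val (congrArg Additive.toMul e)))
  have hker : Group.IsSolvable φ.ker := by
    refine isSolvable_of_no_realOdd _ fun y hy => Subtype.ext ?_
    refine hVno t1 htV htc _ (hy.map φ.ker.subtype) ?_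
    refine ((hfix y (Additive.ofMul ⟨p t1, t1, htV, rfl⟩) t1 htV htc rfl).mp ?_).symm
    rw [show φ.rangeRestrict (y : G ⧸ O) = 1 from Subtype.ext (MonoidHom.mem_ker.mp y.2), one_smul]
  have hX : TopHyp φ.range (Additive W) π := by
    refine
      { two := ?_
        nontriv := ⟨_, htW⟩
        not_two := H.not_two
        stab := ?_
        fpf := ?_
        real := ?_ }
    · intro a
      obtain ⟨v, hv, hva⟩ := (Additive.toMul a : W).2
      apply Additive.toMul.injective
      apply Subtype.ext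
      show ((Additive.toMul a : W) : (G ⧸ O) ⧸ Z) * (Additive.toMul a : W) = 1
      rw [← hva, ← map_mul, hVsq v hv, map_one]
    · intro a ha q hq hqd
      obtain ⟨v, hv, hvc, hva⟩ := hWrep a ha
      refine hpure1 v (hVsq v hv) (hVπ v hv hvc) q hq ?_
      rw [← Subgroup.index_comap_of_surjective _ φ.rangeRestrict_surjective] at hqd
      refine hqd.trans (dvd_of_eq (congrArg Subgroup.index ?_))
      ext g
      rw [Subgroup.mem_comap, MulAction.mem_stabilizer_iff, hfix g a v hv hvc hva,
        Subgroup.mem_centralizer_singleton_iff]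
      rfl
    · intro z hz a hza ha
      obtain ⟨y, hy, rfl⟩ := exists_realOdd_lift φ.rangeRestrict φ.rangeRestrict_surjective hz
      obtain ⟨v, hv, hvc, hva⟩ := hWrep a ha
      rw [hVno v hv hvc y hy ((hfix y a v hv hvc hva).mp hza).symm, map_one]
    · intro z hz hz1 q hq hqd hqπ
      obtain ⟨y, hy, rfl⟩ := exists_realOdd_lift φ.rangeRestrict φ.rangeRestrict_surjective hz
      refine hreal1 y hy (fun e => hz1 (by rw [e, map_one])) ⟨q, hq, hqπ, hqd.trans ?_⟩
      exact (Subgroup.index_dvd_of_le (by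
        rintro _ ⟨a, ha, rfl⟩
        rw [Subgroup.mem_centralizer_singleton_iff, ← map_mul, ← map_mul,
          Subgroup.mem_centralizer_singleton_iff.mp ha])).trans
        (Subgroup.index_map_dvd (Subgroup.centralizer ({y} : Set (G ⧸ O))) φ.rangeRestrict_surjective)
  have : Finite φ.range := Finite.of_surjective _ φ.rangeRestrict_surjective
  have := hX.isSolvable
  exact Group.isSolvable_of_ker_le_range φ.ker.subtype φ.rangeRestrict
    (by rw [Subgroup.range_subtype, MonoidHom.ker_rangeRestrict])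

end Cfsg.Agent.Lib.RealGraph
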