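import Mathlib
import Cfsg.Agent.Lib.MinimalNormal
import Cfsg.Agent.Lib.RealGraph.Main

/-!
# The structure of a group with disconnected real class size graph

The odd primes dividing the order of the subgroup generated by the 2-elements all belong to the
component not containing 2.
-/

set_option autoImplicit false

namespace Cfsg.Agent.Lib.RealGraph

universe u

/-- The subgroup generated by the 2-elements. -/
abbrev twoGen (G : Type*) [Group G] : Subgroup G :=
  Subgroup.closure {g : G | ∃ k : ℕ, orderOf g = 2 ^ k}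

theorem TwoEl.mem_twoGen {G : Type*} [Group G] {x : G} (h : TwoEl x) : x ∈ twoGen G := by
  obtain ⟨k, hk⟩ := h
  obtain ⟨j, -, hj⟩ := (Nat.dvd_prime_pow Nat.prime_two).mp (orderOf_dvd_of_pow_eq_one hk)
  exact Subgroup.subset_closure ⟨j, hj⟩

theorem twoEl_of_orderOf {G : Type*} [Group G] {x : G} {k : ℕ} (h : orderOf x = 2 ^ k) : TwoEl x :=
  ⟨k, h ▸ pow_orderOf_eq_one x⟩

instance twoGen_normal (G : Type*) [Group G] : (twoGen G).Normal := ⟨fun a ha c => by
  have : twoGen G ≤ (twoGen G).comap (MulAut.conj c).toMonoidHom :=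
    (Subgroup.closure_le _).mpr fun b ⟨k, hk⟩ => Subgroup.subset_closure ⟨k, by
      rw [← hk]
      exact orderOf_injective (MulAut.conj c).toMonoidHom (MulAut.conj c).injective b⟩
  exact this ha⟩

/-- A real element lies in the subgroup generated by the 2-elements, and is real there. -/
theorem real_mem_twoGen {G : Type*} [Group G] [Finite G] {x g : G} (h : g * x * g⁻¹ = x⁻¹) :
    x ∈ twoGen G ∧ ∃ u ∈ twoGen G, u * x * u⁻¹ = x⁻¹ := by
  obtain ⟨o, ho2, hox⟩ := exists_two_inverter h
  set u := g ^ o
  have hu := ho2.mem_twoGen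
  refine ⟨?_, u, hu, hox⟩
  -- the square is a commutator with `u`
  have h2 : x ^ 2 ∈ twoGen G := by
    have hm := mul_mem ((inferInstance : (twoGen G).Normal).conj_mem u hu x) (inv_mem hu)
    have e : x * u * x⁻¹ * u⁻¹ = x ^ 2 := by
      calc x * u * x⁻¹ * u⁻¹ = x * (u * x * u⁻¹)⁻¹ := by group
        _ = x ^ 2 := by rw [hox, inv_inv, pow_two]
    rwa [e] at hm
  obtain ⟨a, o', ho', hn⟩ := two_pow_mul_odd (orderOf_pos x).ne'
  obtain ⟨j, hj⟩ := ho'
  have hx : TwoEl (x ^ o') := ⟨a, by rw [← pow_mul, mul_comm, ← hn, pow_orderOf_eq_one]⟩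
  have hm := mul_mem hx.mem_twoGen (inv_mem (pow_mem h2 j))
  rwa [hj, pow_succ', ← pow_mul, mul_inv_cancel_right] at hm

/-- For a normal subgroup, its class sizes divide those of the group. -/
theorem index_centralizer_dvd {G : Type*} [Group G] [Finite G] (K : Subgroup G) [K.Normal] (x : K) :
    (Subgroup.centralizer ({x} : Set K)).index ∣
      (Subgroup.centralizer ({(x : G)} : Set G)).index := by
  set C := Subgroup.centralizer ({(x : G)} : Set G) with hC
  have e : Subgroup.centralizer ({x} : Set K) = C.subgroupOf K := by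
    ext a
    rw [Subgroup.mem_subgroupOf, hC, Subgroup.mem_centralizer_singleton_iff,
      Subgroup.mem_centralizer_singleton_iff]
    exact ⟨fun h => congrArg Subtype.val h, fun h => Subtype.ext h⟩
  rw [e, ← Subgroup.relIndex]
  have h1 : C.relIndex K * K.index = (C ⊓ K).index := by
    rw [← Subgroup.inf_relIndex_right, Subgroup.relIndex_mul_index inf_le_right]
  have h2 : K.relIndex C * C.index = (C ⊓ K).index := by
    rw [← Subgroup.inf_relIndex_left, Subgroup.relIndex_mul_index inf_le_left]
  obtain ⟨r, hr⟩ := Subgroup.relIndex_dvd_index_of_normal K C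
  refine Dvd.intro r (Nat.eq_of_mul_eq_mul_left (n := K.relIndex C) ?_ ?_)
  · exact Nat.pos_of_ne_zero fun h0 => Subgroup.index_ne_zero_of_finite (H := K) (by rw [hr, h0, zero_mul])
  · rw [mul_left_comm, ← hr, h1, h2]

/-- If a subgroup of index prime to `q` normalises a 2-subgroup of odd index, then `q` does not
divide the order of the subgroup generated by the 2-elements. -/
theorem not_dvd_card_twoGen {q : ℕ} [Fact q.Prime] (hq2 : q ≠ 2) :
    ∀ (n : ℕ) (G : Type u) [Group G] [Finite G] [Group.IsSolvable G], Nat.card G = n →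
      ∀ C S : Subgroup G, IsPGroup 2 S → ¬ 2 ∣ S.index →
        (∀ c ∈ C, ∀ s ∈ S, c * s * c⁻¹ ∈ S) → ¬ q ∣ C.index → ¬ q ∣ Nat.card (twoGen G) := by
  intro n
  induction n using Nat.strong_induction_on with
  | _ n ih =>
    intro G _ _ _ hn C S hS hSi hCS hCi hdvd
    have h2F := Fact.mk Nat.prime_two
    have hq : q.Prime := Fact.out
    set K := twoGen G with hK
    have hKne : K ≠ ⊥ := fun e => by
      rw [e, Subgroup.card_bot] at hdvd
      exact hq.not_dvd_one hdvd
    obtain ⟨N, hNn, hNne, hNK, hmin⟩ :=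
      MinimalNormal.exists_minimal_normal_le (inferInstance : K.Normal) hKne
    obtain ⟨hNc, r, hr, hexp⟩ := MinimalNormal.elementaryAbelian N hNne hmin
    have hNr : IsPGroup r N := fun y => ⟨1, Subtype.ext (by rw [pow_one]; exact hexp y y.2)⟩
    set f := QuotientGroup.mk' N with hf
    have hfs : Function.Surjective f := QuotientGroup.mk'_surjective N
    -- the inductive hypothesis on the quotient
    have hquot : ¬ q ∣ Nat.card (K.map f) := by
      have hlt : Nat.card (G ⧸ N) < n := by
        rw [← hn, Subgroup.card_eq_card_quotient_mul_card_subgroup N]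
        refine lt_mul_of_one_lt_right Nat.card_pos ?_
        exact Finite.one_lt_card_iff_nontrivial.mpr ((Subgroup.nontrivial_iff_ne_bot N).mpr hNne)
      have hK' : twoGen (G ⧸ N) = K.map f := by
        apply le_antisymm
        · refine (Subgroup.closure_le _).mpr fun y ⟨k, hk⟩ => ?_
          obtain ⟨c, hc⟩ := exists_conj_mem_of_not_dvd_index (S.map f) (p := 2)
            (fun h => hSi (h.trans (Subgroup.index_map_dvd S hfs))) (x := y)
            (twoEl_of_orderOf hk).isPGroup_zpowers
          obtain ⟨s, hs, hsy⟩ := hc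
          obtain ⟨g, rfl⟩ := hfs c
          refine ⟨g⁻¹ * s * g, ?_, ?_⟩
          · simpa using (inferInstance : K.Normal).conj_mem s (twoEl_of_mem hS hs).mem_twoGen g⁻¹
          · rw [map_mul, map_mul, map_inv, hsy]; group
        · rw [Subgroup.map_le_iff_le_comap, hK]
          exact (Subgroup.closure_le _).mpr fun y ⟨k, hk⟩ =>
            ((twoEl_of_orderOf hk).map f).mem_twoGen
      rw [← hK']
      refine ih _ hlt (G ⧸ N) rfl (C.map f) (S.map f) (hS.map f)
        (fun h => hSi (h.trans (Subgroup.index_map_dvd S hfs))) ?_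
        (fun h => hCi (h.trans (Subgroup.index_map_dvd C hfs)))
      rintro _ ⟨c, hc, rfl⟩ _ ⟨s, hs, rfl⟩
      exact ⟨c * s * c⁻¹, hCS c hc s hs, by simp⟩
    have hker : (N.subgroupOf K).index = Nat.card (K.map f) := by
      have : (f.comp K.subtype).ker = N.subgroupOf K := by
        ext a
        rw [MonoidHom.mem_ker, Subgroup.mem_subgroupOf]
        exact QuotientGroup.eq_one_iff _
      rw [← this, Subgroup.index_ker, MonoidHom.range_comp, Subgroup.range_subtype]
    have hcardK : Nat.card N * Nat.card (K.map f) = Nat.card K := by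
      rw [← hker, ← Nat.card_congr (Subgroup.subgroupOfEquivOfLe hNK).toEquiv,
        Subgroup.card_mul_index]
    have hrq : r = q := by
      by_contra hne
      rw [← hcardK] at hdvd
      obtain ⟨i, hi⟩ := (haveI := Fact.mk hr; hNr.exists_card_eq)
      rcases hq.dvd_mul.mp hdvd with h | h
      · rw [hi] at h
        exact hne ((Nat.prime_dvd_prime_iff_eq hq hr).mp (hq.dvd_of_dvd_pow h)).symm
      · exact hquot h
    subst hrq
    -- the 2-elements centralise `N`
    obtain ⟨Q, hQ⟩ := exists_sylow_le C hCi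
    have hNC : N ≤ C := by
      have hsup := hNr.to_sup_of_normal_left Q.2
      exact (Q.3 hsup le_sup_right ▸ le_sup_left : N ≤ (Q : Subgroup G)).trans hQ
    have hNS : ∀ a ∈ N, ∀ s ∈ S, Commute a s := by
      intro a ha s hs
      have h1 : a * s * a⁻¹ * s⁻¹ ∈ S := mul_mem (hCS a (hNC ha) s hs) (inv_mem hs)
      have h2 : a * s * a⁻¹ * s⁻¹ ∈ N := by
        rw [show a * s * a⁻¹ * s⁻¹ = a * (s * a⁻¹ * s⁻¹) by group]
        exact mul_mem ha (hNn.conj_mem _ (inv_mem ha) s)
      have h3 : a * s * a⁻¹ * s⁻¹ = 1 := by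
        refine eq_one_of_twoEl_odd (twoEl_of_mem hS h1) ?_
        exact ((hq.odd_of_ne_two hq2)).of_dvd_nat (orderOf_dvd_of_pow_eq_one (hexp _ h2))
      exact mul_inv_eq_iff_eq_mul.mp (mul_inv_eq_one.mp h3)
    have hNKc : ∀ a ∈ N, ∀ b ∈ K, Commute a b := by
      have : K ≤ Subgroup.centralizer (N : Set G) := by
        refine (Subgroup.closure_le _).mpr fun y ⟨k, hk⟩ => ?_
        obtain ⟨c, hc⟩ := exists_conj_mem_of_not_dvd_index S hSi (x := y)
          (twoEl_of_orderOf hk).isPGroup_zpowers
        refine Subgroup.mem_centralizer_iff.mpr fun a ha => ?_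
        have := ((hNS _ (hNn.conj_mem a ha c) _ hc).map (MulAut.conj c⁻¹).toMonoidHom).eq
        simpa [mul_assoc] using this
      intro a ha b hb
      exact (Subgroup.mem_centralizer_iff.mp (this hb) a ha : a * b = b * a)
    -- a normal complement
    set M := N.subgroupOf K with hM
    obtain ⟨i, hi⟩ := hNr.exists_card_eq
    have hMcard : Nat.card M = r ^ i :=
      (Nat.card_congr (Subgroup.subgroupOfEquivOfLe hNK).toEquiv).trans hi
    obtain ⟨L, hL⟩ := Subgroup.exists_left_complement'_of_coprime (N := M) (by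
      rw [hMcard, hker]
      exact Nat.Coprime.pow_left i ((hq.coprime_iff_not_dvd).mpr hquot))
    have hLn : L.Normal := by
      refine ⟨fun l hl g => ?_⟩
      obtain ⟨⟨⟨l', hl'⟩, ⟨m, hm⟩⟩, rfl⟩ := hL.2 g
      have hcm : m * l * m⁻¹ = l :=
        Subtype.ext (show (m : G) * l * (m : G)⁻¹ = l by
          rw [(hNKc m (Subgroup.mem_subgroupOf.mp hm) l l.2).eq, mul_inv_cancel_right])
      show l' * m * l * (l' * m)⁻¹ ∈ L
      rw [show l' * m * l * (l' * m)⁻¹ = l' * (m * l * m⁻¹) * l'⁻¹ by group, hcm]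
      exact mul_mem (mul_mem hl' hl) (inv_mem hl')
    have hLtop : L = ⊤ := by
      rw [eq_top_iff]
      have hle : K ≤ L.map K.subtype := by
        refine (Subgroup.closure_le _).mpr fun y ⟨k, hk⟩ => ?_
        have hyK : y ∈ K := (twoEl_of_orderOf hk).mem_twoGen
        refine ⟨⟨y, hyK⟩, ?_, rfl⟩
        refine (QuotientGroup.eq_one_iff (⟨y, hyK⟩ : K)).mp (eq_one_of_twoEl_odd ?_ ?_)
        · exact (show TwoEl (⟨y, hyK⟩ : K) from
            ⟨k, Subtype.ext (by simpa [← hk] using pow_orderOf_eq_one y)⟩).map (QuotientGroup.mk' L)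
        · refine Odd.of_dvd_nat ((hq.odd_of_ne_two hq2).pow (n := i)) ?_
          refine (orderOf_dvd_natCard _).trans (dvd_of_eq ?_)
          rw [← Subgroup.index_eq_card, hL.symm.index_eq_card, hMcard]
      intro x _
      obtain ⟨l, hl, e⟩ := hle x.2
      rwa [← Subtype.ext (show (l : G) = x from e)]
    rw [hLtop, Subgroup.isComplement'_top_left] at hL
    refine hNne ?_
    rw [← Subgroup.card_eq_one, hi, ← hMcard, hL, Subgroup.card_bot]

end Cfsg.Agent.Lib.RealGraph
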