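import Mathlib
import Cfsg.Agent.Lib.RealGraph.Structure

/-!
# Consequences of a disconnected real class size graph
-/

set_option autoImplicit false

namespace Cfsg.Agent.Lib.RealGraph

universe u

/-- If the products of two classes form a class no larger than the first one, and a nontrivial
involutory translation occurs, then the first class has even size. -/
theorem two_dvd_of_translate {G : Type u} [Group G] [Finite G] {a b : G}
    (hprod : ∀ x ∈ conjSet a, ∀ y ∈ conjSet b, x * y ∈ conjSet (a * b))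
    (hle : Nat.card (conjSet (a * b)) ≤ Nat.card (conjSet a))
    {b' : G} (hb' : b' ∈ conjSet b) (hne : b' ≠ b) (hd : (b * b'⁻¹) * (b * b'⁻¹) = 1) :
    2 ∣ (Subgroup.centralizer ({a} : Set G)).index := by
  have hmem : ∀ x ∈ conjSet a, x * (b * b'⁻¹) ∈ conjSet a := by
    intro x hx
    have hF : Function.Injective
        (fun y : conjSet a => (⟨y.1 * b', hprod y.1 y.2 b' hb'⟩ : conjSet (a * b))) :=
      fun p q h => Subtype.ext (mul_right_cancel (congrArg Subtype.val h))
    obtain ⟨⟨y, hy⟩, hye⟩ := (hF.bijective_of_nat_card_le hle).2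
      ⟨x * b, hprod x hx b (self_mem_conjSet b)⟩
    have e : y * b' = x * b := congrArg Subtype.val hye
    rw [← mul_assoc, ← e, mul_inv_cancel_right]
    exact hy
  rw [← card_conjSet, ← even_iff_two_dvd]
  exact even_card_of_fpf (fun x : conjSet a => (⟨x.1 * (b * b'⁻¹), hmem x.1 x.2⟩ : conjSet a))
    (fun x => Subtype.ext (show x.1 * (b * b'⁻¹) * (b * b'⁻¹) = x.1 by rw [mul_assoc, hd, mul_one]))
    (fun x h => hne (mul_inv_eq_one.mp (mul_eq_left.mp (congrArg Subtype.val h))).symm)

/-- With two components there is a real class of even size. -/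
theorem exists_even {G : Type u} [Group G] [Finite G] {A B : Set ℕ} (HA : PureHyp G A)
    (HB : PureHyp G B) (hAB : Disjoint A B) :
    ∃ x g : G, g * x * g⁻¹ = x⁻¹ ∧ 2 ∣ (Subgroup.centralizer ({x} : Set G)).index := by
  by_contra hno
  push Not at hno
  have := Fact.mk Nat.prime_two
  obtain ⟨S⟩ : Nonempty (Sylow 2 G) := inferInstance
  have hSn : (S : Subgroup G).Normal := Elem69.sylow_two_normal_of_no_real_odd (fun z g ho hg => by
    by_contra hz1
    exact hno z g hg (RealOdd.two_dvd_index ⟨ho, g, hg⟩ hz1)) S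
  have := Sylow.unique_of_normal S hSn
  -- involutions commute with the Sylow subgroup and lie in it
  have hinv : ∀ v : G, v * v = 1 → v ∈ (S : Subgroup G) ∧ ∀ s ∈ (S : Subgroup G), Commute s v := by
    intro v hv
    obtain ⟨P, hP⟩ := exists_sylow_le (Subgroup.centralizer ({v} : Set G)) (p := 2)
      (hno v 1 (inv_of_mul_self hv))
    obtain ⟨Q, hQ⟩ := (twoEl_of_mul_self hv).isPGroup_zpowers.exists_le_sylow
    refine ⟨by rw [Subsingleton.elim S Q]; exact hQ (Subgroup.mem_zpowers v), fun s hs => ?_⟩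
    rw [Subsingleton.elim S P] at hs
    exact Subgroup.mem_centralizer_singleton_iff.mp (hP hs)
  obtain ⟨t, ht, q, hq, hqA, hqt⟩ := HA.exists_involution
  obtain ⟨u, hu, r, hr, hrB, hru⟩ := HB.exists_involution
  have hconj : ∀ {v : G}, v * v = 1 → ∀ {v'}, v' ∈ conjSet v → v' * v' = 1 := by
    rintro v hv _ ⟨g, rfl⟩
    calc g * v * g⁻¹ * (g * v * g⁻¹) = g * (v * v) * g⁻¹ := by group
      _ = 1 := by rw [hv]; group
  have hcomm : ∀ {v v' : G}, v * v = 1 → v' * v' = 1 → Commute v v' := fun hv hv' =>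
    ((hinv _ hv').2 _ (hinv _ hv).1)
  have hsq : ∀ {v v' : G}, v * v = 1 → v' * v' = 1 → (v * v') * (v * v') = 1 := fun hv hv' => by
    rw [(hcomm hv hv').symm.mul_mul_mul_comm, hv, hv', one_mul]
  have hallA := HA.pure t 1 (inv_of_mul_self ht) q hq hqA hqt
  have hallB := HB.pure u 1 (inv_of_mul_self hu) r hr hrB hru
  have hco : (Subgroup.centralizer ({t} : Set G)).index.Coprime
      (Subgroup.centralizer ({u} : Set G)).index :=
    Nat.coprime_of_dvd fun p hp h1 h2 => Set.disjoint_left.mp hAB (hallA p hp h1) (hallB p hp h2)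
  have hprod : ∀ x ∈ conjSet t, ∀ y ∈ conjSet u, x * y ∈ conjSet (t * u) := by
    rintro _ ⟨a, rfl⟩ _ ⟨b, rfl⟩
    obtain ⟨x, hx1, hx2⟩ := exists_common_rep hco a b
    refine ⟨x, ?_⟩
    have e1 : a * t * a⁻¹ = x * t * x⁻¹ := by
      calc a * t * a⁻¹ = x * (x⁻¹ * a * t) * a⁻¹ := by group
        _ = _ := by rw [Subgroup.mem_centralizer_singleton_iff.mp hx1]; group
    have e2 : b * u * b⁻¹ = x * u * x⁻¹ := by
      calc b * u * b⁻¹ = x * (x⁻¹ * b * u) * b⁻¹ := by group
        _ = _ := by rw [Subgroup.mem_centralizer_singleton_iff.mp hx2]; group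
    show x * (t * u) * x⁻¹ = a * t * a⁻¹ * (b * u * b⁻¹)
    rw [e1, e2]; group
  set w := t * u with hw
  have hW : Nat.card (conjSet w) ∣ Nat.card (conjSet t) * Nat.card (conjSet u) := by
    rw [card_conjSet, card_conjSet, card_conjSet]
    set C := Subgroup.centralizer ({t} : Set G)
    set C' := Subgroup.centralizer ({u} : Set G)
    have heq : C.index * C'.index = (C ⊓ C').index :=
      le_antisymm (Nat.le_of_dvd (Nat.pos_of_ne_zero Subgroup.index_ne_zero_of_finite)
        (hco.mul_dvd_of_dvd_of_dvd (Subgroup.index_dvd_of_le inf_le_left)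
          (Subgroup.index_dvd_of_le inf_le_right))) (Subgroup.index_inf_le ..)
    rw [heq]
    refine Subgroup.index_dvd_of_le fun a ha => Subgroup.mem_centralizer_singleton_iff.mpr ?_
    obtain ⟨h1, h2⟩ := Subgroup.mem_inf.mp ha
    exact (Commute.mul_right (Subgroup.mem_centralizer_singleton_iff.mp h1)
      (Subgroup.mem_centralizer_singleton_iff.mp h2) : Commute a (t * u)).eq
  have hmoved : ∀ {v : G} {p : ℕ}, p.Prime → p ∣ (Subgroup.centralizer ({v} : Set G)).index →
      ∃ v' ∈ conjSet v, v' ≠ v := by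
    intro v p hp hpd
    by_contra hall
    push Not at hall
    have htop : Subgroup.centralizer ({v} : Set G) = ⊤ := eq_top_iff.mpr fun g _ => ?_
    · rw [htop, Subgroup.index_top] at hpd
      exact hp.not_dvd_one hpd
    exact Subgroup.mem_centralizer_singleton_iff.mpr
      (mul_inv_eq_iff_eq_mul.mp (hall _ ⟨g, rfl⟩))
  have hpos : ∀ v : G, 0 < Nat.card (conjSet v) := fun v => by
    rw [card_conjSet]; exact Nat.pos_of_ne_zero Subgroup.index_ne_zero_of_finite
  by_cases hwA : HasPi A w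
  · obtain ⟨p, hp, hpA, hpw⟩ := hwA
    have hallW := HA.pure w 1 (inv_of_mul_self (hsq ht hu)) p hp hpA hpw
    obtain ⟨u', hu', hne⟩ := hmoved hr hru
    refine hno t 1 (inv_of_mul_self ht) (two_dvd_of_translate hprod ?_ hu' hne ?_)
    · refine Nat.le_of_dvd (hpos t) ((Nat.Coprime.dvd_of_dvd_mul_right ?_) hW)
      rw [card_conjSet, card_conjSet]
      exact Nat.coprime_of_dvd fun l hl h1 h2 =>
        Set.disjoint_left.mp hAB (hallW l hl h1) (hallB l hl h2)
    · rw [inv_eq_of_mul_eq_one_right (hconj hu hu')]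
      exact hsq hu (hconj hu hu')
  · obtain ⟨t', ht', hne⟩ := hmoved hq hqt
    refine hno u 1 (inv_of_mul_self hu) (two_dvd_of_translate (a := u) (b := t) ?_ ?_ ht' hne ?_)
    · intro x hx y hy
      rw [(hcomm (hconj hu hx) (hconj ht hy)).eq, (hcomm hu ht).eq]
      exact hprod y hy x hx
    · rw [(hcomm hu ht).eq]
      refine Nat.le_of_dvd (hpos u) ((Nat.Coprime.dvd_of_dvd_mul_left ?_) hW)
      rw [card_conjSet, card_conjSet]
      exact Nat.coprime_of_dvd fun l hl h1 h2 => hwA ⟨l, hl, hallA l hl h2, h1⟩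
    · rw [inv_eq_of_mul_eq_one_right (hconj ht ht')]
      exact hsq ht (hconj ht ht')

/-- The class sizes of real elements in the subgroup generated by the 2-elements. -/
theorem PureHyp.twoGen_sizes {G : Type u} [Group G] [Finite G] {A : Set ℕ} (H : PureHyp G A)
    (x : twoGen G) (hx : IsConj x x⁻¹) :
    Odd (Subgroup.centralizer ({x} : Set (twoGen G))).index ∨
      ∃ j : ℕ, (Subgroup.centralizer ({x} : Set (twoGen G))).index = 2 ^ j := by
  have : Group.IsSolvable G := H.isSolvable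
  have := Fact.mk Nat.prime_two
  obtain ⟨t, ht, q0, hq0, hq0A, hq0t⟩ := H.exists_involution
  have hall := H.pure t 1 (inv_of_mul_self ht) q0 hq0 hq0A hq0t
  set C := Subgroup.centralizer ({t} : Set G) with hC
  obtain ⟨P, hP⟩ := exists_sylow_le C (p := 2) fun h => H.not_two (hall 2 Nat.prime_two h)
  have hPn : ((P.subtype hP : Sylow 2 C) : Subgroup C).Normal :=
    Elem69.sylow_two_normal_of_no_real_odd (fun z g ho hg => by
      apply Subtype.ext
      exact H.noCommute ht ⟨q0, hq0, hq0A, hq0t⟩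
        ⟨by rwa [Subgroup.orderOf_coe], g, congrArg Subtype.val hg⟩
        (Subgroup.mem_centralizer_singleton_iff.mp z.2 : Commute (z : G) t).symm) _
  have hCP : ∀ c ∈ C, ∀ s ∈ (P : Subgroup G), c * s * c⁻¹ ∈ (P : Subgroup G) := by
    intro c hc s hs
    have := hPn.conj_mem ⟨s, hP hs⟩ (Subgroup.mem_subgroupOf.mpr hs) ⟨c, hc⟩
    exact Subgroup.mem_subgroupOf.mp this
  by_cases h2 : 2 ∣ (Subgroup.centralizer ({x} : Set (twoGen G))).index
  · refine Or.inr ⟨_, Nat.eq_prime_pow_of_unique_prime_dvd Subgroup.index_ne_zero_of_finite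
      fun {q} hq hqd => ?_⟩
    by_contra hq2
    have := Fact.mk hq
    have hqA : q ∈ A := by
      refine hall q hq (Classical.byContradiction fun hqt => ?_)
      exact not_dvd_card_twoGen hq2 _ G rfl C (P : Subgroup G) P.2 P.not_dvd_index hCP hqt
        (hqd.trans (Subgroup.index_dvd_card _))
    obtain ⟨g, hg⟩ := isConj_iff.mp hx
    have hd := index_centralizer_dvd (twoGen G) x
    exact H.not_two (H.pure (x : G) (g : G) (congrArg Subtype.val hg) q hq hqA (hqd.trans hd)
      2 Nat.prime_two (h2.trans hd))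
  · exact Or.inl (Nat.not_even_iff_odd.mp fun he => h2 he.two_dvd)

/-- Outside the case of a normal Sylow 2-subgroup, both parities occur among the real class sizes
of the subgroup generated by the 2-elements. -/
theorem PureHyp.twoGen_both {G : Type u} [Group G] [Finite G] {A : Set ℕ} (H : PureHyp G A)
    {z : G} (hz : RealOdd z) (hz1 : z ≠ 1) :
    (∃ x : twoGen G, IsConj x x⁻¹ ∧ 2 ∣ (Subgroup.centralizer ({x} : Set (twoGen G))).index) ∧
      ∃ (x : twoGen G) (q : ℕ), IsConj x x⁻¹ ∧ q.Prime ∧ q ≠ 2 ∧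
        q ∣ (Subgroup.centralizer ({x} : Set (twoGen G))).index := by
  obtain ⟨g, hg⟩ := hz.2
  obtain ⟨hzK, v, hvK, hv⟩ := real_mem_twoGen hg
  have hzr : RealOdd (⟨z, hzK⟩ : twoGen G) :=
    ⟨by rw [Subgroup.orderOf_mk]; exact hz.1, ⟨v, hvK⟩, Subtype.ext hv⟩
  have hz1' : (⟨z, hzK⟩ : twoGen G) ≠ 1 := fun e => hz1 (congrArg Subtype.val e)
  refine ⟨⟨_, isConj_iff.mpr hzr.2, hzr.two_dvd_index hz1'⟩, ?_⟩
  obtain ⟨t, ht, htA⟩ := H.exists_involution
  set t' : twoGen G := ⟨t, (twoEl_of_mul_self ht).mem_twoGen⟩ with ht'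
  have htr : IsConj t' t'⁻¹ := isConj_iff.mpr ⟨1, inv_of_mul_self (Subtype.ext ht)⟩
  have hne : (Subgroup.centralizer ({t'} : Set (twoGen G))).index ≠ 1 := by
    intro e
    have hm : (⟨z, hzK⟩ : twoGen G) ∈ Subgroup.centralizer ({t'} : Set (twoGen G)) := by
      rw [Subgroup.index_eq_one.mp e]; exact Subgroup.mem_top _
    exact hz1 (H.noCommute ht htA hz
      (congrArg Subtype.val (Subgroup.mem_centralizer_singleton_iff.mp hm)).symm)
  obtain ⟨q, hq, hqd⟩ := Nat.exists_prime_and_dvd hne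
  refine ⟨t', q, htr, hq, fun e => ?_, hqd⟩
  obtain ⟨q0, hq0, hq0A, hq0t⟩ := htA
  exact H.not_two (H.pure t 1 (inv_of_mul_self ht) q0 hq0 hq0A hq0t 2 Nat.prime_two
    ((e ▸ hqd).trans (index_centralizer_dvd (twoGen G) t')))

end Cfsg.Agent.Lib.RealGraph
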